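import Mathlib

/-!
# Simple groups with one element order of the form `2r`

The shared hypothesis for the `2r` core of the classifications of the simple groups with at most one
composite element order and of those in which no prime divides three element orders.
-/

set_option autoImplicit false

namespace CfsgLib.OneComposite

universe u

/-- A nonabelian simple group in which `r` is an odd prime, the element orders divisible by `2` are
`2` and `2 * r`, and those divisible by `r` are `r` and `2 * r`. -/
structure Hyp (G : Type u) [Group G] (r : ℕ) : Prop where
  isSimple : IsSimpleGroup G
  noncomm : ¬ IsMulCommutative G
  prime : r.Prime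
  ne_two : r ≠ 2
  even_order : ∀ g : G, 2 ∣ orderOf g → orderOf g = 2 ∨ orderOf g = 2 * r
  order_r : ∀ g : G, r ∣ orderOf g → orderOf g = r ∨ orderOf g = 2 * r
  exists_two_r : ∃ g : G, orderOf g = 2 * r

end CfsgLib.OneComposite
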