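import Cfsg.Agent.OneComposite.Hyp
import Cfsg.Agent.Coprime.Generation
import Cfsg.Agent.PrimeOrders.Basic
import Cfsg.Agent.Small.SylowArgs
import Cfsg.Agent.Small.StronglyEmbedded
import Cfsg.Agent.Transfer.Fusion
import Cfsg.Agent.Transitivity.Basic

/-!
# Elementary facts in a simple group with involution centralisers of exponent `2r`
-/

set_option autoImplicit false
set_option linter.unusedSectionVars false
set_option linter.style.haveILetI false

namespace CfsgLib.OneComposite

open Subgroup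

universe u

namespace Hyp

variable {G : Type u} [Group G] [Finite G] {r : ℕ} (h : Hyp G r)
include h

theorem r_odd : Odd r := h.prime.odd_of_ne_two h.ne_two

theorem three_le : 3 ≤ r := by
  have := h.prime.two_le
  have := h.ne_two
  omega

theorem coprime_two : Nat.Coprime 2 r := (Nat.coprime_two_left).2 h.r_odd

theorem orderOf_eq_two_of_two_pow {x : G} {k : ℕ} (hx : x ^ 2 ^ k = 1) (hx1 : x ≠ 1) :
    orderOf x = 2 := by
  obtain ⟨j, -, hj⟩ := (Nat.dvd_prime_pow Nat.prime_two).1 (orderOf_dvd_of_pow_eq_one hx)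
  have hj0 : j ≠ 0 := fun e => hx1 (orderOf_eq_one_iff.1 (by rw [hj, e, pow_zero]))
  rcases h.even_order x (hj ▸ dvd_pow_self 2 hj0) with e | e
  · exact e
  · have : r ∣ 2 := h.prime.dvd_of_dvd_pow (n := j) (by rw [← hj, e]; exact dvd_mul_left r 2)
    exact absurd ((Nat.prime_dvd_prime_iff_eq h.prime Nat.prime_two).1 this) h.ne_two

theorem sq_of_two_pow {x : G} {k : ℕ} (hx : x ^ 2 ^ k = 1) : x ^ 2 = 1 := by
  rcases eq_or_ne x 1 with rfl | hx1
  · exact one_pow 2
  · rw [← h.orderOf_eq_two_of_two_pow hx hx1, pow_orderOf_eq_one]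

theorem orderOf_eq_r_of_r_pow {x : G} {k : ℕ} (hx : x ^ r ^ k = 1) (hx1 : x ≠ 1) :
    orderOf x = r := by
  obtain ⟨j, -, hj⟩ := (Nat.dvd_prime_pow h.prime).1 (orderOf_dvd_of_pow_eq_one hx)
  have hj0 : j ≠ 0 := fun e => hx1 (orderOf_eq_one_iff.1 (by rw [hj, e, pow_zero]))
  rcases h.order_r x (hj ▸ dvd_pow_self r hj0) with e | e
  · exact e
  · have : 2 ∣ r := Nat.prime_two.dvd_of_dvd_pow (n := j) (by rw [← hj, e]; exact dvd_mul_right 2 r)
    exact absurd ((Nat.prime_dvd_prime_iff_eq Nat.prime_two h.prime).1 this).symm h.ne_two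

theorem pow_r_of_r_pow {x : G} {k : ℕ} (hx : x ^ r ^ k = 1) : x ^ r = 1 := by
  rcases eq_or_ne x 1 with rfl | hx1
  · exact one_pow r
  · rw [← h.orderOf_eq_r_of_r_pow hx hx1, pow_orderOf_eq_one]

theorem pow_two_r_of_dvd {g : G} (hd : 2 ∣ orderOf g) : g ^ (2 * r) = 1 := by
  refine orderOf_dvd_iff_pow_eq_one.1 ?_
  rcases h.even_order g hd with e | e <;> rw [e]
  exact dvd_mul_right 2 r

/-- An element of odd order commuting with an involution has order dividing `r`. -/
theorem pow_r_of_commute_invol {t g : G} (ht : orderOf t = 2) (hc : Commute t g)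
    (ho : Odd (orderOf g)) : g ^ r = 1 := by
  refine orderOf_dvd_iff_pow_eq_one.1 ?_
  have hco : (orderOf t).Coprime (orderOf g) := by rw [ht]; exact Nat.coprime_two_left.2 ho
  have hm := hc.orderOf_mul_eq_mul_orderOf_of_coprime hco
  rw [ht] at hm
  rcases h.even_order (t * g) (hm ▸ dvd_mul_right 2 _) with e | e <;> rw [hm] at e
  · rw [show orderOf g = 1 by omega]; exact one_dvd r
  · rw [show orderOf g = r by omega]

/-- Everything in the centraliser of an involution has order dividing `2r`. -/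
theorem pow_two_r_of_commute_invol {t g : G} (ht : orderOf t = 2) (hc : Commute t g) :
    g ^ (2 * r) = 1 := by
  by_cases hd : 2 ∣ orderOf g
  · exact h.pow_two_r_of_dvd hd
  · rw [mul_comm, pow_mul, h.pow_r_of_commute_invol ht hc
      (Nat.odd_iff.2 (by omega)), one_pow]

/-- An element of order prime to `r` commuting with an element of order `r` squares to one. -/
theorem sq_of_commute_r {w g : G} (hw : orderOf w = r) (hc : Commute w g)
    (ho : ¬ r ∣ orderOf g) : g ^ 2 = 1 := by
  refine orderOf_dvd_iff_pow_eq_one.1 ?_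
  have hco : (orderOf w).Coprime (orderOf g) := by rw [hw]; exact h.prime.coprime_iff_not_dvd.2 ho
  have hm := hc.orderOf_mul_eq_mul_orderOf_of_coprime hco
  rw [hw] at hm
  rcases h.order_r (w * g) (hm ▸ dvd_mul_right r _) with e | e <;> rw [hm] at e
  · have : orderOf g = 1 := Nat.eq_of_mul_eq_mul_left h.prime.pos (by rw [e, mul_one])
    rw [this]; exact one_dvd 2
  · have : orderOf g = 2 := Nat.eq_of_mul_eq_mul_left h.prime.pos (by rw [e, mul_comm])
    rw [this]

/-- Everything in the centraliser of an element of order `r` has order dividing `2r`. -/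
theorem pow_two_r_of_commute_r {w g : G} (hw : orderOf w = r) (hc : Commute w g) :
    g ^ (2 * r) = 1 := by
  by_cases hd : r ∣ orderOf g
  · refine orderOf_dvd_iff_pow_eq_one.1 ?_
    rcases h.order_r g hd with e | e <;> rw [e]
    exact dvd_mul_left r 2
  · rw [pow_mul, h.sq_of_commute_r hw hc hd, one_pow]

/-- A prime divisor of a subgroup of exponent `2r` is `2` or `r`. -/
theorem prime_dvd_of_pow {X : Subgroup G} (hX : ∀ x ∈ X, x ^ (2 * r) = 1) {p : ℕ} (hp : p.Prime)
    (hd : p ∣ Nat.card X) : p = 2 ∨ p = r := by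
  haveI := Fact.mk hp
  obtain ⟨x, hx⟩ := exists_prime_orderOf_dvd_card' (G := X) p hd
  have h1 : p ∣ 2 * r := by
    rw [← hx, ← Subgroup.orderOf_coe]
    exact orderOf_dvd_of_pow_eq_one (hX x x.2)
  rcases hp.dvd_mul.1 h1 with h2 | h2
  · exact Or.inl ((Nat.prime_dvd_prime_iff_eq hp Nat.prime_two).1 h2)
  · exact Or.inr ((Nat.prime_dvd_prime_iff_eq hp h.prime).1 h2)

/-- A subgroup of exponent `2r` is solvable. -/
theorem isSolvable_of_pow {X : Subgroup G} (hX : ∀ x ∈ X, x ^ (2 * r) = 1) : Group.IsSolvable X := by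
  refine CfsgLib.PrimeOrders.isSolvable_of_primeFactors_card_le_two ?_
  refine le_trans (Finset.card_le_card (t := {2, r}) fun p hp => ?_) Finset.card_le_two
  obtain ⟨hp1, hp2, -⟩ := Nat.mem_primeFactors.1 hp
  rcases h.prime_dvd_of_pow hX hp1 hp2 with rfl | rfl <;> simp

/-- An odd subgroup of exponent `2r` is an `r`-group. -/
theorem isPGroup_of_pow {X : Subgroup G} (hX : ∀ x ∈ X, x ^ (2 * r) = 1)
    (hodd : ¬ 2 ∣ Nat.card X) : IsPGroup r X := by
  refine IsPGroup.of_card (Nat.eq_prime_pow_of_unique_prime_dvd Nat.card_pos.ne' fun {d} hd hdX => ?_)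
  rcases h.prime_dvd_of_pow hX hd hdX with rfl | rfl
  · exact absurd hdX hodd
  · rfl

theorem pow_centralizer_invol {t : G} (ht : orderOf t = 2) :
    ∀ x ∈ centralizer ({t} : Set G), x ^ (2 * r) = 1 := fun _ hx =>
  h.pow_two_r_of_commute_invol ht (mem_centralizer_singleton_iff.1 hx).symm

theorem pow_centralizer_r {w : G} (hw : orderOf w = r) :
    ∀ x ∈ centralizer ({w} : Set G), x ^ (2 * r) = 1 := fun _ hx =>
  h.pow_two_r_of_commute_r hw (mem_centralizer_singleton_iff.1 hx).symm

theorem isSolvable_centralizer_invol {t : G} (ht : orderOf t = 2) :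
    Group.IsSolvable (centralizer ({t} : Set G)) := h.isSolvable_of_pow (h.pow_centralizer_invol ht)

theorem isPGroup_le_centralizer_invol {t : G} (ht : orderOf t = 2) {X : Subgroup G}
    (hX : X ≤ centralizer ({t} : Set G)) (hodd : ¬ 2 ∣ Nat.card X) : IsPGroup r X :=
  h.isPGroup_of_pow (fun x hx => h.pow_centralizer_invol ht x (hX hx)) hodd

theorem pow_r_of_mem_r_group {X : Subgroup G} (hX : IsPGroup r X) {x : G} (hx : x ∈ X) :
    x ^ r = 1 := by
  obtain ⟨k, hk⟩ := hX ⟨x, hx⟩
  exact h.pow_r_of_r_pow (k := k) (congrArg Subtype.val hk)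

theorem two_dvd_card : 2 ∣ Nat.card G := by
  obtain ⟨g, hg⟩ := h.exists_two_r
  exact (dvd_mul_right 2 r).trans (hg ▸ orderOf_dvd_natCard g)

theorem r_dvd_card : r ∣ Nat.card G := by
  obtain ⟨g, hg⟩ := h.exists_two_r
  exact (dvd_mul_left r 2).trans (hg ▸ orderOf_dvd_natCard g)

/-- A commuting pair of an involution and an element of order `r`. -/
theorem exists_pair : ∃ t w : G, orderOf t = 2 ∧ orderOf w = r ∧ Commute t w := by
  obtain ⟨g, hg⟩ := h.exists_two_r
  refine ⟨g ^ r, g ^ 2, ?_, ?_, (Commute.refl g).pow_pow r 2⟩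
  · rw [orderOf_pow' g h.prime.ne_zero, hg,
      Nat.gcd_eq_right (dvd_mul_left r 2), Nat.mul_div_cancel _ h.prime.pos]
  · rw [orderOf_pow' g two_ne_zero, hg, Nat.gcd_eq_right (dvd_mul_right 2 r),
      Nat.mul_div_cancel_left _ two_pos]

section Sylow

variable (S : Sylow 2 G)

theorem sq_mem {s : G} (hs : s ∈ (S : Subgroup G)) : s ^ 2 = 1 := by
  obtain ⟨k, hk⟩ := S.2 ⟨s, hs⟩
  exact h.sq_of_two_pow (k := k) (congrArg Subtype.val hk)

theorem orderOf_mem {s : G} (hs : s ∈ (S : Subgroup G)) (hs1 : s ≠ 1) : orderOf s = 2 :=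
  haveI : Fact (Nat.Prime 2) := ⟨Nat.prime_two⟩
  orderOf_eq_prime (h.sq_mem S hs) hs1

theorem inv_mem_eq {s : G} (hs : s ∈ (S : Subgroup G)) : s⁻¹ = s :=
  inv_eq_of_mul_eq_one_right (by rw [← pow_two]; exact h.sq_mem S hs)

theorem commute_mem {s s' : G} (hs : s ∈ (S : Subgroup G)) (hs' : s' ∈ (S : Subgroup G)) :
    Commute s s' := by
  have h1 := h.inv_mem_eq S (mul_mem hs hs')
  rw [mul_inv_rev, h.inv_mem_eq S hs, h.inv_mem_eq S hs'] at h1
  exact h1.symm

theorem isMulCommutative : IsMulCommutative (S : Subgroup G) :=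
  ⟨⟨fun a b => Subtype.ext (h.commute_mem S a.2 b.2)⟩⟩

theorem elab_sylow : Cfsg.IsElementaryAbelian 2 (S : Subgroup G) :=
  ⟨h.isMulCommutative S, fun _ hs => h.sq_mem S hs⟩

theorem four_le : 4 ≤ Nat.card (S : Subgroup G) := by
  haveI := h.isSimple
  haveI : Fact (Nat.Prime 2) := ⟨Nat.prime_two⟩
  have h4 := CfsgLib.Small.four_dvd_card_of_simple h.noncomm h.two_dvd_card
  exact Nat.le_of_dvd Nat.card_pos
    (by simpa using S.pow_dvd_card_of_pow_dvd_card (n := 2) (by simpa using h4))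

theorem not_isCyclic : ¬ IsCyclic (S : Subgroup G) :=
  haveI : Fact (Nat.Prime 2) := ⟨Nat.prime_two⟩
  CfsgLib.Transitivity.not_isCyclic_of_elab (h.elab_sylow S) (by simpa using h.four_le S)

theorem exists_invol : ∃ t ∈ (S : Subgroup G), t ≠ 1 := by
  by_contra hcon
  push Not at hcon
  have : (S : Subgroup G) = ⊥ := (eq_bot_iff_forall _).2 hcon
  have h4 := h.four_le S
  rw [this, Subgroup.card_bot] at h4
  omega

theorem coprime_card {X : Subgroup G} (hodd : ¬ 2 ∣ Nat.card X) :
    (Nat.card (S : Subgroup G)).Coprime (Nat.card X) :=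
  haveI : Fact (Nat.Prime 2) := ⟨Nat.prime_two⟩
  CfsgLib.Transitivity.coprime_card_of_elab (h.elab_sylow S) hodd

theorem inf_eq_bot {X : Subgroup G} (hodd : ¬ 2 ∣ Nat.card X) : X ⊓ (S : Subgroup G) = ⊥ :=
  CfsgLib.Coprime.inf_eq_bot_of_coprime (h.coprime_card S hodd).symm

/-- An odd subgroup normalised by `S` is an `r`-group. -/
theorem isPGroup_of_normalized {X : Subgroup G}
    (hX : (S : Subgroup G) ≤ normalizer (X : Set G)) (hodd : ¬ 2 ∣ Nat.card X) : IsPGroup r X := by
  haveI : IsMulCommutative (S : Subgroup G) := h.isMulCommutative S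
  refine IsPGroup.of_card (Nat.eq_prime_pow_of_unique_prime_dvd Nat.card_pos.ne' fun {p} hp hpX => ?_)
  by_contra hpr
  haveI := Fact.mk hp
  obtain ⟨P, hP⟩ := CfsgLib.Coprime.exists_invariant_sylow hX (h.coprime_card S hodd)
    (Or.inl (CfsgLib.Transitivity.isSolvable_of_elab (h.elab_sylow S))) p
  set P' := (P : Subgroup X).map X.subtype
  have hPodd : ¬ 2 ∣ Nat.card P' := fun hd => hodd (hd.trans (card_dvd_of_le (map_subtype_le _)))
  have hbot : P' ≤ ⊥ := CfsgLib.Coprime.le_of_forall_inf_centralizer_le (h.not_isCyclic S) hP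
    (h.coprime_card S hPodd) fun a ha ha1 x hx => by
      obtain ⟨k, hk⟩ := (P.2.map X.subtype) ⟨x, hx.1⟩
      have hxo : Odd (orderOf x) :=
        (Nat.not_even_iff_odd.1 fun he => hPodd ((even_iff_two_dvd.1 he).trans
          (orderOf_dvd_natCard P' hx.1)))
      have h1 := h.pow_r_of_commute_invol (h.orderOf_mem S ha ha1)
        (mem_centralizer_singleton_iff.1 hx.2).symm hxo
      have hk' : x ^ p ^ k = 1 := congrArg Subtype.val hk
      rw [Subgroup.mem_bot, ← orderOf_eq_one_iff]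
      exact Nat.eq_one_of_dvd_coprimes (((Nat.coprime_primes hp h.prime).2 hpr).pow_left k)
        (orderOf_dvd_of_pow_eq_one hk') (orderOf_dvd_of_pow_eq_one h1)
  refine P.ne_bot_of_dvd_card hpX ?_
  exact (Subgroup.map_eq_bot_iff_of_injective _ X.subtype_injective).1 (le_bot_iff.1 hbot)

theorem normalizer_ne_top : normalizer ((S : Subgroup G) : Set G) ≠ ⊤ := by
  intro ht
  haveI := h.isSimple
  haveI : Fact (Nat.Prime 2) := ⟨Nat.prime_two⟩
  refine CfsgLib.Small.not_normalizer_le_centralizer h.noncomm h.two_dvd_card S ?_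
  haveI : (S : Subgroup G).Normal := normalizer_eq_top_iff.1 ht
  rcases (inferInstance : (S : Subgroup G).Normal).eq_bot_or_eq_top with e | e
  · exact absurd e (S.ne_bot_of_dvd_card h.two_dvd_card)
  · exfalso
    refine CfsgLib.Small.not_isPGroup_of_simple h.noncomm 2 ?_
    have := S.2
    rw [e] at this
    exact this.of_equiv Subgroup.topEquiv

/-- The 2-elements normalising `S` lie in `S`. -/
theorem mem_of_sq {t : G} (ht : t ∈ normalizer ((S : Subgroup G) : Set G)) (ht2 : t ^ 2 = 1) :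
    t ∈ (S : Subgroup G) := by
  have hp : IsPGroup 2 (zpowers t) := fun x => by
    obtain ⟨i, hi⟩ := mem_zpowers_iff.1 x.2
    refine ⟨1, Subtype.ext ?_⟩
    show (x : G) ^ 2 ^ 1 = 1
    rw [pow_one, ← hi, ← zpow_natCast, ← zpow_mul, mul_comm, zpow_mul, zpow_natCast, ht2, one_zpow]
  have hle : zpowers t ≤ normalizer ((S : Subgroup G) : Set G) := zpowers_le.2 ht
  have := hp.to_sup_of_normal_right' S.2 hle
  exact S.3 this le_sup_right ▸ mem_sup_left (mem_zpowers t)

/-- Fusion in `S` is realised by its normaliser. -/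
theorem exists_normalizer_conj {x g : G} (hx : x ∈ (S : Subgroup G))
    (hgx : g * x * g⁻¹ ∈ (S : Subgroup G)) :
    ∃ n ∈ normalizer ((S : Subgroup G) : Set G), n * x * n⁻¹ = g * x * g⁻¹ :=
  haveI : Fact (Nat.Prime 2) := ⟨Nat.prime_two⟩
  CfsgLib.Transfer.controlsFusion_normalizer_of_isMulCommutative S (h.isMulCommutative S) x hx g hgx

/-- `S` is not central in its normaliser. -/
theorem exists_not_commute : ∃ g ∈ normalizer ((S : Subgroup G) : Set G),
    ∃ s ∈ (S : Subgroup G), g * s ≠ s * g := by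
  haveI := h.isSimple
  haveI : Fact (Nat.Prime 2) := ⟨Nat.prime_two⟩
  by_contra hcon
  push Not at hcon
  exact CfsgLib.Small.not_normalizer_le_centralizer h.noncomm h.two_dvd_card S
    fun g hg => mem_centralizer_iff.2 fun s hs => (hcon g hg s hs).symm

end Sylow

end Hyp

end CfsgLib.OneComposite
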