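import Mathlib.Algebra.BigOperators.GroupWithZero.Action
import Mathlib.Data.Int.GCD
import Mathlib.GroupTheory.OrderOfElement
import Mathlib.GroupTheory.Index
import Mathlib.Tactic.Group

/-!
# A norm identity for a group normalised by an element of prime order

If every element of the coset `Q n` has order dividing the prime `p` and has trivial norm on the
abelian group `V`, then `Q` acts trivially on `V`.
-/

set_option autoImplicit false
set_option linter.unusedSectionVars false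

namespace CfsgLib.OneComposite

open Finset

theorem eq_of_pow_eq_pow {Y : Type*} [Group Y] {x y : Y} {i p : ℕ} (hx : x ^ p = 1) (hy : y ^ p = 1)
    (hc : Nat.Coprime i p) (h : x ^ i = y ^ i) : x = y := by
  have key : ∀ z : Y, z ^ p = 1 → z = (z ^ i) ^ (Nat.gcdA i p) := by
    intro z hz
    have hb := Nat.gcd_eq_gcd_ab i p
    rw [hc.gcd_eq_one] at hb
    calc z = z ^ ((1 : ℕ) : ℤ) := by simp
      _ = z ^ ((i : ℤ) * Nat.gcdA i p + (p : ℤ) * Nat.gcdB i p) := by rw [hb]
      _ = (z ^ i) ^ (Nat.gcdA i p) * (z ^ p) ^ (Nat.gcdB i p) := by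
          rw [zpow_add, zpow_mul, zpow_mul, zpow_natCast, zpow_natCast]
      _ = (z ^ i) ^ (Nat.gcdA i p) := by rw [hz, one_zpow, mul_one]
  rw [key x hx, key y hy, h]

/-- The norm identity. -/
theorem norm_fixed {Y : Type*} [Group Y] [Finite Y] {V : Type*} [CommGroup V] (act : Y →* MulAut V)
    (Q : Subgroup Y) {n : Y} {p : ℕ} (hp : p.Prime) (hn : ∀ a ∈ Q, n * a * n⁻¹ ∈ Q)
    (hord : ∀ a ∈ Q, (a * n) ^ p = 1)
    (hprod : ∀ a ∈ Q, ∀ v, ∏ i ∈ range p, act ((a * n) ^ i) v = 1)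
    (htors : ∀ v : V, v ^ Nat.card Q = 1 → v = 1) : ∀ q ∈ Q, ∀ v, act q v = v := by
  classical
  intro c hc v
  haveI := Fintype.ofFinite Q
  obtain ⟨k, rfl⟩ : ∃ k, p = k + 1 := ⟨p - 1, by have := hp.pos; omega⟩
  have hmem : ∀ i : ℕ, ∀ a : Q, ((a : Y) * n) ^ i * (n ^ i)⁻¹ ∈ Q := by
    intro i a
    induction i with
    | zero => simp
    | succ i ih =>
      rw [show ((a : Y) * n) ^ (i + 1) * (n ^ (i + 1))⁻¹ =
        a * (n * (((a : Y) * n) ^ i * (n ^ i)⁻¹) * n⁻¹) by rw [pow_succ', pow_succ']; group]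
      exact mul_mem a.2 (hn _ ih)
  have hF : ∀ i ∈ range k, ∏ a : Q, act (((a : Y) * n) ^ (i + 1)) v =
      ∏ b : Q, act ((b : Y) * n ^ (i + 1)) v := by
    intro i hi
    have hcop : Nat.Coprime (i + 1) (k + 1) :=
      (hp.coprime_iff_not_dvd.2 fun hd => by
        have := Nat.le_of_dvd (by omega) hd
        have := mem_range.1 hi
        omega).symm
    have hinj : Function.Injective fun a : Q => (⟨_, hmem (i + 1) a⟩ : Q) := by
      intro a b hab
      have h1 := congrArg Subtype.val hab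
      exact Subtype.ext (mul_right_cancel
        (eq_of_pow_eq_pow (hord _ a.2) (hord _ b.2) hcop (mul_right_cancel h1)))
    refine Fintype.prod_bijective (fun a : Q => (⟨_, hmem (i + 1) a⟩ : Q))
      ⟨hinj, Finite.surjective_of_injective hinj⟩ _ _ fun a => ?_
    show _ = act ((((a : Y) * n) ^ (i + 1) * (n ^ (i + 1))⁻¹) * n ^ (i + 1)) v
    rw [inv_mul_cancel_right]
  set R := ∏ i ∈ range k, ∏ b : Q, act ((b : Y) * n ^ (i + 1)) v with hR
  have hvR : v ^ Nat.card Q * R = 1 := by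
    have h1 : ∏ a : Q, ∏ i ∈ range (k + 1), act (((a : Y) * n) ^ i) v = 1 :=
      Finset.prod_eq_one fun a _ => hprod _ a.2 v
    rw [Finset.prod_comm, prod_range_succ'] at h1
    simp only [pow_zero, map_one, MulAut.one_apply] at h1
    rw [prod_const, card_univ, ← Nat.card_eq_fintype_card, Finset.prod_congr rfl hF, ← hR] at h1
    rw [mul_comm]; exact h1
  have hcR : act c R = R := by
    rw [hR, map_prod]
    refine Finset.prod_congr rfl fun i _ => ?_
    rw [map_prod]
    refine Fintype.prod_bijective (fun b : Q => (⟨c, hc⟩ : Q) * b)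
      (Group.mulLeft_bijective _) _ _ fun b => ?_
    rw [← MulAut.mul_apply, ← map_mul, Subgroup.coe_mul, mul_assoc]
  have h2 : act c v ^ Nat.card Q * R = 1 := by
    have := congrArg (act c) hvR
    rwa [map_mul, map_pow, hcR, map_one] at this
  refine mul_inv_eq_one.1 (htors _ ?_)
  rw [mul_pow, inv_pow, mul_right_cancel (h2.trans hvR.symm), mul_inv_cancel]

/-- The norm of an automorphism of order dividing `p` is fixed by it. -/
theorem apply_norm {V : Type*} [CommGroup V] (f : MulAut V) {p : ℕ} (hp : 0 < p) (hf : f ^ p = 1)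
    (v : V) : f (∏ i ∈ range p, (f ^ i) v) = ∏ i ∈ range p, (f ^ i) v := by
  obtain ⟨k, rfl⟩ : ∃ k, p = k + 1 := ⟨p - 1, by omega⟩
  rw [map_prod]
  simp only [← MulAut.mul_apply, ← pow_succ']
  rw [prod_range_succ, hf, prod_range_succ' (fun i => (f ^ i) v) k, pow_zero]

/-- If no mixed order occurs, all elements of the coset `Q n` have order dividing `p`. -/
theorem mul_pow_eq_one {Y : Type*} [Group Y] [Finite Y] (Q : Subgroup Y) {n : Y} {p : ℕ}
    (hn : n ^ p = 1) (hnQ : ∀ a ∈ Q, n * a * n⁻¹ ∈ Q) {a : Y} (ha : a ∈ Q)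
    (hmix : ∀ g : Y, g ^ p ∈ Q → g * n⁻¹ ∈ Q → g ^ p ≠ 1 → False) : (a * n) ^ p = 1 := by
  by_contra h
  refine hmix (a * n) ?_ (by rwa [mul_inv_cancel_right]) h
  have hmem : ∀ i : ℕ, (a * n) ^ i * (n ^ i)⁻¹ ∈ Q := by
    intro i
    induction i with
    | zero => simp
    | succ i ih =>
      rw [show (a * n) ^ (i + 1) * (n ^ (i + 1))⁻¹ =
        a * (n * ((a * n) ^ i * (n ^ i)⁻¹) * n⁻¹) by rw [pow_succ', pow_succ']; group]
      exact mul_mem ha (hnQ _ ih)
  simpa [hn] using hmem p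

/-- In the situation of `mul_pow_eq_one`, `p` divides the order of an element of the coset. -/
theorem dvd_orderOf_of_coset {Y : Type*} [Group Y] [Finite Y] (Q : Subgroup Y) {n g : Y} {p : ℕ}
    (hp : p.Prime) (hn : n ^ p = 1) (hQ : ¬ p ∣ Nat.card Q) (hn1 : n ≠ 1) (hg : g ^ p ∈ Q)
    (hgn : g * n⁻¹ ∈ Q) : p ∣ orderOf g := by
  by_contra hd
  have hgQ : g ∈ Q := by
    obtain ⟨m, hm⟩ := exists_pow_eq_self_of_coprime (hp.coprime_iff_not_dvd.2 hd)
    rw [← hm]
    exact pow_mem hg _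
  have hnQ : n ∈ Q := by simpa using inv_mem (mul_mem (inv_mem hgQ) hgn)
  haveI := Fact.mk hp
  exact hQ ((orderOf_eq_prime hn hn1) ▸ Subgroup.orderOf_dvd_natCard _ hnQ)

/-- The fixed point free form: `Q` acts trivially. -/
theorem fixed_of_fixedPointFree {Y : Type*} [Group Y] [Finite Y] {V : Type*} [CommGroup V]
    (act : Y →* MulAut V) (Q : Subgroup Y) {n : Y} {p : ℕ} (hp : p.Prime)
    (hn : ∀ a ∈ Q, n * a * n⁻¹ ∈ Q) (hord : ∀ a ∈ Q, (a * n) ^ p = 1)
    (hfpf : ∀ a ∈ Q, ∀ v, act (a * n) v = v → v = 1)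
    (htors : ∀ v : V, v ^ Nat.card Q = 1 → v = 1) : ∀ q ∈ Q, ∀ v, act q v = v := by
  refine norm_fixed act Q hp hn hord (fun a ha v => ?_) htors
  refine hfpf a ha _ ?_
  simp only [map_pow]
  exact apply_norm _ hp.pos (by rw [← map_pow, hord a ha, map_one]) v

end CfsgLib.OneComposite
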