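import Mathlib.GroupTheory.IndexNormal
import Mathlib.GroupTheory.PGroup
import Mathlib.GroupTheory.SpecificGroups.Cyclic
import Mathlib.RingTheory.ZMod.UnitsCyclic
import Mathlib
import Cfsg.Agent.OneComposite.Norm
import Cfsg.Agent.Solvable.Basic
import Cfsg.Agent.Coprime.SchurZassenhaus
import Cfsg.Agent.S0205

/-!
# Odd groups transitive on the nonidentity elements of an elementary abelian 2-group

The elements outside a prime `r` act freely, and no element has order `r s` with `s` prime to `r`.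
If `r` divides the order, the group has order `r` or is `C ⋊ r` with `C` regular.
-/

set_option autoImplicit false
set_option linter.unusedSectionVars false
set_option linter.style.haveILetI false

namespace CfsgLib.OneComposite

open Subgroup

theorem eq_one_of_pow_add_one {r b m : ℕ} (hr : Odd r) (hb : 1 ≤ b) (hr3 : 3 ≤ r)
    (h : r ^ b + 1 = 2 ^ m) : b = 1 := by
  by_contra hb1
  have hlt : r < r ^ b := by
    calc r = r ^ 1 := (pow_one r).symm
      _ < r ^ b := Nat.pow_lt_pow_right (by omega) (by omega)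
  have hm : 2 ≤ m := by
    by_contra hm
    have : 2 ^ m ≤ 2 ^ 1 := Nat.pow_le_pow_right (by norm_num) (by omega)
    omega
  rcases Nat.even_or_odd b with ⟨c, hc⟩ | ⟨c, hc⟩
  · obtain ⟨d, hd⟩ : Odd (r ^ c) := hr.pow
    have h1 : r ^ b = 4 * (d * d + d) + 1 := by
      rw [hc, pow_add, hd]; ring
    have h2 : (4 : ℕ) ∣ 2 ^ m := by
      calc (4 : ℕ) = 2 ^ 2 := by norm_num
        _ ∣ 2 ^ m := pow_dvd_pow 2 hm
    omega
  · -- `r ^ b + 1` is `r + 1` times a sum of `b` odd terms
    have hdvd : (r + 1) ∣ r ^ b + 1 := by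
      simpa using (show Odd b from ⟨c, hc⟩).nat_add_dvd_pow_add_pow r 1
    rw [h] at hdvd
    obtain ⟨k, -, hk⟩ := (Nat.dvd_prime_pow Nat.prime_two).1 hdvd
    have hkm : k < m := by
      by_contra hle
      have : 2 ^ m ≤ 2 ^ k := Nat.pow_le_pow_right (by norm_num) (by omega)
      omega
    have hk1 : 1 ≤ k := by
      by_contra hk0
      have : 2 ^ k ≤ 2 ^ 0 := Nat.pow_le_pow_right (by norm_num) (by omega)
      omega
    -- `r ^ 2` is `1` modulo `2 (r + 1)`
    have hsq : r * r ≡ 1 [MOD 2 * (r + 1)] := by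
      obtain ⟨e, he⟩ := hr
      refine ((Nat.modEq_iff_dvd' (Nat.one_le_iff_ne_zero.2 (by positivity))).2 ⟨e, ?_⟩).symm
      have : r * r = 2 * (r + 1) * e + 1 := by subst he; ring
      omega
    have hrb : r ^ b ≡ r [MOD 2 * (r + 1)] := by
      rw [hc, pow_succ, pow_mul]
      have := ((hsq.pow c).mul_right r)
      simpa [pow_two, one_pow] using this
    have h3 : 2 ^ m ≡ r + 1 [MOD 2 * (r + 1)] := h ▸ hrb.add_right 1
    have h4 : 2 * (r + 1) ∣ 2 ^ m := by
      rw [hk, ← pow_succ']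
      exact pow_dvd_pow 2 (by omega)
    have h5 := (Nat.modEq_zero_iff_dvd.2 h4).symm.trans h3
    have h6 := (Nat.modEq_zero_iff_dvd.1 h5.symm)
    have := Nat.le_of_dvd (by omega) h6
    omega

/-- A group of exponent `r` acting faithfully on a group of prime order has order at most `r`. -/
theorem card_le_of_faithful_prime {Y : Type*} [Group Y] [Finite Y] (R : Subgroup Y) {z : Y}
    {q r : ℕ} (hq : q.Prime) (hz : orderOf z = q) (hn : R ≤ normalizer (zpowers z : Set Y))
    (hfaith : ∀ x ∈ R, Commute x z → x = 1) (hexp : ∀ x ∈ R, x ^ r = 1) (hr : 0 < r) :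
    Nat.card R ≤ r := by
  haveI := Fact.mk hq
  let ψ : R →* MulAut (zpowers z) := (Subgroup.normalizerMonoidHom _).comp (inclusion hn)
  have hψ : Function.Injective ψ := by
    rw [injective_iff_map_eq_one]
    intro x hx
    refine Subtype.ext (hfaith x x.2 ?_)
    have h1 := congrArg (fun f : MulAut (zpowers z) => ((f ⟨z, mem_zpowers z⟩ : zpowers z) : Y)) hx
    exact mul_inv_eq_iff_eq_mul.1 h1
  have hcard : Nat.card (zpowers z) = q := by rw [Nat.card_zpowers, hz]
  haveI : IsCyclic (MulAut (zpowers z)) := by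
    let e := IsCyclic.mulAutMulEquiv (zpowers z)
    haveI : IsCyclic (ZMod (Nat.card (zpowers z)))ˣ := by rw [hcard]; exact ZMod.isCyclic_units_prime hq
    exact isCyclic_of_surjective e.symm e.symm.surjective
  haveI : IsCyclic R := isCyclic_of_injective ψ hψ
  obtain ⟨g, hg⟩ := IsCyclic.exists_ofOrder_eq_natCard (α := R)
  rw [← hg, ← Subgroup.orderOf_coe]
  exact Nat.le_of_dvd hr (orderOf_dvd_of_pow_eq_one (hexp g g.2))

/-- The hypotheses on the image of the normaliser in the automorphisms of the Sylow subgroup. -/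
structure TransOdd {L V : Type*} [Group L] [CommGroup V] (act : L →* MulAut V) (r : ℕ) : Prop where
  inj : Function.Injective act
  odd : Odd (Nat.card L)
  sq : ∀ v : V, v ^ 2 = 1
  four_le : 4 ≤ Nat.card V
  trans : ∀ u v : V, u ≠ 1 → v ≠ 1 → ∃ l, act l u = v
  fpf : ∀ l : L, l ≠ 1 → ¬ r ∣ orderOf l → ∀ v, act l v = v → v = 1
  order_r : ∀ l : L, r ∣ orderOf l → orderOf l = r
  prime : r.Prime

namespace TransOdd

variable {L V : Type*} [Group L] [CommGroup V] [Finite L] [Finite V] {act : L →* MulAut V} {r : ℕ}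
variable (h : TransOdd act r)
include h

theorem torsion (Q : Subgroup L) (v : V) (hv : v ^ Nat.card Q = 1) : v = 1 := by
  obtain ⟨k, hk⟩ := h.odd.of_dvd_nat Q.card_subgroup_dvd_card
  rwa [hk, pow_succ, pow_mul, h.sq, one_pow, one_mul] at hv

theorem eq_bot_of_fpf {Q : Subgroup L} {n : L} {p : ℕ} (hp : p.Prime)
    (hn : ∀ a ∈ Q, n * a * n⁻¹ ∈ Q) (hord : ∀ a ∈ Q, (a * n) ^ p = 1)
    (hfix : ∀ a ∈ Q, ∀ v, act (a * n) v = v → v = 1) : Q = ⊥ := by
  have := fixed_of_fixedPointFree act Q hp hn hord hfix (h.torsion Q)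
  exact (eq_bot_iff_forall Q).2 fun x hx => h.inj (by
    rw [map_one]; exact MulEquiv.ext fun v => this x hx v)

theorem eq_bot_of_normalized {Q : Subgroup L} {n : L} {p : ℕ} (hp : p.Prime) (hpr : p ≠ r)
    (hn : ∀ a ∈ Q, n * a * n⁻¹ ∈ Q) (hnQ : n ∉ Q) (hord : ∀ a ∈ Q, (a * n) ^ p = 1) : Q = ⊥ := by
  refine h.eq_bot_of_fpf hp hn hord fun a ha => ?_
  have hne : a * n ≠ 1 := fun e => hnQ (by
    rw [eq_inv_of_mul_eq_one_right e]; exact inv_mem ha)
  haveI := Fact.mk hp
  refine h.fpf _ hne ?_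
  rw [orderOf_eq_prime (hord a ha) hne]
  exact fun hd => hpr ((Nat.prime_dvd_prime_iff_eq h.prime hp).1 hd).symm

theorem eq_bot_of_isPGroup {Q : Subgroup L} (hQ : IsPGroup r Q) {n : L} {p : ℕ} (hp : p.Prime)
    (hpr : p ≠ r) (hno : orderOf n = p) (hn : ∀ a ∈ Q, n * a * n⁻¹ ∈ Q) : Q = ⊥ := by
  haveI := Fact.mk h.prime
  have hnp : n ^ p = 1 := by rw [← hno]; exact pow_orderOf_eq_one n
  have hn1 : n ≠ 1 := fun e => hp.one_lt.ne' (by rw [← hno, e, orderOf_one])
  have hpQ : ¬ p ∣ Nat.card Q := by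
    obtain ⟨k, hk⟩ := IsPGroup.iff_card.1 hQ
    rw [hk]
    exact fun hd => hpr ((Nat.prime_dvd_prime_iff_eq hp h.prime).1 (hp.dvd_of_dvd_pow hd))
  have hnQ : n ∉ Q := fun hm => hpQ (hno ▸ orderOf_dvd_natCard Q hm)
  refine h.eq_bot_of_normalized hp hpr hn hnQ fun a ha =>
    mul_pow_eq_one Q hnp hn ha fun g hg hgn hg1 => ?_
  have h1 : p ∣ orderOf g := dvd_orderOf_of_coset Q hp hnp hpQ hn1 hg hgn
  have h2 : r ∣ orderOf g := by
    obtain ⟨k, hk⟩ := IsPGroup.iff_orderOf.1 hQ ⟨_, hg⟩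
    rw [Subgroup.orderOf_mk] at hk
    have hk0 : k ≠ 0 := fun e => hg1 (orderOf_eq_one_iff.1 (by rw [hk, e, pow_zero]))
    exact ((dvd_pow_self r hk0).trans hk.symm.dvd).trans (orderOf_pow_dvd p)
  rw [h.order_r g h2] at h1
  exact hpr ((Nat.prime_dvd_prime_iff_eq hp h.prime).1 h1)

theorem commute_of_normalizes {z n : L} {q p : ℕ} (hq : q.Prime) (hzo : orderOf z = q)
    (hp : p.Prime) (hpr : p ≠ r) (hno : orderOf n = p) (hn : n * z * n⁻¹ ∈ zpowers z) :
    Commute n z := by
  by_contra hc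
  haveI := Fact.mk hq
  have hnp : n ^ p = 1 := by rw [← hno]; exact pow_orderOf_eq_one n
  have hnQ : n ∉ zpowers z := fun hm => hc (by
    obtain ⟨i, rfl⟩ := mem_zpowers_iff.1 hm
    exact (Commute.refl z).zpow_left i)
  have hnn : ∀ a ∈ zpowers z, n * a * n⁻¹ ∈ zpowers z := fun a ha => by
    obtain ⟨i, rfl⟩ := mem_zpowers_iff.1 ha
    rw [← conj_zpow]; exact zpow_mem hn i
  have hbot : zpowers z = ⊥ := h.eq_bot_of_normalized hp hpr hnn hnQ fun a ha =>
    mul_pow_eq_one (zpowers z) hnp hnn ha fun g hg hgn hg1 => hc (by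
      have hgen : z ∈ zpowers (g ^ p) := by
        have : orderOf (g ^ p) = q := by
          rcases hq.eq_one_or_self_of_dvd _ (hzo ▸ Nat.card_zpowers z ▸
            orderOf_dvd_natCard (zpowers z) hg) with e | e
          · exact absurd (orderOf_eq_one_iff.1 e) hg1
          · exact e
        have e : zpowers (g ^ p) = zpowers z := eq_of_le_of_card_ge (zpowers_le.2 hg)
          (by rw [Nat.card_zpowers, Nat.card_zpowers, this, hzo])
        rw [e]; exact mem_zpowers z
      obtain ⟨i, hi⟩ := mem_zpowers_iff.1 hgen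
      have hgz : Commute g z := by rw [← hi]; exact ((Commute.refl g).pow_right p).zpow_right i
      obtain ⟨j, hj⟩ := mem_zpowers_iff.1 hgn
      have hn' : n = (z ^ j)⁻¹ * g := by rw [hj]; group
      rw [hn']
      exact (((Commute.refl z).zpow_left j).inv_left).mul_left hgz)
  rw [zpowers_eq_bot] at hbot
  rw [hbot, orderOf_one] at hzo
  exact hq.one_lt.ne hzo

theorem mem_zpowers_of_commute {z y : L} {q : ℕ} (hq : q.Prime) (hqr : q ≠ r)
    (hzo : orderOf z = q) (hyo : orderOf y = q) (hc : Commute y z) : y ∈ zpowers z := by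
  by_contra hy
  have hnn : ∀ a ∈ zpowers z, y * a * y⁻¹ = a := fun a ha => by
    obtain ⟨i, rfl⟩ := mem_zpowers_iff.1 ha
    rw [(hc.zpow_right i).eq, mul_inv_cancel_right]
  have hbot : zpowers z = ⊥ := h.eq_bot_of_normalized hq hqr
    (fun a ha => by rw [hnn a ha]; exact ha) hy fun a ha => by
      obtain ⟨i, rfl⟩ := mem_zpowers_iff.1 ha
      rw [(hc.zpow_right i).symm.mul_pow, ← hyo, pow_orderOf_eq_one, mul_one, hyo, ← hzo,
        ← zpow_natCast, ← zpow_mul, mul_comm, zpow_mul, zpow_natCast, pow_orderOf_eq_one,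
        one_zpow]
  rw [zpowers_eq_bot] at hbot
  rw [hbot, orderOf_one] at hzo
  exact hq.one_lt.ne hzo

theorem prime_ne_two {p : ℕ} (hp : p.Prime) (hd : p ∣ Nat.card L) : p ≠ 2 := by
  rintro rfl
  exact absurd (h.odd.of_dvd_nat hd) (by decide)

/-- The stabiliser of an element. -/
private def stab (_ : TransOdd act r) (v : V) : Subgroup L where
  carrier := {l | act l v = v}
  one_mem' := by simp
  mul_mem' := fun {a b} (ha : act a v = v) (hb : act b v = v) => by
    show act (a * b) v = v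
    rw [map_mul, MulAut.mul_apply, hb, ha]
  inv_mem' := fun {a} (ha : act a v = v) => by
    show act a⁻¹ v = v
    conv_lhs => rw [← ha]
    rw [← MulAut.mul_apply, ← map_mul, inv_mul_cancel, map_one, MulAut.one_apply]

private theorem mem_stab {v : V} {l : L} : l ∈ stab h v ↔ act l v = v := Iff.rfl

private theorem card_eq_stab_mul {v : V} (hv : v ≠ 1) :
    Nat.card (stab h v) * (Nat.card V - 1) = Nat.card L ∧
      (stab h v).index = Nat.card V - 1 := by
  classical
  haveI := Fintype.ofFinite V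
  letI : MulAction L V := MulAction.compHom V act
  have hs : MulAction.stabilizer L v = stab h v := Subgroup.ext fun l => Iff.rfl
  have ho : MulAction.orbit L v = {w | w ≠ 1} := by
    ext w
    constructor
    · rintro ⟨l, rfl⟩
      exact fun e => hv ((MulEquiv.map_eq_one_iff _).1 e)
    · exact fun hw => h.trans v w hv hw
  have hi : (stab h v).index = Nat.card V - 1 := by
    rw [← hs, MulAction.index_stabilizer, ho, ← Nat.card_coe_set_eq, Nat.card_eq_fintype_card,
      Nat.card_eq_fintype_card]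
    exact (Fintype.card_subtype_compl _).trans (by rw [Fintype.card_subtype_eq])
  exact ⟨by rw [← hi, Subgroup.card_mul_index], hi⟩

/-- The dichotomy. -/
theorem dichotomy (hrL : r ∣ Nat.card L) :
    (∀ R : Subgroup L, IsPGroup r R → Nat.card R ≤ r) ∧
    (∀ c : L, orderOf c = r → normalizer (zpowers c : Set L) = zpowers c) ∧
    ((Nat.card L = r ∧ ∀ l : L, l ≠ 1 → ∀ v, act l v = v → v = 1) ∨
    (Nat.card L = (Nat.card V - 1) * r ∧ (Nat.card V - 1).Coprime r ∧
      (∀ c : L, orderOf c = r → ∃ s, s ≠ 1 ∧ act c s = s ∧ ∀ v, act c v = v → v = 1 ∨ v = s) ∧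
      ∃ (q : ℕ) (z : L), q.Prime ∧ q ≠ r ∧ orderOf z = q ∧
        ∀ y : L, orderOf y = q → y ∈ zpowers z)) := by
  classical
  haveI := Fact.mk h.prime
  haveI : Group.IsSolvable L := Cfsg.Agent.S0205.result h.odd
  obtain ⟨c₀, hc₀⟩ := exists_prime_orderOf_dvd_card' r hrL
  haveI : Nontrivial L := ⟨⟨c₀, 1, fun e => h.prime.one_lt.ne' (by rw [← hc₀, e, orderOf_one])⟩⟩
  obtain ⟨N, hN, hN1, hmin⟩ := CfsgLib.Solvable.exists_minimal_normal (G := L)
  obtain ⟨q, hq, hNq⟩ := CfsgLib.Solvable.exists_isPGroup_of_minimal_normal hN1 hmin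
  haveI := Fact.mk hq
  have hr2 : r ≠ 2 := h.prime_ne_two h.prime hrL
  have hr3 : 3 ≤ r := by have := h.prime.two_le; omega
  obtain ⟨v₀, hv₀⟩ : ∃ v : V, v ≠ 1 := by
    by_contra hcon
    push Not at hcon
    haveI : Subsingleton V := ⟨fun a b => (hcon a).trans (hcon b).symm⟩
    have := h.four_le
    rw [Nat.card_unique] at this
    omega
  by_cases hqr : q = r
  · subst hqr
    have hLr : IsPGroup q L := by
      refine IsPGroup.of_card (Nat.eq_prime_pow_of_unique_prime_dvd Nat.card_pos.ne' ?_)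
      intro d hd hdL
      by_contra hdq
      haveI := Fact.mk hd
      obtain ⟨n, hn⟩ := exists_prime_orderOf_dvd_card' d hdL
      exact hN1 (h.eq_bot_of_isPGroup hNq hd hdq hn fun a ha => hN.conj_mem a ha n)
    obtain ⟨hmul, hidx⟩ := h.card_eq_stab_mul hv₀
    obtain ⟨b, hb⟩ := hLr.index (stab h v₀)
    have h4 := h.four_le
    obtain ⟨m, hm⟩ := IsPGroup.iff_card.1 (show IsPGroup 2 V from
      fun v => ⟨1, by rw [pow_one]; exact h.sq v⟩)
    have hb0 : b ≠ 0 := by
      rintro rfl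
      rw [pow_zero] at hb
      omega
    have hb1 : b = 1 := eq_one_of_pow_add_one (h.prime.odd_of_ne_two hr2) (by omega) hr3
      (m := m) (by omega)
    rw [hb1, pow_one] at hb
    have hone : ∀ l : L, l ≠ 1 → ∀ v, act l v = v → v = 1 := by
      intro l hl v hlv
      by_contra hv
      have hiv : (stab h v).index = q := by
        rw [(h.card_eq_stab_mul hv).2, ← (h.card_eq_stab_mul hv₀).2, hb]
      haveI : (stab h v).Normal := Subgroup.normal_of_index_eq_minFac_card (by
        rw [hiv]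
        obtain ⟨a, ha⟩ := IsPGroup.iff_card.1 hLr
        have ha0 : a ≠ 0 := by
          rintro rfl
          rw [pow_zero] at ha
          rw [ha] at hrL
          exact h.prime.one_lt.ne' (Nat.dvd_one.1 hrL)
        rw [ha, Nat.pow_minFac ha0, h.prime.minFac_eq])
      refine hl (h.inj ?_)
      rw [map_one]
      refine MulEquiv.ext fun w => ?_
      rcases eq_or_ne w 1 with rfl | hw
      · simp
      obtain ⟨g, rfl⟩ := h.trans v w hv hw
      have hmem : g⁻¹ * l * g ∈ stab h v := by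
        simpa using Subgroup.Normal.conj_mem (inferInstance : (stab h v).Normal) l hlv g⁻¹
      have := h.mem_stab.1 hmem
      rw [map_mul, map_mul, MulAut.mul_apply, MulAut.mul_apply, map_inv] at this
      rw [MulAut.one_apply]
      exact (MulEquiv.symm_apply_eq _).1 this
    have hst : stab h v₀ = ⊥ := (eq_bot_iff_forall _).2 fun l hl => by
      by_contra hl1
      exact hv₀ (hone l hl1 v₀ hl)
    have hcard : Nat.card L = q := by rw [← Subgroup.index_bot, ← hst, hb]
    refine ⟨fun R _ => hcard ▸ R.card_le_card_group, fun c hc => ?_, Or.inl ⟨hcard, hone⟩⟩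
    have : zpowers c = ⊤ := eq_top_of_card_eq _ (by rw [Nat.card_zpowers, hc, hcard])
    rw [this]
    exact top_unique le_normalizer
  -- a normal subgroup of prime order `q`
  haveI : Nontrivial N := (nontrivial_iff_ne_bot N).2 hN1
  haveI := hNq.center_nontrivial
  obtain ⟨z', hz'⟩ := exists_prime_orderOf_dvd_card' (G := center N) q (by
    obtain ⟨k, hk⟩ := IsPGroup.iff_card.1 (hNq.to_subgroup (center N))
    rw [hk]
    refine dvd_pow_self q ?_
    rintro rfl
    rw [pow_zero] at hk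
    exact absurd hk (Finite.one_lt_card (α := center N)).ne')
  set z : L := ((z' : N) : L) with hzdef
  have hzo : orderOf z = q := by rw [hzdef, Subgroup.orderOf_coe, Subgroup.orderOf_coe, hz']
  have hzN : z ∈ N := (z' : N).2
  have hznorm : ∀ g : L, g * z * g⁻¹ ∈ zpowers z := by
    intro g
    refine h.mem_zpowers_of_commute hq hqr hzo ?_ ?_
    · exact ((MulAut.conj g).orderOf_eq z).trans hzo
    · exact congrArg Subtype.val (Subgroup.mem_center_iff.1 z'.2 ⟨_, hN.conj_mem z hzN g⟩)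
  have huniq : ∀ y : L, orderOf y = q → y ∈ zpowers z := fun y hy =>
    h.mem_zpowers_of_commute hq hqr hzo hy (h.commute_of_normalizes hq hzo hq hqr hy (hznorm y))
  set C : Subgroup L := centralizer ({z} : Set L) with hC
  have hmemC : ∀ x, x ∈ C ↔ Commute x z := fun x => mem_centralizer_singleton_iff
  have hCr : ∀ x ∈ C, r ∣ orderOf x → False := by
    intro x hx hd
    have hxo := h.order_r x hd
    have hc : Commute x z := (hmemC x).1 hx
    have hco : (orderOf x).Coprime (orderOf z) := by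
      rw [hxo, hzo]; exact (Nat.coprime_primes h.prime hq).2 (Ne.symm hqr)
    have hmul := hc.orderOf_mul_eq_mul_orderOf_of_coprime hco
    rw [hxo, hzo] at hmul
    have := h.order_r (x * z) (by rw [hmul]; exact dvd_mul_right r q)
    rw [hmul] at this
    nlinarith [hq.two_le, h.prime.two_le]
  haveI hCn : C.Normal := ⟨fun x hx g => (hmemC _).2 (by
    obtain ⟨i, hi⟩ := mem_zpowers_iff.1 (hznorm g⁻¹)
    rw [inv_inv] at hi
    have h1 : Commute x (g⁻¹ * z * g) := hi ▸ ((hmemC x).1 hx).zpow_right i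
    have h2 := h1.map (MulAut.conj g).toMonoidHom
    simpa [mul_assoc] using h2)⟩
  have hRle : ∀ R : Subgroup L, IsPGroup r R → Nat.card R ≤ r := by
    intro R hR
    refine card_le_of_faithful_prime R hq hzo ?_ (fun x hx hc => ?_) (fun x hx => ?_) h.prime.pos
    · intro g _
      refine Subgroup.mem_normalizer_iff.2 fun a => ⟨fun ha => ?_, fun ha => ?_⟩
      · obtain ⟨i, rfl⟩ := mem_zpowers_iff.1 ha
        rw [← conj_zpow]; exact zpow_mem (hznorm g) i
      · obtain ⟨i, hi⟩ := mem_zpowers_iff.1 ha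
        have : a = g⁻¹ * z ^ i * g⁻¹⁻¹ := by rw [hi]; group
        rw [this, ← conj_zpow]; exact zpow_mem (hznorm g⁻¹) i
    · by_contra hx1
      obtain ⟨k, hk⟩ := IsPGroup.iff_orderOf.1 hR ⟨x, hx⟩
      rw [Subgroup.orderOf_mk] at hk
      refine hCr x ((hmemC x).2 hc) (hk ▸ dvd_pow_self r ?_)
      rintro rfl
      exact hx1 (orderOf_eq_one_iff.1 (by simpa using hk))
    · obtain ⟨k, hk⟩ := IsPGroup.iff_orderOf.1 hR ⟨x, hx⟩
      rw [Subgroup.orderOf_mk] at hk
      rcases Nat.eq_zero_or_pos k with rfl | hk0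
      · rw [show x = 1 from orderOf_eq_one_iff.1 (by simpa using hk), one_pow]
      · have := h.order_r x (hk ▸ dvd_pow_self r hk0.ne')
        rw [← this, pow_orderOf_eq_one]
  have hzp : ∀ c : L, orderOf c = r → IsPGroup r (zpowers c) := fun c hc =>
    IsPGroup.of_card (n := 1) (by rw [Nat.card_zpowers, hc, pow_one])
  have hNP : ∀ c : L, orderOf c = r → normalizer (zpowers c : Set L) = zpowers c := by
    intro c hc
    have hpr : IsPGroup r (normalizer (zpowers c : Set L)) := by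
      refine IsPGroup.of_card (Nat.eq_prime_pow_of_unique_prime_dvd Nat.card_pos.ne' ?_)
      intro d hd hdL
      by_contra hdq
      haveI := Fact.mk hd
      obtain ⟨n, hn⟩ := exists_prime_orderOf_dvd_card'
        (G := normalizer (zpowers c : Set L)) d hdL
      have := h.eq_bot_of_isPGroup (hzp c hc) hd hdq (n := (n : L))
        (by rw [Subgroup.orderOf_coe, hn]) fun a ha => (mem_normalizer_iff.1 n.2 a).1 ha
      rw [zpowers_eq_bot] at this
      rw [this, orderOf_one] at hc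
      exact h.prime.one_lt.ne hc
    exact (eq_of_le_of_card_ge le_normalizer (by
      rw [Nat.card_zpowers, hc]; exact hRle _ hpr)).symm
  refine ⟨hRle, hNP, Or.inr ?_⟩
  have hCcop : (Nat.card C).Coprime r := by
    rw [Nat.coprime_comm, h.prime.coprime_iff_not_dvd]
    intro hd
    obtain ⟨x, hx⟩ := exists_prime_orderOf_dvd_card' (G := C) r hd
    exact hCr x x.2 (by rw [Subgroup.orderOf_coe, hx])
  have hcC : ∀ c : L, orderOf c = r → ∀ i : ℤ, c ^ i ∈ C → c ^ i = 1 := by
    intro c hc i hi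
    by_contra hne
    refine hCr _ hi ?_
    rcases h.prime.eq_one_or_self_of_dvd _ (hc ▸ orderOf_dvd_of_mem_zpowers ⟨i, rfl⟩) with e | e
    · exact absurd (orderOf_eq_one_iff.1 e) hne
    · rw [e]
  -- `L = C ⟨c₀⟩`
  have hdecomp : ∀ g : L, ∃ x ∈ C, ∃ i : ℤ, g = x * c₀ ^ i := by
    intro g
    have hzg : orderOf (g * c₀ * g⁻¹) = r := ((MulAut.conj g).orderOf_eq c₀).trans hc₀
    have hcomm : g * c₀ * g⁻¹ * c₀⁻¹ ∈ C := by
      refine (hmemC _).2 ?_
      obtain ⟨i, hi⟩ := mem_zpowers_iff.1 (hznorm g)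
      obtain ⟨j, hj⟩ := mem_zpowers_iff.1 (hznorm c₀)
      -- both act on `⟨z⟩` as powers, which commute
      have hpow : ∀ (x : L) (k : ℤ), z ^ k = x * z * x⁻¹ → ∀ e : ℤ, x * z ^ e * x⁻¹ = z ^ (k * e) := by
        intro x k hk e
        rw [← conj_zpow, ← hk, zpow_mul]
      have hgi := hpow g i hi
      have hcj := hpow c₀ j hj
      have key : g * c₀ * z * (g * c₀)⁻¹ = c₀ * g * z * (c₀ * g)⁻¹ := by
        calc g * c₀ * z * (g * c₀)⁻¹ = g * (c₀ * z * c₀⁻¹) * g⁻¹ := by group
          _ = z ^ (i * j) := by rw [← hj, hgi]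
          _ = c₀ * (g * z * g⁻¹) * c₀⁻¹ := by rw [← hi, hcj, mul_comm]
          _ = c₀ * g * z * (c₀ * g)⁻¹ := by group
      have key2 : (c₀ * g)⁻¹ * (g * c₀) * z * ((c₀ * g)⁻¹ * (g * c₀))⁻¹ = z := by
        calc _ = (c₀ * g)⁻¹ * (g * c₀ * z * (g * c₀)⁻¹) * (c₀ * g) := by group
          _ = z := by rw [key]; group
      have h3 : Commute ((c₀ * g)⁻¹ * (g * c₀)) z := mul_inv_eq_iff_eq_mul.1 key2
      have h4 := hCn.conj_mem _ ((hmemC _).2 h3) (c₀ * g)
      have e : c₀ * g * ((c₀ * g)⁻¹ * (g * c₀)) * (c₀ * g)⁻¹ = g * c₀ * g⁻¹ * c₀⁻¹ := by group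
      rw [e] at h4
      exact (hmemC _).1 h4
    have heq : C ⊔ zpowers c₀ = C ⊔ zpowers (g * c₀ * g⁻¹) := by
      refine le_antisymm (sup_le le_sup_left (zpowers_le.2 ?_)) (sup_le le_sup_left (zpowers_le.2 ?_))
      · have := mul_mem (mem_sup_left (S := C) (T := zpowers (g * c₀ * g⁻¹)) (inv_mem hcomm))
          (mem_sup_right (mem_zpowers (g * c₀ * g⁻¹)))
        simpa [mul_assoc] using this
      · have := mul_mem (mem_sup_left (S := C) (T := zpowers c₀) hcomm)
          (mem_sup_right (mem_zpowers c₀))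
        simpa [mul_assoc] using this
    obtain ⟨x, hx, hxeq⟩ := CfsgLib.Coprime.exists_conj_eq_of_sup_eq (N := C)
      (H := zpowers c₀) (K := zpowers (g * c₀ * g⁻¹)) le_normalizer_of_normal le_normalizer_of_normal
      (by rw [Nat.card_zpowers, hc₀]; exact hCcop) (by rw [Nat.card_zpowers, Nat.card_zpowers, hzg, hc₀])
      heq (Or.inl inferInstance)
    have hmem : x⁻¹ * g ∈ normalizer (zpowers c₀ : Set L) := by
      rw [mem_normalizer_iff]
      intro a
      have hK : ∀ b, b ∈ zpowers (g * c₀ * g⁻¹) ↔ g⁻¹ * b * g ∈ zpowers c₀ := by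
        intro b
        have e : zpowers (g * c₀ * g⁻¹) = (zpowers c₀).map (MulAut.conj g).toMonoidHom := by
          rw [MonoidHom.map_zpowers]; rfl
        rw [e]
        constructor
        · rintro ⟨k, hk, rfl⟩; simpa [mul_assoc] using hk
        · intro hb; exact ⟨_, hb, by simp [mul_assoc]⟩
      have hH : ∀ b, b ∈ zpowers (g * c₀ * g⁻¹) ↔ x⁻¹ * b * x ∈ zpowers c₀ := by
        intro b
        rw [← hxeq, Subgroup.mem_pointwise_smul_iff_inv_smul_mem]
        simp [MulAut.smul_def]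
      have := (hK (g * a * g⁻¹)).symm.trans (hH (g * a * g⁻¹))
      simpa [mul_assoc] using this
    rw [hNP c₀ hc₀] at hmem
    obtain ⟨i, hi⟩ := mem_zpowers_iff.1 hmem
    exact ⟨x, hx, i, by rw [hi]; group⟩
  have hcard : Nat.card L = Nat.card C * r := by
    rw [← hc₀, ← Nat.card_zpowers, ← Nat.card_prod]
    refine (Nat.card_eq_of_bijective (fun p : C × zpowers c₀ => (p.1 : L) * p.2) ⟨?_, ?_⟩).symm
    · rintro ⟨⟨a, ha⟩, ⟨b, hb⟩⟩ ⟨⟨a', ha'⟩, ⟨b', hb'⟩⟩ he
      obtain ⟨i, hi⟩ := mem_zpowers_iff.1 hb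
      obtain ⟨j, hj⟩ := mem_zpowers_iff.1 hb'
      subst hi hj
      have he' : a * c₀ ^ i = a' * c₀ ^ j := he
      have hd : c₀ ^ (j - i) ∈ C := by
        rw [show c₀ ^ (j - i) = a'⁻¹ * a by
          rw [zpow_sub, eq_inv_mul_iff_mul_eq, ← mul_assoc, ← he', mul_inv_cancel_right]]
        exact mul_mem (inv_mem ha') ha
      have h1 := hcC c₀ hc₀ _ hd
      rw [zpow_sub, mul_inv_eq_one] at h1
      rw [← h1] at he'
      exact Prod.ext (Subtype.ext (mul_right_cancel he'.symm).symm) (Subtype.ext h1.symm)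
    · intro g
      obtain ⟨x, hx, i, rfl⟩ := hdecomp g
      exact ⟨(⟨x, hx⟩, ⟨c₀ ^ i, i, rfl⟩), rfl⟩
  have hCfpf : ∀ x ∈ C, ∀ v, v ≠ 1 → act x v = v → x = 1 := fun x hx v hv he => by
    by_contra hx1
    exact hv (h.fpf x hx1 (fun hd => hCr x hx hd) v he)
  have hinj : ∀ v, v ≠ 1 → Nat.card (stab h v) ≤ r ∧ (stab h v) ⊓ C = ⊥ := by
    intro v hv
    have hinf : stab h v ⊓ C = ⊥ := (eq_bot_iff_forall _).2 fun x hx => hCfpf x hx.2 v hv hx.1
    refine ⟨?_, hinf⟩
    choose f hf e he using fun x : stab h v => hdecomp x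
    refine le_trans (Nat.card_le_card_of_injective
      (fun x => (⟨c₀ ^ e x, e x, rfl⟩ : zpowers c₀)) fun x y hxy => ?_)
      (by rw [Nat.card_zpowers, hc₀])
    have hxy' : c₀ ^ e x = c₀ ^ e y := congrArg Subtype.val hxy
    have hm : (x : L) * (y : L)⁻¹ ∈ stab h v ⊓ C := by
      refine Subgroup.mem_inf.2 ⟨mul_mem x.2 (inv_mem y.2), ?_⟩
      rw [he x, he y, hxy']
      simpa [mul_assoc] using mul_mem (hf x) (inv_mem (hf y))
    rw [hinf, Subgroup.mem_bot, mul_inv_eq_one] at hm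
    exact Subtype.ext hm
  have hstr : ∀ v, v ≠ 1 → Nat.card (stab h v) = r := by
    intro v hv
    refine le_antisymm (hinj v hv).1 (Nat.le_of_dvd Nat.card_pos ?_)
    by_contra hnd
    -- no element of order `r` fixes anything, contradicting the norm identity
    have hall : ∀ l : L, l ≠ 1 → ∀ w, act l w = w → w = 1 := by
      intro l hl w hlw
      by_contra hw
      have hlr : r ∣ orderOf l := by
        by_contra hd
        exact hw (h.fpf l hl hd w hlw)
      have h1 : r ∣ Nat.card (stab h w) := hlr.trans (orderOf_dvd_natCard _ hlw)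
      refine hnd ?_
      have e : Nat.card (stab h v) = Nat.card (stab h w) := by
        have h2 := (h.card_eq_stab_mul hv).1.trans (h.card_eq_stab_mul hw).1.symm
        exact Nat.eq_of_mul_eq_mul_right (by have := h.four_le; omega) h2
      rwa [e]
    have hc1 : c₀ ∉ zpowers z := fun hm => by
      have := (orderOf_dvd_natCard _ hm)
      rw [hc₀, Nat.card_zpowers, hzo] at this
      exact hqr ((Nat.prime_dvd_prime_iff_eq h.prime hq).1 this).symm
    have hnn : ∀ a ∈ zpowers z, c₀ * a * c₀⁻¹ ∈ zpowers z := fun a ha => by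
      obtain ⟨i, rfl⟩ := mem_zpowers_iff.1 ha
      rw [← conj_zpow]; exact zpow_mem (hznorm c₀) i
    have hcp : c₀ ^ r = 1 := by rw [← hc₀]; exact pow_orderOf_eq_one c₀
    have hrQ : ¬ r ∣ Nat.card (zpowers z) := by
      rw [Nat.card_zpowers, hzo]
      exact fun hd => hqr ((Nat.prime_dvd_prime_iff_eq h.prime hq).1 hd).symm
    have hbot : zpowers z = ⊥ := h.eq_bot_of_fpf h.prime hnn
      (fun a ha => mul_pow_eq_one _ hcp hnn ha fun g hg hgn hg1 => by
        have h1 : r ∣ orderOf g := dvd_orderOf_of_coset (zpowers z) h.prime hcp hrQ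
          (fun e => h.prime.one_lt.ne' (by rw [← hc₀, e, orderOf_one])) hg hgn
        exact hg1 (by rw [← h.order_r g h1, pow_orderOf_eq_one]))
      fun a ha => hall _ fun e => hc1 (by
        rw [eq_inv_of_mul_eq_one_right e]; exact inv_mem ha)
    rw [zpowers_eq_bot] at hbot
    rw [hbot, orderOf_one] at hzo
    exact hq.one_lt.ne hzo
  have hCv : Nat.card C = Nat.card V - 1 := by
    have h1 := (h.card_eq_stab_mul hv₀).1
    rw [hstr v₀ hv₀, hcard, mul_comm] at h1
    exact (Nat.eq_of_mul_eq_mul_right h.prime.pos h1).symm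
  refine ⟨by rw [hcard, hCv], hCv ▸ hCcop, fun c hc => ?_, q, z, hq, hqr, hzo, huniq⟩
  -- a fixed element of `c`
  obtain ⟨d, hd⟩ := exists_prime_orderOf_dvd_card' (G := stab h v₀) r (by rw [hstr v₀ hv₀])
  have hdo : orderOf (d : L) = r := by rw [Subgroup.orderOf_coe, hd]
  have hsyl : ∀ e : L, orderOf e = r → ∃ P : Sylow r L, (P : Subgroup L) = zpowers e := by
    intro e he
    obtain ⟨P, hP⟩ := (hzp e he).exists_le_sylow
    exact ⟨P, (eq_of_le_of_card_ge hP (by rw [Nat.card_zpowers, he]; exact hRle _ P.2)).symm⟩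
  obtain ⟨P, hP⟩ := hsyl _ hdo
  obtain ⟨P', hP'⟩ := hsyl c hc
  obtain ⟨g, hg⟩ := MulAction.exists_smul_eq L P P'
  have hcg : g⁻¹ * c * g ∈ zpowers (d : L) := by
    have : c ∈ ((g • P : Sylow r L) : Subgroup L) := by rw [hg, hP']; exact mem_zpowers c
    rw [Sylow.coe_subgroup_smul, Subgroup.mem_pointwise_smul_iff_inv_smul_mem, hP] at this
    simpa [MulAut.smul_def] using this
  set s := act g v₀ with hs
  have hs1 : s ≠ 1 := fun e => hv₀ ((MulEquiv.map_eq_one_iff _).1 e)
  have hcs : act c s = s := by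
    have h1 : act (g⁻¹ * c * g) v₀ = v₀ := (zpowers_le.2 d.2 : zpowers (d : L) ≤ stab h v₀) hcg
    rw [map_mul, map_mul, MulAut.mul_apply, MulAut.mul_apply, map_inv] at h1
    exact (MulEquiv.symm_apply_eq _).1 h1
  have hstab : stab h s = zpowers c := (eq_of_le_of_card_ge (zpowers_le.2 hcs)
    (by rw [hstr s hs1, Nat.card_zpowers, hc])).symm
  have hcover : ∀ g : L, ∃ x ∈ C, ∃ i : ℤ, g = x * c ^ i := by
    intro g
    -- `C ⟨c⟩` has full order
    have hfull : C ⊔ zpowers c = ⊤ := by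
      refine eq_top_of_card_eq _ (Nat.dvd_antisymm (card_subgroup_dvd_card _) ?_)
      rw [hcard]
      refine hCcop.mul_dvd_of_dvd_of_dvd (card_dvd_of_le le_sup_left) ?_
      have := card_dvd_of_le (le_sup_right : zpowers c ≤ C ⊔ zpowers c)
      rwa [Nat.card_zpowers, hc] at this
    have : g ∈ ((C ⊔ zpowers c : Subgroup L) : Set L) := by rw [hfull]; exact mem_top g
    rw [Subgroup.normal_mul] at this
    obtain ⟨x, hx, y, ⟨i, rfl⟩, rfl⟩ := Set.mem_mul.1 this
    exact ⟨x, hx, i, rfl⟩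
  refine ⟨s, hs1, hcs, fun v hv => ?_⟩
  by_contra hcon
  push Not at hcon
  obtain ⟨l, hl⟩ := h.trans s v hs1 hcon.1
  obtain ⟨x, hx, i, rfl⟩ := hcover l
  have hci : act (c ^ i) s = s := h.mem_stab.1 (zpow_mem hcs i)
  rw [map_mul, MulAut.mul_apply, hci] at hl
  have hy : x⁻¹ * (c * x * c⁻¹) ∈ stab h s ⊓ C := by
    refine Subgroup.mem_inf.2 ⟨?_, mul_mem (inv_mem hx) (hCn.conj_mem x hx c)⟩
    show act _ s = s
    have h1 : act c⁻¹ s = s := (stab h s).inv_mem hcs
    rw [map_mul, map_mul, map_mul, MulAut.mul_apply, MulAut.mul_apply, MulAut.mul_apply, h1, hl,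
      hv, ← hl, ← MulAut.mul_apply, ← map_mul, inv_mul_cancel, map_one, MulAut.one_apply]
  rw [(hinj s hs1).2, Subgroup.mem_bot, inv_mul_eq_one] at hy
  have hxc : Commute c x := mul_inv_eq_iff_eq_mul.1 hy.symm
  have hxr : x ∈ normalizer (zpowers c : Set L) :=
    centralizer_le_normalizer _ (by
      rw [mem_centralizer_iff]
      rintro _ ⟨j, rfl⟩
      exact (hxc.zpow_left j).eq)
  rw [hNP c hc] at hxr
  obtain ⟨j, rfl⟩ := mem_zpowers_iff.1 hxr
  rw [hcC c hc j hx, map_one, MulAut.one_apply] at hl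
  exact hcon.2 hl.symm

end TransOdd

end CfsgLib.OneComposite
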