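import Cfsg.Agent.OneComposite.Local
import Cfsg.Agent.OneComposite.Trans
import Cfsg.Agent.CITGroups.Kernel

/-!
# The strongly embedded case: the normaliser and its image in the automorphisms of `S`
-/

set_option autoImplicit false
set_option linter.unusedSectionVars false
set_option linter.style.haveILetI false

namespace CfsgLib.OneComposite

open Subgroup

universe u

variable {G : Type u} [Group G] [Finite G] {r : ℕ}

/-- `S` is a Sylow 2-subgroup and the centralisers of its involutions normalise it. -/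
def LocalsIn (S : Sylow 2 G) : Prop :=
  ∀ t ∈ (S : Subgroup G), t ≠ 1 →
    centralizer ({t} : Set G) ≤ normalizer ((S : Subgroup G) : Set G)

/-- The facts about the image of `N(S)` in the automorphisms of `S` when `r` divides its order. -/
structure ImageData (S : Sylow 2 G) (r : ℕ) : Prop where
  exists_c : ∃ c ∈ normalizer ((S : Subgroup G) : Set G),
    orderOf c = r ∧ c ∉ centralizer ((S : Subgroup G) : Set G)
  in_cyclic : ∀ R : Subgroup G, R ≤ normalizer ((S : Subgroup G) : Set G) → IsPGroup r R →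
    ∀ c ∈ R, c ∉ centralizer ((S : Subgroup G) : Set G) →
      ∀ x ∈ R, ∃ i : ℤ, x * (c ^ i)⁻¹ ∈ centralizer ((S : Subgroup G) : Set G)
  self_norm : ∀ c ∈ normalizer ((S : Subgroup G) : Set G), orderOf c = r →
    c ∉ centralizer ((S : Subgroup G) : Set G) →
      ∀ m ∈ normalizer ((S : Subgroup G) : Set G),
        (∃ i : ℤ, m * c * m⁻¹ * (c ^ i)⁻¹ ∈ centralizer ((S : Subgroup G) : Set G)) →
          ∃ j : ℤ, m * (c ^ j)⁻¹ ∈ centralizer ((S : Subgroup G) : Set G)
  cases : (∀ m ∈ normalizer ((S : Subgroup G) : Set G),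
      m ∉ centralizer ((S : Subgroup G) : Set G) →
        ∀ s ∈ (S : Subgroup G), s ≠ 1 → ¬ Commute m s) ∨
    ((∀ c ∈ normalizer ((S : Subgroup G) : Set G), orderOf c = r →
        c ∉ centralizer ((S : Subgroup G) : Set G) →
          ∃ s ∈ (S : Subgroup G), s ≠ 1 ∧ Commute c s ∧
            ∀ v ∈ (S : Subgroup G), Commute c v → v = 1 ∨ v = s) ∧
      (Nat.card (S : Subgroup G) - 1).Coprime r ∧
      Nat.card (normalizer ((S : Subgroup G) : Set G)) =
        Nat.card (centralizer ((S : Subgroup G) : Set G)) * ((Nat.card (S : Subgroup G) - 1) * r) ∧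
      ∃ q : ℕ, q.Prime ∧ q ≠ r ∧ q ∣ (Nat.card (S : Subgroup G) - 1) * r ∧
        ∀ X : Subgroup G, X ≤ normalizer ((S : Subgroup G) : Set G) →
          X ⊓ centralizer ((S : Subgroup G) : Set G) = ⊥ →
            ∀ y ∈ X, ∀ z ∈ X, orderOf y = q → orderOf z = q → y ∈ zpowers z)

namespace Hyp

variable (h : Hyp G r) (S : Sylow 2 G) (hloc : LocalsIn S)
include h

local notation "M" => normalizer ((S : Subgroup G) : Set G)
local notation "K" => centralizer ((S : Subgroup G) : Set G)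

theorem sylow_le_centralizer : (S : Subgroup G) ≤ K := fun _ hs =>
  mem_centralizer_iff.2 fun _ ht => (h.commute_mem S ht hs).eq

theorem pow_two_r_centralizer {x : G} (hx : x ∈ K) : x ^ (2 * r) = 1 := by
  obtain ⟨t, ht, ht1⟩ := h.exists_invol S
  exact h.pow_two_r_of_commute_invol (h.orderOf_mem S ht ht1) (mem_centralizer_iff.1 hx t ht)

include hloc

theorem stronglyEmbedded : Cfsg.IsStronglyEmbedded M := by
  obtain ⟨t₀, ht₀, ht₀1⟩ := h.exists_invol S
  have heven : Even (Nat.card M) := even_iff_two_dvd.2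
    ((h.orderOf_mem S ht₀ ht₀1).symm.dvd.trans (orderOf_dvd_natCard M (le_normalizer ht₀)))
  refine (CfsgLib.Small.isStronglyEmbedded_iff_centralizer (h.normalizer_ne_top S) heven).2
    ⟨fun t ht hto => ?_, fun t ht s hs hto hso hconj => ?_⟩
  · refine hloc t (h.mem_of_sq S ht ?_) ?_
    · rw [← hto, pow_orderOf_eq_one]
    · rintro rfl; rw [orderOf_one] at hto; omega
  · have htS := h.mem_of_sq S ht (by rw [← hto, pow_orderOf_eq_one])
    have hsS := h.mem_of_sq S hs (by rw [← hso, pow_orderOf_eq_one])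
    obtain ⟨g, rfl⟩ := isConj_iff.1 hconj
    exact h.exists_normalizer_conj S htS hsS

/-- An element conjugating an involution of `S` into `N(S)` normalises `S`. -/
theorem mem_of_conj {t g : G} (ht : t ∈ (S : Subgroup G)) (ht1 : t ≠ 1) (hg : g * t * g⁻¹ ∈ M) :
    g ∈ M := by
  have hse := (CfsgLib.Small.isStronglyEmbedded_iff (h.normalizer_ne_top S)
    (h.stronglyEmbedded S hloc).2.1).1 (h.stronglyEmbedded S hloc) t (le_normalizer ht)
    (h.orderOf_mem S ht ht1) g⁻¹ (by simpa using hg)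
  simpa using inv_mem hse

theorem exists_conj_mem {a b : G} (ha : a ∈ (S : Subgroup G)) (ha1 : a ≠ 1)
    (hb : b ∈ (S : Subgroup G)) (hb1 : b ≠ 1) : ∃ n ∈ M, n * a * n⁻¹ = b := by
  haveI := CfsgLib.SEmbed.nontrivial_cosets (h.stronglyEmbedded S hloc)
  obtain ⟨g, hg⟩ := isConj_iff.1 (CfsgLib.SEmbed.isConj_invol
    (CfsgLib.SEmbed.uniqueFix (h.stronglyEmbedded S hloc))
    (h.orderOf_mem S ha ha1) (h.orderOf_mem S hb hb1))
  obtain ⟨n, hn, he⟩ := h.exists_normalizer_conj S ha (g := g) (by rw [hg]; exact hb)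
  exact ⟨n, hn, by rw [he, hg]⟩

/-- A commuting pair with the involution in `S`. -/
theorem exists_pair_mem : ∃ t w : G, t ∈ (S : Subgroup G) ∧ t ≠ 1 ∧ orderOf w = r ∧ Commute t w ∧
    w ∈ M := by
  haveI : Fact (Nat.Prime 2) := ⟨Nat.prime_two⟩
  obtain ⟨t, w, ht, hw, hc⟩ := h.exists_pair
  obtain ⟨P, hP⟩ := (IsPGroup.of_card (p := 2) (n := 1) (G := zpowers t)
    (by rw [Nat.card_zpowers, ht, pow_one])).exists_le_sylow
  obtain ⟨g, hg⟩ := MulAction.exists_smul_eq G P S
  have htS : g * t * g⁻¹ ∈ (S : Subgroup G) := by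
    rw [← hg, Sylow.coe_subgroup_smul]
    exact ⟨t, hP (mem_zpowers t), rfl⟩
  have hne : g * t * g⁻¹ ≠ 1 := fun e => by
    rw [conj_eq_one_iff.1 e, orderOf_one] at ht; omega
  have hc' : Commute (g * t * g⁻¹) (g * w * g⁻¹) := by
    show g * t * g⁻¹ * (g * w * g⁻¹) = g * w * g⁻¹ * (g * t * g⁻¹)
    rw [conj_mul, conj_mul, hc.eq]
  exact ⟨_, _, htS, hne, ((MulAut.conj g).orderOf_eq w).trans hw, hc',
    hloc _ htS hne (mem_centralizer_singleton_iff.2 hc'.eq.symm)⟩

/-- The centraliser of an element of order `r` centralising `S` normalises `S`. -/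
theorem centralizer_r_le {w : G} (hw : w ∈ K) (hwo : orderOf w = r) :
    centralizer ({w} : Set G) ≤ M := by
  haveI : IsMulCommutative (S : Subgroup G) := h.isMulCommutative S
  set X := centralizer ({w} : Set G) with hX
  have hSX : (S : Subgroup G) ≤ X := fun s hs =>
    mem_centralizer_singleton_iff.2 (mem_centralizer_iff.1 hw s hs)
  have hSO : (S : Subgroup G) ≤ normalizer (oddO X : Set G) := hSX.trans le_normalizer_oddO
  have hOM : oddO X ≤ M := CfsgLib.Coprime.le_of_forall_inf_centralizer_le (h.not_isCyclic S) hSO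
    (h.coprime_card S odd_oddO) fun a ha ha1 => inf_le_right.trans (hloc a ha ha1)
  refine h.le_normalizer_of_centralizes S (h.isSolvable_of_pow (h.pow_centralizer_r hwo)) hSX ?_
  intro x hx
  rw [mem_centralizer_iff]
  intro s hs
  have h1 : s * x * s⁻¹ * x⁻¹ ∈ oddO X ⊓ (S : Subgroup G) := by
    refine Subgroup.mem_inf.2 ⟨mul_mem ((mem_normalizer_iff.1 (hSO hs) x).1 hx) (inv_mem hx), ?_⟩
    have : s * x * s⁻¹ * x⁻¹ = s * (x * s⁻¹ * x⁻¹) := by group
    rw [this]
    exact mul_mem hs ((mem_normalizer_iff.1 (hOM hx) _).1 (inv_mem hs))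
  rw [h.inf_eq_bot S odd_oddO, Subgroup.mem_bot, mul_inv_eq_one, mul_inv_eq_iff_eq_mul] at h1
  exact h1

/-- The normaliser of `C(S)` is `N(S)`. -/
theorem normalizer_centralizer : normalizer (K : Set G) = M := by
  obtain ⟨t, ht, ht1⟩ := h.exists_invol S
  refine le_antisymm (fun g hg => h.mem_of_conj S hloc ht ht1 ?_) (fun g hg => ?_)
  · exact Subgroup.centralizer_le_normalizer _
      ((mem_normalizer_iff.1 hg t).1 (h.sylow_le_centralizer S ht))
  · have key : ∀ g ∈ M, ∀ x ∈ K, g * x * g⁻¹ ∈ K := by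
      intro g hg x hx
      rw [mem_centralizer_iff]
      intro s hs
      have hs' : g⁻¹ * s * g ∈ (S : Subgroup G) := by
        simpa using (mem_normalizer_iff.1 (inv_mem hg) s).1 hs
      calc s * (g * x * g⁻¹) = g * ((g⁻¹ * s * g) * x) * g⁻¹ := by group
        _ = g * (x * (g⁻¹ * s * g)) * g⁻¹ := by rw [mem_centralizer_iff.1 hx _ hs']
        _ = g * x * g⁻¹ * s := by group
    refine mem_normalizer_iff.2 fun x => ⟨key g hg x, fun hx => ?_⟩
    simpa [mul_assoc] using key g⁻¹ (inv_mem hg) _ hx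

omit hloc in
private theorem ker_apply {m : G} (hm : m ∈ M) :
    Subgroup.normalizerMonoidHom (S : Subgroup G) ⟨m, hm⟩ = 1 ↔ m ∈ K := by
  rw [← MonoidHom.mem_ker, normalizerMonoidHom_ker, mem_subgroupOf]

set_option maxHeartbeats 800000 in
/-- Either `r`-elements of `N(S)` centralise `S`, or the image data hold. -/
theorem trichotomy : (∀ m ∈ M, m ^ (2 * r) = 1 → m ∈ K) ∨ ImageData S r := by
  classical
  haveI := Fact.mk h.prime
  haveI : Fact (Nat.Prime 2) := ⟨Nat.prime_two⟩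
  letI : CommGroup (S : Subgroup G) :=
    { (inferInstance : Group (S : Subgroup G)) with
      mul_comm := fun a b => Subtype.ext (h.commute_mem S a.2 b.2).eq }
  set ψ := Subgroup.normalizerMonoidHom (S : Subgroup G) with hψ
  set L := ψ.range with hL
  have hker : ∀ (m : G) (hm : m ∈ M), ψ ⟨m, hm⟩ = 1 ↔ m ∈ K := fun m hm => h.ker_apply S hm
  have happ : ∀ (m : G) (hm : m ∈ M) (s : (S : Subgroup G)),
      (((ψ ⟨m, hm⟩) s : (S : Subgroup G)) : G) = m * s * m⁻¹ := fun _ _ _ => rfl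
  have hfix : ∀ (m : G) (hm : m ∈ M) (s : (S : Subgroup G)),
      (ψ ⟨m, hm⟩) s = s ↔ Commute m (s : G) := fun m hm s =>
    ⟨fun e => mul_inv_eq_iff_eq_mul.1 (congrArg Subtype.val e),
      fun e => Subtype.ext (mul_inv_eq_iff_eq_mul.2 e)⟩
  have hcard : Nat.card M = Nat.card K * Nat.card L := by
    have h1 := Subgroup.card_mul_index ψ.ker
    rw [Subgroup.index_ker, hψ, normalizerMonoidHom_ker,
      Nat.card_congr (subgroupOfEquivOfLe (centralizer_le_normalizer _)).toEquiv] at h1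
    exact h1.symm
  have hodd : Odd (Nat.card L) := by
    refine Nat.odd_iff.2 (Nat.two_dvd_ne_zero.1 fun hd => ?_)
    obtain ⟨⟨l, m, rfl⟩, hl⟩ := exists_prime_orderOf_dvd_card' (G := L) 2 hd
    replace hl : orderOf (ψ m) = 2 := (Subgroup.orderOf_coe _).trans hl
    have hdm : 2 ∣ orderOf (m : G) :=
      (hl.symm.dvd.trans (orderOf_map_dvd ψ m)).trans (Subgroup.orderOf_coe m).symm.dvd
    have hm2r := h.pow_two_r_of_dvd hdm
    have hmr : (m : G) ^ r ∈ K := h.sylow_le_centralizer S (h.mem_of_sq S (pow_mem m.2 r) (by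
      rw [← pow_mul, mul_comm, hm2r]))
    have h1 : ψ m ^ r = 1 := by
      rw [← map_pow]
      exact (hker _ (pow_mem m.2 r)).2 hmr
    have := orderOf_dvd_of_pow_eq_one h1
    rw [hl] at this
    exact h.ne_two ((Nat.prime_dvd_prime_iff_eq Nat.prime_two h.prime).1 this).symm
  have hroot : ∀ (m : G) (hm : m ∈ M), m ^ (2 * r) = 1 → (ψ ⟨m, hm⟩) ^ r = 1 := by
    intro m hm hp
    have h1 : (ψ ⟨m, hm⟩) ^ (r * 2) = 1 := by
      rw [← map_pow]
      exact (hker _ (pow_mem hm _)).2 (by rw [mul_comm, hp]; exact one_mem _)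
    have h2 : orderOf (⟨ψ ⟨m, hm⟩, ⟨_, rfl⟩⟩ : L) ∣ r * 2 :=
      orderOf_dvd_of_pow_eq_one (Subtype.ext (by simpa using h1))
    have h3 : (orderOf (⟨ψ ⟨m, hm⟩, ⟨_, rfl⟩⟩ : L)).Coprime 2 :=
      (Nat.coprime_two_right).2 (hodd.of_dvd_nat (orderOf_dvd_natCard _))
    have h4 := h3.dvd_of_dvd_mul_right h2
    exact orderOf_dvd_iff_pow_eq_one.1 ((Subgroup.orderOf_coe _).dvd.trans h4)
  have hT : TransOdd L.subtype r := by
    refine ⟨L.subtype_injective, hodd, fun s => Subtype.ext (by simpa using h.sq_mem S s.2),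
      h.four_le S, ?_, ?_, ?_, h.prime⟩
    · rintro a b ha hb
      obtain ⟨n, hn, he⟩ := h.exists_conj_mem S hloc a.2
        (fun e => ha (Subtype.ext e)) b.2 (fun e => hb (Subtype.ext e))
      exact ⟨⟨ψ ⟨n, hn⟩, ⟨_, rfl⟩⟩, Subtype.ext he⟩
    · rintro ⟨l, ⟨m, hm⟩, rfl⟩ hl hr s hs
      by_contra hs1
      have hc := (hfix m hm s).1 hs
      have hp := hroot m hm (h.pow_two_r_of_commute_invol
        (h.orderOf_mem S s.2 fun e => hs1 (Subtype.ext e)) hc.symm)
      have hd := orderOf_dvd_of_pow_eq_one hp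
      rcases h.prime.eq_one_or_self_of_dvd _ hd with e | e
      · exact hl (Subtype.ext (orderOf_eq_one_iff.1 e))
      · exact hr (e.symm.dvd.trans (Subgroup.orderOf_coe _).dvd)
    · rintro ⟨l, ⟨m, hm⟩, rfl⟩ hd
      replace hd : r ∣ orderOf (ψ ⟨m, hm⟩) := hd.trans (Subgroup.orderOf_coe _).symm.dvd
      refine (Subgroup.orderOf_coe _).symm.trans ?_
      have h1 : r ∣ orderOf m := hd.trans (by
        have := orderOf_map_dvd ψ (⟨m, hm⟩ : M)
        rwa [Subgroup.orderOf_mk] at this)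
      have hp := hroot m hm (by
        refine orderOf_dvd_iff_pow_eq_one.1 ?_
        rcases h.order_r m h1 with e | e <;> rw [e]
        exact dvd_mul_left r 2)
      exact Nat.dvd_antisymm (orderOf_dvd_of_pow_eq_one hp) hd
  by_cases hrL : r ∣ Nat.card L
  swap
  · left
    intro m hm hp
    by_contra hmK
    refine hrL ?_
    have hd := orderOf_dvd_of_pow_eq_one (hroot m hm hp)
    rcases h.prime.eq_one_or_self_of_dvd _ hd with e | e
    · exact absurd ((hker m hm).1 (orderOf_eq_one_iff.1 e)) hmK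
    · rw [← e]
      exact orderOf_dvd_natCard L ⟨_, rfl⟩
  right
  obtain ⟨hR, hN, hcases⟩ := hT.dichotomy hrL
  have himg : ∀ (c : G) (hc : c ∈ M), orderOf c = r → c ∉ K →
      orderOf (⟨ψ ⟨c, hc⟩, ⟨_, rfl⟩⟩ : L) = r := by
    intro c hc hco hcK
    refine orderOf_eq_prime (Subtype.ext ?_) (fun e => hcK ((hker c hc).1 (congrArg Subtype.val e)))
    show ψ ⟨c, hc⟩ ^ r = 1
    rw [← map_pow]
    exact (hker _ (pow_mem hc r)).2 (by rw [← hco, pow_orderOf_eq_one]; exact one_mem _)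
  constructor
  · -- an element of order `r` outside `C(S)`
    obtain ⟨⟨l, ⟨m, hm⟩, rfl⟩, hl⟩ := exists_prime_orderOf_dvd_card' (G := L) r hrL
    replace hl : orderOf (ψ ⟨m, hm⟩) = r := (Subgroup.orderOf_coe _).trans hl
    have h1 : r ∣ orderOf m := by
      have := orderOf_map_dvd ψ (⟨m, hm⟩ : M)
      rwa [Subgroup.orderOf_mk, hl] at this
    have hmK : m ∉ K := fun hm' => h.prime.one_lt.ne' (by rw [← hl, (hker m hm).2 hm', orderOf_one])
    rcases h.order_r m h1 with e | e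
    · exact ⟨m, hm, e, hmK⟩
    refine ⟨m ^ 2, pow_mem hm 2, ?_, fun hm2 => hmK ?_⟩
    · rw [orderOf_pow' m two_ne_zero, e, Nat.gcd_eq_right (dvd_mul_right 2 r),
        Nat.mul_div_cancel_left _ two_pos]
    · refine (hker m hm).1 (orderOf_eq_one_iff.1 (Nat.eq_one_of_dvd_coprimes
        (Nat.coprime_two_left.2 h.r_odd) ?_ (hl ▸ dvd_rfl)))
      refine orderOf_dvd_of_pow_eq_one ?_
      rw [← map_pow]
      exact (hker _ (pow_mem hm 2)).2 hm2
  · -- `r`-subgroups have image of order at most `r`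
    intro R hR' hRp c hcR hcK x hxR
    set R' : Subgroup L := (R.subgroupOf M).map ψ.rangeRestrict
    have hRp' : IsPGroup r R' := (hRp.comap_of_injective (M).subtype (M).subtype_injective).map _
    have hco : orderOf c = r := by
      obtain ⟨k, hk⟩ := hRp ⟨c, hcR⟩
      refine h.orderOf_eq_r_of_r_pow (k := k) (congrArg Subtype.val hk) ?_
      rintro rfl
      exact hcK (one_mem _)
    have hmem : ∀ y (hy : y ∈ R), (⟨ψ ⟨y, hR' hy⟩, ⟨_, rfl⟩⟩ : L) ∈ R' := fun y hy =>
      ⟨⟨y, hR' hy⟩, hy, rfl⟩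
    have hzeq : zpowers (⟨ψ ⟨c, hR' hcR⟩, ⟨_, rfl⟩⟩ : L) = R' :=
      eq_of_le_of_card_ge (zpowers_le.2 (hmem c hcR))
        (by rw [Nat.card_zpowers, himg c _ hco hcK]; exact hR R' hRp')
    obtain ⟨i, hi⟩ := mem_zpowers_iff.1 (hzeq.ge (hmem x hxR))
    refine ⟨i, (hker _ (mul_mem (hR' hxR) (inv_mem (zpow_mem (hR' hcR) i)))).1 ?_⟩
    have hi' : ψ ⟨c, hR' hcR⟩ ^ i = ψ ⟨x, hR' hxR⟩ := congrArg Subtype.val hi
    rw [← mul_inv_eq_one.2 hi'.symm, ← map_zpow, ← map_inv, ← map_mul]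
    rfl
  · intro c hc hco hcK m hm ⟨i, hi⟩
    set γ : L := ⟨ψ ⟨c, hc⟩, ⟨_, rfl⟩⟩ with hγ
    set μ : L := ⟨ψ ⟨m, hm⟩, ⟨_, rfl⟩⟩ with hμ
    have he : μ * γ * μ⁻¹ = γ ^ i := by
      refine mul_inv_eq_one.1 (Subtype.ext ?_)
      show ψ ⟨m, hm⟩ * ψ ⟨c, hc⟩ * (ψ ⟨m, hm⟩)⁻¹ * (ψ ⟨c, hc⟩ ^ i)⁻¹ = 1
      rw [← map_zpow, ← map_mul, ← map_inv, ← map_mul, ← map_inv, ← map_mul]
      exact (hker _ (mul_mem (mul_mem (mul_mem hm hc) (inv_mem hm))
        (inv_mem (zpow_mem hc i)))).2 hi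
    have hμn : μ ∈ normalizer (zpowers γ : Set L) := by
      refine CfsgLib.Transfer.mem_normalizer_of_map_conj_eq (eq_of_le_of_card_ge ?_
        (card_map_of_injective (MulAut.conj μ).injective).ge)
      rw [MonoidHom.map_zpowers, zpowers_le]
      exact ⟨i, he.symm⟩
    rw [hN γ (himg c hc hco hcK)] at hμn
    obtain ⟨j, hj⟩ := mem_zpowers_iff.1 hμn
    refine ⟨j, (hker _ (mul_mem hm (inv_mem (zpow_mem hc j)))).1 ?_⟩
    have hj' : ψ ⟨c, hc⟩ ^ j = ψ ⟨m, hm⟩ := congrArg Subtype.val hj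
    rw [← mul_inv_eq_one.2 hj'.symm, ← map_zpow, ← map_inv, ← map_mul]
    rfl
  · rcases hcases with ⟨-, hA⟩ | ⟨hLc, hcop, hB, q, z, hq, hqr, hzo, huniq⟩
    · left
      intro m hm hmK s hs hs1 hc
      have := hA ⟨ψ ⟨m, hm⟩, ⟨_, rfl⟩⟩ (fun e => hmK ((hker m hm).1 (congrArg Subtype.val e)))
        ⟨s, hs⟩ ((hfix m hm _).2 hc)
      exact hs1 (congrArg Subtype.val this)
    · right
      refine ⟨fun c hc hco hcK => ?_, hcop, by rw [hcard, hLc], q, hq, hqr,
        hLc ▸ hzo ▸ orderOf_dvd_natCard z, fun X hX hXK y hy z' hz' hyo hzo' => ?_⟩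
      · obtain ⟨s, hs1, hcs, huniq'⟩ := hB _ (himg c hc hco hcK)
        refine ⟨s, s.2, fun e => hs1 (Subtype.ext e), (hfix c hc s).1 hcs, fun v hv hcv => ?_⟩
        rcases huniq' ⟨v, hv⟩ ((hfix c hc _).2 hcv) with e | e
        · exact Or.inl (congrArg Subtype.val e)
        · exact Or.inr (congrArg Subtype.val e)
      · let f : X →* L := ψ.rangeRestrict.comp (inclusion hX)
        have hf : Function.Injective f := by
          rw [injective_iff_map_eq_one]
          rintro ⟨x, hx⟩ e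
          have := (hker x (hX hx)).1 (congrArg Subtype.val e)
          have h2 : x ∈ X ⊓ K := ⟨hx, this⟩
          rw [hXK, Subgroup.mem_bot] at h2
          exact Subtype.ext h2
        have hfo : ∀ x : X, orderOf (f x) = orderOf (x : G) := fun x => by
          rw [orderOf_injective f hf, Subgroup.orderOf_coe]
        have h1 := huniq _ ((hfo ⟨y, hy⟩).trans hyo)
        have h2 := huniq _ ((hfo ⟨z', hz'⟩).trans hzo')
        have hz : zpowers (f ⟨z', hz'⟩) = zpowers z := eq_of_le_of_card_ge (zpowers_le.2 h2)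
          (by rw [Nat.card_zpowers, Nat.card_zpowers, hzo, hfo, hzo'])
        rw [← hz, ← MonoidHom.map_zpowers] at h1
        obtain ⟨w, hw, hwy⟩ := h1
        obtain ⟨i, hi⟩ := mem_zpowers_iff.1 hw
        exact ⟨i, by rw [← hi] at hwy; exact congrArg Subtype.val (hf hwy)⟩

/-- If no `r`-element of `N(S)` acts nontrivially on `S`, there is a contradiction: `C(S)` is the
kernel of a Zassenhaus group, of order not a prime power. -/
theorem false_of_forall_mem (hK : ∀ m ∈ M, m ^ (2 * r) = 1 → m ∈ K) : False := by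
  haveI := h.isSimple
  haveI := Fact.mk h.prime
  haveI : Fact (Nat.Prime 2) := ⟨Nat.prime_two⟩
  obtain ⟨t, w, ht, ht1, hwo, htw, hwM⟩ := h.exists_pair_mem S hloc
  have hwK : w ∈ K := hK w hwM (by rw [mul_comm, pow_mul, ← hwo, pow_orderOf_eq_one, one_pow])
  have hN := h.normalizer_centralizer S hloc
  have hk2 : ∀ k ∈ K, ∀ x : G, Commute k x → k ≠ 1 → x ^ (2 * r) = 1 := by
    intro k hk x hc hk1
    by_cases hkr : k ^ r = 1
    · exact h.pow_two_r_of_commute_r (orderOf_eq_prime hkr hk1) hc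
    · exact h.pow_two_r_of_commute_invol (orderOf_eq_prime
        (by rw [← pow_mul, mul_comm, h.pow_two_r_centralizer S hk]) hkr) (hc.pow_left r)
  have K' : CfsgLib.CITGroups.SEKernel K := by
    refine ⟨by rw [hN]; exact h.normalizer_ne_top S,
      ⟨t, h.sylow_le_centralizer S ht, h.orderOf_mem S ht ht1⟩, fun x hx hxo => ?_,
      fun x hx hxo y hy => ?_, fun g k hk hk1 hgk => ?_, fun m hm k hk hk1 hc => ?_⟩
    · rw [hN] at hx
      exact h.sylow_le_centralizer S (h.mem_of_sq S hx (by rw [← hxo, pow_orderOf_eq_one]))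
    · have hxS := h.mem_of_sq S (centralizer_le_normalizer _ hx) (by rw [← hxo, pow_orderOf_eq_one])
      exact ((mem_centralizer_iff.1 hy x hxS).symm : y * x = x * y)
    · rw [hN]
      by_cases hkr : k ^ r = 1
      · have hgko : orderOf (g * k * g⁻¹) = r :=
          ((MulAut.conj g).orderOf_eq k).trans (orderOf_eq_prime hkr hk1)
        refine h.mem_of_conj S hloc ht ht1 (h.centralizer_r_le S hloc hgk hgko ?_)
        rw [mem_centralizer_singleton_iff, conj_mul, conj_mul, mem_centralizer_iff.1 hk t ht]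
      · have hkS : k ^ r ∈ (S : Subgroup G) := h.mem_of_sq S
          (pow_mem (centralizer_le_normalizer _ hk) r)
          (by rw [← pow_mul, mul_comm, h.pow_two_r_centralizer S hk])
        refine h.mem_of_conj S hloc hkS hkr ?_
        rw [← conj_pow]
        exact pow_mem (centralizer_le_normalizer _ hgk) r
    · rw [hN] at hm
      exact hK m hm (hk2 k hk m hc.symm hk1)
  have h1 := K'.isPrimePow_card
  obtain ⟨p, j, hp, -, hpj⟩ := h1
  have hp' : p.Prime := hp.nat_prime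
  have e2 : 2 = p := (Nat.prime_dvd_prime_iff_eq Nat.prime_two hp').1
    (Nat.prime_two.dvd_of_dvd_pow (hpj.symm ▸ (h.orderOf_mem S ht ht1 ▸
      orderOf_dvd_natCard K (h.sylow_le_centralizer S ht))))
  have er : r = p := (Nat.prime_dvd_prime_iff_eq h.prime hp').1
    (h.prime.dvd_of_dvd_pow (hpj.symm ▸ (hwo ▸ orderOf_dvd_natCard K hwK)))
  exact h.ne_two (er.trans e2.symm)

end Hyp

end CfsgLib.OneComposite
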