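import Cfsg.Agent.S2475
import Cfsg.Agent.S0252
import Cfsg.Agent.S0253
import Cfsg.Agent.S0254
import Cfsg.Agent.Classification.DihedralBSW
import Mathlib.NumberTheory.Fermat

/-!
# The linear groups of degree two with at most one composite element order
-/

set_option autoImplicit false
set_option linter.style.haveILetI false

namespace CfsgLib.OneComposite

/-- At most one composite number is an element order. -/
def AtMostOne (G : Type*) [Group G] : Prop :=
  ∀ x y : G, 1 < orderOf x → ¬ (orderOf x).Prime → 1 < orderOf y → ¬ (orderOf y).Prime →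
    orderOf x = orderOf y

theorem AtMostOne.of_equiv {G H : Type*} [Group G] [Group H] (h : AtMostOne G) (e : G ≃* H) :
    AtMostOne H := fun x y => by
  have hx := e.symm.orderOf_eq x
  have hy := e.symm.orderOf_eq y
  rw [← hx, ← hy]
  exact h _ _

variable {F : Type} [Field F] [Fintype F]

/-- Composite divisors of the orders of the tori and of the characteristic coincide. -/
theorem AtMostOne.eq_of_dvd (h : AtMostOne (Matrix.ProjectiveSpecialLinearGroup (Fin 2) F))
    (h4 : 4 ≤ Fintype.card F) {a b : ℕ}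
    (ha : a ∣ (Fintype.card F - 1) / Nat.gcd 2 (Fintype.card F - 1) ∨
      a ∣ (Fintype.card F + 1) / Nat.gcd 2 (Fintype.card F - 1))
    (hb : b ∣ (Fintype.card F - 1) / Nat.gcd 2 (Fintype.card F - 1) ∨
      b ∣ (Fintype.card F + 1) / Nat.gcd 2 (Fintype.card F - 1))
    (ha1 : 1 < a) (ha' : ¬ a.Prime) (hb1 : 1 < b) (hb' : ¬ b.Prime) : a = b := by
  obtain ⟨p, hp⟩ := CharP.exists F
  obtain ⟨n, hpp, -⟩ := FiniteField.card F p
  haveI := Fact.mk hpp
  haveI := hp
  have hr := Cfsg.Agent.S2475.result (F := F) p h4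
  obtain ⟨x, hx⟩ : a ∈ Set.range (orderOf : Matrix.ProjectiveSpecialLinearGroup (Fin 2) F → ℕ) := by
    rw [hr]; exact Or.inr ha
  obtain ⟨y, hy⟩ : b ∈ Set.range (orderOf : Matrix.ProjectiveSpecialLinearGroup (Fin 2) F → ℕ) := by
    rw [hr]; exact Or.inr hb
  rw [← hx, ← hy]
  exact h x y (hx ▸ ha1) (hx ▸ ha') (hy ▸ hb1) (hy ▸ hb')

/-- The filter in characteristic two. -/
theorem filter_even (h : AtMostOne (Matrix.ProjectiveSpecialLinearGroup (Fin 2) F)) {m : ℕ}
    (hm : 2 ≤ m) (hF : Fintype.card F = 2 ^ m) :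
    Fintype.card F = 4 ∨ Fintype.card F = 8 ∨ Fintype.card F = 16 ∨
      ((2 ^ m - 1).Prime ∧ ∃ x : ℕ, x.Prime ∧ 2 ^ m + 1 = 3 * x) := by
  have h4 : 4 ≤ Fintype.card F := by
    rw [hF]
    calc 4 = 2 ^ 2 := by norm_num
      _ ≤ 2 ^ m := Nat.pow_le_pow_right (by norm_num) hm
  have hg : Nat.gcd 2 (Fintype.card F - 1) = 1 := by
    refine Nat.prime_two.coprime_iff_not_dvd.2 ?_
    have : 2 ∣ 2 ^ m := dvd_pow_self 2 (by omega)
    omega
  have key := fun {a b : ℕ} => h.eq_of_dvd h4 (a := a) (b := b)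
  rw [hg, Nat.div_one, Nat.div_one, hF] at key
  rw [hF] at h4 ⊢
  by_cases hU : (2 ^ m - 1).Prime
  · have hmp : m.Prime := (Nat.prime_of_pow_sub_one_prime (a := 2) (by omega) hU).2
    rcases hmp.eq_two_or_odd' with rfl | hodd
    · exact Or.inl rfl
    obtain ⟨l, hl⟩ := hodd
    rcases Nat.lt_or_ge m 4 with hm4 | hm4
    · obtain rfl : m = 3 := by omega
      exact Or.inr (Or.inl rfl)
    obtain ⟨x, hx⟩ : 3 ∣ 2 ^ m + 1 := by
      have : 2 ^ m % 3 = 2 := by
        rw [hl, pow_succ, pow_mul, Nat.mul_mod, Nat.pow_mod]; norm_num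
      omega
    refine Or.inr (Or.inr (Or.inr ⟨hU, x, ?_, hx⟩))
    have h16 : 16 ≤ 2 ^ m := by
      calc 16 = 2 ^ 4 := by norm_num
        _ ≤ 2 ^ m := Nat.pow_le_pow_right (by norm_num) hm4
    by_contra hxp
    have := key (a := x) (b := 2 ^ m + 1) (Or.inr ⟨3, by rw [hx, mul_comm]⟩) (Or.inr dvd_rfl)
      (by omega) hxp (by omega) (by
        rw [hx]; exact Nat.not_prime_mul (by norm_num) (by omega))
    omega
  · have hV : (2 ^ m + 1).Prime := by
      by_contra hV
      have := key (a := 2 ^ m - 1) (b := 2 ^ m + 1) (Or.inl dvd_rfl) (Or.inr dvd_rfl) (by omega) hU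
        (by omega) hV
      omega
    obtain ⟨k, rfl⟩ := Nat.pow_of_pow_add_prime (a := 2) (by norm_num) (by omega) hV
    rcases Nat.lt_or_ge k 3 with hk | hk
    · interval_cases k <;> simp_all
    exfalso
    have h8 : 8 ∣ 2 ^ k := by
      calc 8 = 2 ^ 3 := by norm_num
        _ ∣ 2 ^ k := pow_dvd_pow 2 hk
    have h255 : 255 ∣ 2 ^ 2 ^ k - 1 := by
      obtain ⟨l, hl⟩ := h8
      rw [hl, pow_mul]
      have h' := Nat.sub_dvd_pow_sub_pow (2 ^ 8) 1 l
      rw [one_pow] at h'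
      exact h'
    have := key (a := 15) (b := 51) (Or.inl (dvd_trans (by norm_num) h255))
      (Or.inl (dvd_trans (by norm_num) h255)) (by norm_num) (by norm_num) (by norm_num) (by norm_num)
    omega

/-- The filter in odd characteristic. -/
theorem filter_odd (h : AtMostOne (Matrix.ProjectiveSpecialLinearGroup (Fin 2) F))
    (hodd : Odd (Fintype.card F)) (h4 : 4 ≤ Fintype.card F) {r : ℕ} (hr : r.Prime) (hr2 : r ≠ 2)
    {x : Matrix.ProjectiveSpecialLinearGroup (Fin 2) F} (hx : orderOf x = 2 * r) :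
    Fintype.card F = 11 ∨ Fintype.card F = 13 ∨ ∃ n a b : ℕ, a.Prime ∧ b.Prime ∧
      3 ^ n - 1 = 2 * a ∧ 3 ^ n + 1 = 4 * b ∧ Fintype.card F = 3 ^ n := by
  obtain ⟨p, hp⟩ := CharP.exists F
  obtain ⟨n, hpp, hn⟩ := FiniteField.card F p
  haveI := Fact.mk hpp
  haveI := hp
  obtain ⟨t, ht⟩ := hodd
  have hg : Nat.gcd 2 (Fintype.card F - 1) = 2 := Nat.gcd_eq_left (by omega)
  have key := fun {a b : ℕ} => h.eq_of_dvd h4 (a := a) (b := b)
  rw [hg, show (Fintype.card F - 1) / 2 = t by omega, show (Fintype.card F + 1) / 2 = t + 1 by omega]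
    at key
  have hx' : 2 * r ∣ p ∨ 2 * r ∣ t ∨ 2 * r ∣ t + 1 := by
    have hmem : orderOf x ∈ Set.range (orderOf : Matrix.ProjectiveSpecialLinearGroup (Fin 2) F → ℕ) :=
      ⟨x, rfl⟩
    rw [Cfsg.Agent.S2475.result (F := F) p h4, hx, hg,
      show (Fintype.card F - 1) / 2 = t by omega, show (Fintype.card F + 1) / 2 = t + 1 by omega]
      at hmem
    exact hmem
  have hr3 : 3 ≤ r := by have := hr.two_le; omega
  have hcomp : ¬ (2 * r).Prime := Nat.not_prime_mul (by norm_num) hr.one_lt.ne'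
  have h3 : Fintype.card F % 3 = 0 → ∃ k : ℕ, Fintype.card F = 3 ^ k := fun h0 => by
    have hd : 3 ∣ p := Nat.prime_three.dvd_of_dvd_pow (n := (n : ℕ)) (hn ▸ Nat.dvd_of_mod_eq_zero h0)
    exact ⟨n, by rw [hn, ← (Nat.prime_dvd_prime_iff_eq Nat.prime_three hpp).1 hd]⟩
  have hodd' : ∀ {e o : ℕ}, (e = t ∧ o = t + 1 ∨ e = t + 1 ∧ o = t) → 2 * r ∣ e →
      e = 2 * r ∧ o.Prime := by
    intro e o heo hd
    have he : 0 < e := by omega
    have hle : 2 * r ≤ e := Nat.le_of_dvd he hd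
    have hde : e ∣ t ∨ e ∣ t + 1 := by rcases heo with ⟨rfl, -⟩ | ⟨rfl, -⟩ <;> simp
    have hdo : o ∣ t ∨ o ∣ t + 1 := by rcases heo with ⟨-, rfl⟩ | ⟨-, rfl⟩ <;> simp
    have hee : ¬ e.Prime := fun hep => by
      rcases hep.eq_one_or_self_of_dvd _ hd with e1 | e1
      · omega
      · exact hcomp (e1 ▸ hep)
    have he2 : 2 * r = e := key (a := 2 * r) (b := e)
      (hde.imp (fun h' => hd.trans h') (fun h' => hd.trans h')) hde (by omega) hcomp (by omega) hee
    refine ⟨he2.symm, ?_⟩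
    by_contra ho
    have := key (a := 2 * r) (b := o) (hde.imp (fun h' => hd.trans h') (fun h' => hd.trans h')) hdo
      (by omega) hcomp (by omega) ho
    omega
  rcases hx' with hd | hd | hd
  · rcases hpp.eq_one_or_self_of_dvd _ hd with e | e
    · omega
    · exact absurd (e ▸ hpp) hcomp
  · -- `q = 4r + 1`
    obtain ⟨he, hs⟩ := hodd' (e := t) (o := t + 1) (Or.inl ⟨rfl, rfl⟩) hd
    by_cases hr3' : r = 3
    · exact Or.inr (Or.inl (by omega))
    have hr3m : r % 3 ≠ 0 := fun e =>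
      hr3' ((Nat.prime_dvd_prime_iff_eq Nat.prime_three hr).1 (Nat.dvd_of_mod_eq_zero e)).symm
    exfalso
    rcases (show r % 3 = 1 ∨ r % 3 = 2 by omega) with e | e
    · have : 3 ∣ t + 1 := by omega
      have := (Nat.prime_dvd_prime_iff_eq Nat.prime_three hs).1 this
      omega
    · obtain ⟨k, hk⟩ := h3 (by omega)
      rcases Nat.even_or_odd k with ⟨l, hl⟩ | ⟨l, hl⟩
      · have : 3 ^ k % 8 = 1 := by rw [hl, ← two_mul, pow_mul, Nat.pow_mod]; norm_num
        have := hr.eq_two_or_odd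
        omega
      · have : 3 ^ k % 4 = 3 := by rw [hl, pow_succ, pow_mul, Nat.mul_mod, Nat.pow_mod]; norm_num
        omega
  · -- `q = 4r - 1`
    obtain ⟨he, hs⟩ := hodd' (e := t + 1) (o := t) (Or.inr ⟨rfl, rfl⟩) hd
    by_cases hr3' : r = 3
    · exact Or.inl (by omega)
    have hr3m : r % 3 ≠ 0 := fun e =>
      hr3' ((Nat.prime_dvd_prime_iff_eq Nat.prime_three hr).1 (Nat.dvd_of_mod_eq_zero e)).symm
    rcases (show r % 3 = 1 ∨ r % 3 = 2 by omega) with e | e
    · obtain ⟨k, hk⟩ := h3 (by omega)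
      exact Or.inr (Or.inr ⟨k, t, r, hs, hr, by omega, by omega, hk⟩)
    · have : 3 ∣ t := by omega
      have := (Nat.prime_dvd_prime_iff_eq Nat.prime_three hs).1 this
      omega

end CfsgLib.OneComposite
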