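import Cfsg.Agent.OneComposite.Basic
import Cfsg.Agent.OneComposite.Norm
import Cfsg.Agent.PLocal.Cores
import Cfsg.Agent.Solvable.Frattini
import Cfsg.Agent.SolvSig.Theorem
import Cfsg.Agent.SEmbed.Cosets

/-!
# Local analysis: coprime action of the normaliser, balance, and centralisers of involutions

For Sylow 2-subgroups of order at least eight every centraliser of an involution of `S` lies in
the normaliser of `S`.
-/

set_option autoImplicit false
set_option linter.unusedSectionVars false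
set_option linter.style.haveILetI false

namespace CfsgLib.OneComposite

open Subgroup
open scoped commutatorElement

universe u

/-- The odd core of a subgroup, as a subgroup of the ambient group. -/
def oddO {G : Type u} [Group G] (X : Subgroup G) : Subgroup G :=
  (Cfsg.pPrimeCore 2 X).map X.subtype

section OddO

variable {G : Type u} [Group G] {X : Subgroup G}

theorem oddO_le : oddO X ≤ X := map_subtype_le _

theorem le_normalizer_oddO : X ≤ normalizer (oddO X : Set G) := by
  intro g hg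
  rw [mem_normalizer_iff]
  have key : ∀ g ∈ X, ∀ a ∈ oddO X, g * a * g⁻¹ ∈ oddO X := by
    rintro g hg _ ⟨a, ha, rfl⟩
    exact ⟨⟨g, hg⟩ * a * ⟨g, hg⟩⁻¹,
      (inferInstance : (Cfsg.pPrimeCore 2 X).Normal).conj_mem a ha ⟨g, hg⟩, rfl⟩
  refine fun a => ⟨key g hg a, fun ha => ?_⟩
  simpa [mul_assoc] using key g⁻¹ (inv_mem hg) _ ha

theorem odd_oddO [Finite G] : ¬ 2 ∣ Nat.card (oddO X) := by
  rw [oddO, card_map_of_injective X.subtype_injective]
  intro hd
  have := (CfsgLib.PLocal.coprime_card_pPrimeCore 2 X).coprime_dvd_left hd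
  norm_num at this

theorem le_oddO [Finite G] {Y : Subgroup G} (hYX : Y ≤ X) (hXY : X ≤ normalizer (Y : Set G))
    (hodd : ¬ 2 ∣ Nat.card Y) : Y ≤ oddO X := by
  haveI : (Y.subgroupOf X).Normal := (normal_subgroupOf_iff_le_normalizer hYX).2 hXY
  have := CfsgLib.PLocal.le_pPrimeCore (p := 2) (N := Y.subgroupOf X) (by
    rw [Nat.card_congr (subgroupOfEquivOfLe hYX).toEquiv]
    exact (Nat.prime_two.coprime_iff_not_dvd.2 hodd).symm)
  have := map_mono (f := X.subtype) this
  rwa [map_subgroupOf_eq_of_le hYX] at this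

end OddO

/-- In a solvable group with trivial odd core and abelian Sylow 2-subgroup, the latter is normal
and self-centralising. -/
theorem sylow_two_normal {Y : Type u} [Group Y] [Finite Y] [Group.IsSolvable Y] (P : Sylow 2 Y)
    (hP : IsMulCommutative (P : Subgroup Y)) (hbot : Cfsg.pPrimeCore 2 Y = ⊥) :
    (P : Subgroup Y).Normal ∧ centralizer ((P : Subgroup Y) : Set Y) ≤ P := by
  haveI : Fact (Nat.Prime 2) := ⟨Nat.prime_two⟩
  set F := Cfsg.fittingSubgroup Y
  have hFP : F ≤ (P : Subgroup Y) := by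
    show Cfsg.fittingSubgroup Y ≤ _
    rw [CfsgLib.Solvable.fittingSubgroup_eq_iSup]
    refine iSup_le fun p => ?_
    by_cases hp : (p : ℕ) = 2
    · rw [hp]; exact CfsgLib.Solvable.pCore_le_sylow P
    · haveI := Fact.mk p.2
      haveI := CfsgLib.Solvable.pCore_normal (G := Y) (p : ℕ)
      refine le_trans (le_trans (CfsgLib.PLocal.le_pPrimeCore (p := 2) ?_) hbot.le) bot_le
      obtain ⟨n, hn⟩ := (CfsgLib.Solvable.isPGroup_pCore (G := Y) (p : ℕ)).exists_card_eq
      rw [hn]
      exact ((Nat.coprime_primes p.2 Nat.prime_two).2 hp).pow_left n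
  have hPc : (P : Subgroup Y) ≤ centralizer (F : Set Y) := fun x hx =>
    mem_centralizer_iff.2 fun a ha => congrArg Subtype.val (mul_comm' (⟨a, hFP ha⟩ : P) ⟨x, hx⟩)
  have hcF := CfsgLib.Solvable.centralizer_fittingSubgroup_le (G := Y)
  have hPF : (P : Subgroup Y) = F := le_antisymm (hPc.trans hcF) hFP
  refine ⟨hPF ▸ CfsgLib.Solvable.fittingSubgroup_normal, fun x hx => hFP (hcF ?_)⟩
  rwa [hPF] at hx

section Frattini

variable {p : ℕ} [Fact p.Prime] {X : Type u} [Group X] [Finite X]

/-- The Frattini quotient of a `p`-group is commutative. -/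
theorem frattini_quotient_comm (hX : IsPGroup p X) (a b : X ⧸ frattini X) : a * b = b * a := by
  induction a using QuotientGroup.induction_on with | H a => ?_
  induction b using QuotientGroup.induction_on with | H b => ?_
  rw [← QuotientGroup.mk_mul, ← QuotientGroup.mk_mul, QuotientGroup.eq]
  refine CfsgLib.Solvable.commutator_le_frattini hX ?_
  have : (a * b)⁻¹ * (b * a) = ⁅b⁻¹, a⁻¹⁆ := by rw [commutatorElement_def]; group
  rw [this]
  exact commutator_mem_commutator (mem_top _) (mem_top _)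

/-- The action of the automorphisms on the Frattini quotient. -/
noncomputable def frattiniAct (X : Type u) [Group X] : MulAut X →* MulAut (X ⧸ frattini X) where
  toFun f := QuotientGroup.congr (frattini X) (frattini X) f
    (characteristic_iff_map_eq.1 (frattini_characteristic (G := X)) f)
  map_one' := MulEquiv.ext fun x => by
    induction x using QuotientGroup.induction_on; rfl
  map_mul' f g := MulEquiv.ext fun x => by
    induction x using QuotientGroup.induction_on; rfl

end Frattini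

namespace Hyp

variable {G : Type u} [Group G] [Finite G] {r : ℕ} (h : Hyp G r) (S : Sylow 2 G)
include h

/-- If an element `n` of odd prime order normalising `S` normalises an `r`-group `X` which `S`
normalises, then the commutators of `n` with `S` centralise `X`. -/
theorem commutator_centralizes {X : Subgroup G} (hX : IsPGroup r X)
    (hSX : (S : Subgroup G) ≤ normalizer (X : Set G)) {n : G} {p : ℕ} (hp : p.Prime) (hp2 : p ≠ 2)
    (hno : orderOf n = p) (hnS : n ∈ normalizer ((S : Subgroup G) : Set G))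
    (hnX : n ∈ normalizer (X : Set G)) :
    ∀ s ∈ (S : Subgroup G), s * n * s⁻¹ * n⁻¹ ∈ centralizer (X : Set G) := by
  classical
  haveI := Fact.mk h.prime
  haveI : Fact (Nat.Prime 2) := ⟨Nat.prime_two⟩
  have hmemS : ∀ a ∈ (S : Subgroup G), n * a * n⁻¹ ∈ (S : Subgroup G) := fun a ha =>
    (mem_normalizer_iff.1 hnS a).1 ha
  -- the commutators with `n` form a subgroup of `S`
  let Q : Subgroup G :=
    { carrier := {a | ∃ s ∈ (S : Subgroup G), a = s * n * s⁻¹ * n⁻¹}
      one_mem' := ⟨1, one_mem _, by simp⟩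
      mul_mem' := by
        rintro _ _ ⟨s, hs, rfl⟩ ⟨t, ht, rfl⟩
        refine ⟨s * t, mul_mem hs ht, ?_⟩
        have hb : t * n * t⁻¹ * n⁻¹ ∈ (S : Subgroup G) := by
          rw [show t * n * t⁻¹ * n⁻¹ = t * (n * t⁻¹ * n⁻¹) by group]
          exact mul_mem ht (hmemS _ (inv_mem ht))
        have ha : s * n * s⁻¹ * n⁻¹ ∈ (S : Subgroup G) := by
          rw [show s * n * s⁻¹ * n⁻¹ = s * (n * s⁻¹ * n⁻¹) by group]
          exact mul_mem hs (hmemS _ (inv_mem hs))
        rw [(h.commute_mem S ha hb).eq, show (s * t) * n * (s * t)⁻¹ * n⁻¹ =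
          (s * (t * n * t⁻¹ * n⁻¹) * s⁻¹) * (s * n * s⁻¹ * n⁻¹) by group,
          (h.commute_mem S hs hb).eq, mul_inv_cancel_right]
      inv_mem' := by
        rintro _ ⟨s, hs, rfl⟩
        refine ⟨s, hs, h.inv_mem_eq S ?_⟩
        rw [show s * n * s⁻¹ * n⁻¹ = s * (n * s⁻¹ * n⁻¹) by group]
        exact mul_mem hs (hmemS _ (inv_mem hs)) }
  have hQS : Q ≤ (S : Subgroup G) := by
    rintro _ ⟨s, hs, rfl⟩
    rw [show s * n * s⁻¹ * n⁻¹ = s * (n * s⁻¹ * n⁻¹) by group]
    exact mul_mem hs (hmemS _ (inv_mem hs))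
  have hQX : Q ≤ normalizer (X : Set G) := hQS.trans hSX
  have hn1 : n ^ p = 1 := by rw [← hno]; exact pow_orderOf_eq_one n
  have hQn : ∀ a ∈ Q, (a * n) ^ p = 1 := by
    rintro _ ⟨s, -, rfl⟩
    rw [inv_mul_cancel_right, conj_pow, hn1, mul_one, mul_inv_cancel]
  have hQnorm : ∀ a ∈ Q, n * a * n⁻¹ ∈ Q := by
    rintro _ ⟨s, hs, rfl⟩
    exact ⟨n * s * n⁻¹, hmemS s hs, by group⟩
  letI : CommGroup (X ⧸ frattini X) :=
    { (inferInstance : Group (X ⧸ frattini X)) with mul_comm := frattini_quotient_comm hX }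
  let act : normalizer (X : Set G) →* MulAut (X ⧸ frattini X) :=
    (frattiniAct X).comp (Subgroup.normalizerMonoidHom X)
  have hact : ∀ (m : normalizer (X : Set G)) (x : X), act m (x : X ⧸ frattini X) =
      ((⟨(m : G) * x * (m : G)⁻¹, (mem_normalizer_iff.1 m.2 x).1 x.2⟩ : X) : X ⧸ frattini X) :=
    fun m x => rfl
  let Q' : Subgroup (normalizer (X : Set G)) := Q.subgroupOf _
  have hcardQ : Nat.card Q' = Nat.card Q := Nat.card_congr (subgroupOfEquivOfLe hQX).toEquiv
  have hfix := norm_fixed act Q' (n := ⟨n, hnX⟩) hp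
    (fun a ha => mem_subgroupOf.2 (hQnorm _ (mem_subgroupOf.1 ha)))
    (fun a ha => Subtype.ext (by simpa using hQn _ (mem_subgroupOf.1 ha)))
    (fun a ha v => ?_) (fun v hv => ?_)
  · -- now lift from the Frattini quotient
    have hcopQ : (Nat.card Q).Coprime (Nat.card (frattini X)) := by
      obtain ⟨i, hi⟩ := (S.2.to_le hQS).exists_card_eq
      obtain ⟨j, hj⟩ := (hX.to_subgroup (frattini X)).exists_card_eq
      rw [hi, hj]
      exact h.coprime_two.pow i j
    have hQC : Q ≤ centralizer (X : Set G) := by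
      refine CfsgLib.Coprime.le_centralizer_of_commutator_le_frattini hQX hcopQ ?_
      rw [Subgroup.commutator_le]
      intro x hx q hq
      have h1 := hfix ⟨q, hQX hq⟩ (mem_subgroupOf.2 hq) ((⟨x, hx⟩ : X) : X ⧸ frattini X)
      rw [hact, QuotientGroup.eq] at h1
      refine ⟨_, (inferInstance : (frattini X).Normal).conj_mem _ h1 ⟨x, hx⟩, ?_⟩
      simp only [coe_subtype, coe_mul, coe_inv, commutatorElement_def]
      group
    exact fun s hs => hQC ⟨s, hs, rfl⟩
  · -- the norm of an element of the coset is trivial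
    obtain ⟨x, rfl⟩ := QuotientGroup.mk_surjective v
    set m : normalizer (X : Set G) := a * ⟨n, hnX⟩ with hm
    have hmp : (m : G) ^ p = 1 := by simpa [hm] using hQn _ (mem_subgroupOf.1 ha)
    have hprod : ∀ k : ℕ, ∃ y : X, (y : G) = ((x : G) * m) ^ k * ((m : G) ^ k)⁻¹ ∧
        ∏ i ∈ Finset.range k, act (m ^ i) (x : X ⧸ frattini X) = y := by
      intro k
      induction k with
      | zero => exact ⟨1, by simp, by simp⟩
      | succ k ih =>
        obtain ⟨y, hy, hy'⟩ := ih
        refine ⟨y * ⟨(m : G) ^ k * x * ((m : G) ^ k)⁻¹,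
          (mem_normalizer_iff.1 (pow_mem m.2 k) x).1 x.2⟩, ?_, ?_⟩
        · rw [coe_mul, hy, pow_succ, pow_succ]
          show ((x : G) * m) ^ k * ((m : G) ^ k)⁻¹ * ((m : G) ^ k * x * ((m : G) ^ k)⁻¹) = _
          group
        · rw [Finset.prod_range_succ, hy', hact, QuotientGroup.mk_mul]
          simp [SubmonoidClass.coe_pow]
    obtain ⟨y, hy, hy'⟩ := hprod p
    rw [hy']
    rw [hmp, inv_one, mul_one] at hy
    have hne1 : (m : G) ≠ 1 := by
      intro e
      have hnS' : n ∈ (S : Subgroup G) := by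
        have e' : (a : G) * n = 1 := e
        rw [eq_inv_of_mul_eq_one_right e']
        exact inv_mem (hQS (mem_subgroupOf.1 ha))
      refine hp2 ?_
      rw [← hno]
      exact h.orderOf_mem S hnS' fun e1 => hp.one_lt.ne' (by rw [← hno, e1, orderOf_one])
    have hmo : orderOf (m : G) = p :=
      haveI := Fact.mk hp
      orderOf_eq_prime hmp hne1
    by_cases hpr : p = r
    · subst hpr
      have hmz : IsPGroup p (zpowers (m : G)) :=
        IsPGroup.of_card (n := 1) (by rw [Nat.card_zpowers, hmo, pow_one])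
      have hXm : IsPGroup p (X ⊔ zpowers (m : G) : Subgroup G) :=
        hX.to_sup_of_normal_left' hmz (zpowers_le.2 m.2)
      have hy1 : y = 1 := Subtype.ext (by
        rw [hy, OneMemClass.coe_one]
        exact h.pow_r_of_mem_r_group hXm
          (mul_mem (mem_sup_left x.2) (mem_sup_right (mem_zpowers _))))
      rw [hy1, QuotientGroup.mk_one]
    · -- the norm is fixed by `m`; lift it to an element commuting with `m`
      by_contra hy1
      have hfixm : act m (y : X ⧸ frattini X) = y := by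
        rw [← hy']
        have := apply_norm (act m) hp.pos (by
          rw [← map_pow, show m ^ p = 1 from Subtype.ext (by simpa using hmp), map_one])
          (x : X ⧸ frattini X)
        simpa [map_pow] using this
      set Φ := (frattini X).map X.subtype
      have hΦX : Φ ≤ X := map_subtype_le _
      have hΦn : zpowers (m : G) ≤ normalizer (Φ : Set G) := by
        refine zpowers_le.2 ?_
        have key : ∀ g ∈ normalizer (X : Set G), ∀ z ∈ Φ, g * z * g⁻¹ ∈ Φ := by
          rintro g hg _ ⟨z, hz, rfl⟩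
          refine ⟨Subgroup.normalizerMonoidHom X ⟨g, hg⟩ z, ?_, rfl⟩
          have := characteristic_iff_map_eq.1 (frattini_characteristic (G := X))
            (Subgroup.normalizerMonoidHom X ⟨g, hg⟩)
          rw [← this]
          exact mem_map_of_mem _ hz
        rw [mem_normalizer_iff]
        refine fun z => ⟨key _ m.2 z, fun hz => ?_⟩
        simpa [mul_assoc] using key _ (inv_mem m.2) _ hz
      have hstep : ∀ g ∈ zpowers (m : G), (y : G)⁻¹ * (g * y * g⁻¹) ∈ Φ := by
        intro g hg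
        obtain ⟨i, rfl⟩ := mem_zpowers_iff.1 hg
        have hfi : act (m ^ i) (y : X ⧸ frattini X) = y := by
          rw [map_zpow]
          exact MulAction.mem_stabilizer_iff.1 (zpow_mem
            (MulAction.mem_stabilizer_iff.2 hfixm : act m ∈ MulAction.stabilizer _ _) i)
        rw [hact, eq_comm, QuotientGroup.eq] at hfi
        exact ⟨_, hfi, by simp [SubgroupClass.coe_zpow]⟩
      obtain ⟨c, hc, hcΦ⟩ := CfsgLib.Coprime.exists_fixed_mem_coset hΦn
        (by
          rw [Nat.card_zpowers, hmo]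
          obtain ⟨j, hj⟩ := (hX.to_le hΦX).exists_card_eq
          rw [hj]
          exact ((Nat.coprime_primes hp h.prime).2 hpr).pow_right j)
        (Or.inl inferInstance) hstep
      have hcX : c ∈ X := by simpa using mul_mem y.2 (hΦX hcΦ)
      rcases eq_or_ne c 1 with rfl | hc1
      · rw [mul_one] at hcΦ
        obtain ⟨z, hz, hz'⟩ := hcΦ
        have hzy : z = y⁻¹ := Subtype.ext (by simpa using hz')
        exact hy1 ((QuotientGroup.eq_one_iff y).2 (by simpa [hzy] using hz))
      · obtain ⟨k, hk⟩ := hX ⟨c, hcX⟩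
        have hco := h.orderOf_eq_r_of_r_pow (k := k) (congrArg Subtype.val hk) hc1
        have hcm : Commute c (m : G) := mem_centralizer_iff.1 hc _ (mem_zpowers _) |>.symm
        have := h.sq_of_commute_r hco hcm (by
          rw [hmo]; exact fun hd => hpr ((Nat.prime_dvd_prime_iff_eq h.prime hp).1 hd).symm)
        rw [← orderOf_dvd_iff_pow_eq_one, hmo] at this
        exact hp2 ((Nat.prime_dvd_prime_iff_eq hp Nat.prime_two).1 this)
  · obtain ⟨x, rfl⟩ := QuotientGroup.mk_surjective v
    rw [hcardQ] at hv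
    obtain ⟨i, hi⟩ := (S.2.to_le hQS).exists_card_eq
    refine orderOf_eq_one_iff.1 (Nat.eq_one_of_dvd_coprimes (h.coprime_two.pow_left i)
      (hi ▸ orderOf_dvd_of_pow_eq_one hv) ?_)
    have hxr : x ^ r = 1 := Subtype.ext (by simpa using h.pow_r_of_mem_r_group hX x.2)
    exact orderOf_dvd_of_pow_eq_one (by rw [← QuotientGroup.mk_pow, hxr, QuotientGroup.mk_one])

/-- An element of odd prime order in the normaliser acting nontrivially on `S`. -/
theorem exists_prime_not_commute : ∃ (n : G) (p : ℕ), p.Prime ∧ p ≠ 2 ∧ orderOf n = p ∧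
    n ∈ normalizer ((S : Subgroup G) : Set G) ∧ ∃ s ∈ (S : Subgroup G), n * s ≠ s * n := by
  classical
  obtain ⟨g₀, hg₀, hbad⟩ := h.exists_not_commute S
  have hex : ∃ k, ∃ g ∈ normalizer ((S : Subgroup G) : Set G),
      orderOf g = k ∧ ∃ s ∈ (S : Subgroup G), g * s ≠ s * g := ⟨_, g₀, hg₀, rfl, hbad⟩
  obtain ⟨g, hg, hgo, s, hs, hne⟩ := Nat.find_spec hex
  have hsmall : ∀ x ∈ normalizer ((S : Subgroup G) : Set G), orderOf x < orderOf g →
      ∀ t ∈ (S : Subgroup G), Commute x t := by
    intro x hx hlt t ht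
    by_contra hne'
    exact Nat.find_min hex (hgo ▸ hlt) ⟨x, hx, rfl, t, ht, hne'⟩
  have hg1 : g ≠ 1 := fun e => hne (by simp [e])
  have hpow : ∀ d, d.Prime → d ∣ orderOf g → Commute (g ^ d) s := fun d hd hdg =>
    hsmall _ (pow_mem hg d) (by
      rw [orderOf_pow' g hd.ne_zero, Nat.gcd_eq_right hdg]
      exact Nat.div_lt_self (orderOf_pos g) hd.one_lt) s hs
  obtain ⟨p, hp, hpg⟩ := Nat.exists_prime_and_dvd (fun e => hg1 (orderOf_eq_one_iff.1 e))
  have huniq : ∀ {d : ℕ}, d.Prime → d ∣ orderOf g → d = p := by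
    intro d hd hdg
    by_contra hdp
    refine hne (show Commute g s from ?_).eq
    have hb := Nat.gcd_eq_gcd_ab d p
    rw [((Nat.coprime_primes hd hp).2 hdp).gcd_eq_one] at hb
    have e : g = (g ^ d) ^ (Nat.gcdA d p) * (g ^ p) ^ (Nat.gcdB d p) := by
      rw [← zpow_natCast, ← zpow_mul, ← zpow_natCast g p, ← zpow_mul, ← zpow_add, ← hb,
        Nat.cast_one, zpow_one]
    rw [e]
    exact ((hpow d hd hdg).zpow_left _).mul_left ((hpow p hp hpg).zpow_left _)
  have hk := Nat.eq_prime_pow_of_unique_prime_dvd (orderOf_pos g).ne' huniq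
  set k := (orderOf g).primeFactorsList.length
  have hgp : g ^ p = 1 := by
    rcases eq_or_ne p 2 with rfl | hp2
    · exact h.sq_of_two_pow (k := k) (by rw [← hk, pow_orderOf_eq_one])
    rcases eq_or_ne p r with rfl | hpr
    · exact h.pow_r_of_r_pow (k := k) (by rw [← hk, pow_orderOf_eq_one])
    obtain ⟨t, ht, ht1⟩ := h.exists_invol S
    have hodd : Odd (orderOf (g ^ p)) :=
      (hk ▸ (hp.odd_of_ne_two hp2).pow : Odd (orderOf g)).of_dvd_nat (orderOf_pow_dvd p)
    by_contra hne1
    have hlt : orderOf (g ^ p) < orderOf g := by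
      rw [orderOf_pow' g hp.ne_zero, Nat.gcd_eq_right hpg]
      exact Nat.div_lt_self (orderOf_pos g) hp.one_lt
    have h1 := h.pow_r_of_commute_invol (h.orderOf_mem S ht ht1)
      (hsmall _ (pow_mem hg p) hlt t ht).symm hodd
    refine hne1 (orderOf_eq_one_iff.1 (Nat.eq_one_of_dvd_coprimes
      (((Nat.coprime_primes hp h.prime).2 hpr).pow_left k) ?_ (orderOf_dvd_of_pow_eq_one h1)))
    rw [← hk]; exact orderOf_pow_dvd p
  have hgp' : orderOf g = p :=
    haveI := Fact.mk hp
    orderOf_eq_prime hgp hg1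
  refine ⟨g, p, hp, ?_, hgp', hg, s, hs, hne⟩
  rintro rfl
  exact hne (h.commute_mem S (h.mem_of_sq S hg hgp) hs).eq

/-- An odd subgroup normalised by `S` inside a solvable group containing `S` lies in its odd
core. -/
theorem le_oddO_of_normalized {X Y : Subgroup G} (hXs : Group.IsSolvable X)
    (hSX : (S : Subgroup G) ≤ X) (hYX : Y ≤ X)
    (hSY : (S : Subgroup G) ≤ normalizer (Y : Set G)) (hodd : ¬ 2 ∣ Nat.card Y) : Y ≤ oddO X := by
  haveI : Fact (Nat.Prime 2) := ⟨Nat.prime_two⟩
  let π := QuotientGroup.mk' (Cfsg.pPrimeCore 2 X)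
  let P : Sylow 2 (X ⧸ Cfsg.pPrimeCore 2 X) :=
    (S.subtype hSX).mapSurjective (QuotientGroup.mk'_surjective _)
  haveI : Group.IsSolvable (X ⧸ Cfsg.pPrimeCore 2 X) :=
    Group.isSolvable_of_surjective (f := π) (QuotientGroup.mk'_surjective _)
  have hP : (P : Subgroup (X ⧸ Cfsg.pPrimeCore 2 X)) = ((S : Subgroup G).subgroupOf X).map π := by
    rw [Sylow.coe_mapSurjective, Sylow.coe_subtype]
  have hPc : IsMulCommutative (P : Subgroup (X ⧸ Cfsg.pPrimeCore 2 X)) := ⟨⟨fun a b => by
    obtain ⟨a, ha⟩ := a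
    obtain ⟨b, hb⟩ := b
    rw [hP] at ha hb
    obtain ⟨a', ha', rfl⟩ := ha
    obtain ⟨b', hb', rfl⟩ := hb
    refine Subtype.ext ?_
    show π a' * π b' = π b' * π a'
    rw [← map_mul, ← map_mul]
    exact congrArg π (Subtype.ext (h.commute_mem S ha' hb').eq)⟩⟩
  obtain ⟨hn, hc⟩ := sylow_two_normal P hPc (CfsgLib.PLocal.pPrimeCore_quotient_pPrimeCore_eq_bot 2 X)
  intro y hy
  have hπy : π ⟨y, hYX hy⟩ = 1 := by
    set Y' := (Y.subgroupOf X).map π
    have hY'odd : (Nat.card (P : Subgroup (X ⧸ Cfsg.pPrimeCore 2 X))).Coprime (Nat.card Y') := by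
      refine Nat.Coprime.coprime_dvd_right ?_
        ((h.coprime_card S hodd).coprime_dvd_left ?_)
      · exact (card_map_dvd _ π).trans (Nat.card_congr (subgroupOfEquivOfLe hYX).toEquiv).dvd
      · rw [hP]
        exact (card_map_dvd _ π).trans (Nat.card_congr (subgroupOfEquivOfLe hSX).toEquiv).dvd
    have hdisj := CfsgLib.Coprime.inf_eq_bot_of_coprime hY'odd
    have hmemC : π ⟨y, hYX hy⟩ ∈ centralizer ((P : Subgroup (X ⧸ Cfsg.pPrimeCore 2 X)) : Set _) := by
      rw [mem_centralizer_iff]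
      intro a ha
      have ha' := ha
      rw [SetLike.mem_coe, hP] at ha'
      obtain ⟨s, hs, rfl⟩ := ha'
      have hm : π ⟨y, hYX hy⟩ * π s * (π ⟨y, hYX hy⟩)⁻¹ * (π s)⁻¹ ∈
          (P : Subgroup (X ⧸ Cfsg.pPrimeCore 2 X)) ⊓ Y' := by
        refine Subgroup.mem_inf.2 ⟨mul_mem (hn.conj_mem _ ha _) (inv_mem ha), ?_⟩
        refine ⟨⟨y, hYX hy⟩ * (s * ⟨y, hYX hy⟩⁻¹ * s⁻¹), ?_, by simp [mul_assoc]⟩
        show y * ((s : G) * y⁻¹ * (s : G)⁻¹) ∈ Y
        exact mul_mem hy ((mem_normalizer_iff.1 (hSY hs) _).1 (inv_mem hy))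
      rw [hdisj, Subgroup.mem_bot, mul_inv_eq_one] at hm
      exact (mul_inv_eq_iff_eq_mul.1 hm).symm
    have := mem_inf.2 ⟨hc hmemC, (mem_map_of_mem π (show (⟨y, hYX hy⟩ : X) ∈ Y.subgroupOf X from hy) :
      π ⟨y, hYX hy⟩ ∈ Y')⟩
    rwa [hdisj, Subgroup.mem_bot] at this
  exact ⟨⟨y, hYX hy⟩, (QuotientGroup.eq_one_iff _).1 hπy, rfl⟩

/-- In a solvable group containing `S`, every element is one of the odd core times one normalising
`S`. -/
theorem exists_decomp {X : Subgroup G} (hXs : Group.IsSolvable X) (hSX : (S : Subgroup G) ≤ X)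
    {g : G} (hg : g ∈ X) : ∃ o ∈ oddO X, o⁻¹ * g ∈ normalizer ((S : Subgroup G) : Set G) := by
  haveI : Fact (Nat.Prime 2) := ⟨Nat.prime_two⟩
  let π := QuotientGroup.mk' (Cfsg.pPrimeCore 2 X)
  let P : Sylow 2 (X ⧸ Cfsg.pPrimeCore 2 X) :=
    (S.subtype hSX).mapSurjective (QuotientGroup.mk'_surjective _)
  haveI : Group.IsSolvable (X ⧸ Cfsg.pPrimeCore 2 X) :=
    Group.isSolvable_of_surjective (f := π) (QuotientGroup.mk'_surjective _)
  have hP : (P : Subgroup (X ⧸ Cfsg.pPrimeCore 2 X)) = ((S : Subgroup G).subgroupOf X).map π := by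
    rw [Sylow.coe_mapSurjective, Sylow.coe_subtype]
  have hPc : IsMulCommutative (P : Subgroup (X ⧸ Cfsg.pPrimeCore 2 X)) := ⟨⟨fun a b => by
    obtain ⟨a, ha⟩ := a
    obtain ⟨b, hb⟩ := b
    rw [hP] at ha hb
    obtain ⟨a', ha', rfl⟩ := ha
    obtain ⟨b', hb', rfl⟩ := hb
    refine Subtype.ext ?_
    show π a' * π b' = π b' * π a'
    rw [← map_mul, ← map_mul]
    exact congrArg π (Subtype.ext (h.commute_mem S ha' hb').eq)⟩⟩
  obtain ⟨hn, -⟩ := sylow_two_normal P hPc (CfsgLib.PLocal.pPrimeCore_quotient_pPrimeCore_eq_bot 2 X)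
  set S' := (S : Subgroup G).map (MulAut.conj g).toMonoidHom
  have hS'X : S' ≤ X := by
    rintro _ ⟨s, hs, rfl⟩
    exact mul_mem (mul_mem hg (hSX hs)) (inv_mem hg)
  have hsub : S' ≤ oddO X ⊔ (S : Subgroup G) := by
    rintro _ ⟨s, hs, rfl⟩
    have h1 := hn.conj_mem (π ⟨s, hSX hs⟩) (by rw [hP]; exact mem_map_of_mem π hs) (π ⟨g, hg⟩)
    rw [hP] at h1
    obtain ⟨s', hs', he⟩ := h1
    have h2 : (⟨g, hg⟩ * ⟨s, hSX hs⟩ * ⟨g, hg⟩⁻¹ * s'⁻¹ : X) ∈ Cfsg.pPrimeCore 2 X := by
      refine (QuotientGroup.eq_one_iff _).1 ?_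
      show π _ = 1
      rw [map_mul, map_mul, map_mul, map_inv, map_inv, he, mul_inv_eq_one]
    have h3 : g * s * g⁻¹ * (s' : G)⁻¹ ∈ oddO X := ⟨_, h2, rfl⟩
    have := mul_mem (mem_sup_left (T := (S : Subgroup G)) h3) (mem_sup_right hs')
    simpa [mul_assoc] using this
  have hle : oddO X ⊔ S' = oddO X ⊔ (S : Subgroup G) := by
    refine eq_of_le_of_card_ge (sup_le le_sup_left hsub) ?_
    have hS'card : Nat.card S' = Nat.card (S : Subgroup G) :=
      card_map_of_injective (MulAut.conj g).injective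
    rw [CfsgLib.Coprime.card_sup_eq (hSX.trans le_normalizer_oddO) (h.inf_eq_bot S odd_oddO),
      CfsgLib.Coprime.card_sup_eq (hS'X.trans le_normalizer_oddO)
        (CfsgLib.Coprime.inf_eq_bot_of_coprime (hS'card ▸ (h.coprime_card S odd_oddO).symm)),
      hS'card]
  obtain ⟨o, ho, hconj⟩ := CfsgLib.Coprime.exists_conj_eq_of_sup_eq
    (N := oddO X) (H := (S : Subgroup G)) (K := S') (hSX.trans le_normalizer_oddO)
    (hS'X.trans le_normalizer_oddO) (h.coprime_card S odd_oddO).symm
    (card_map_of_injective (MulAut.conj g).injective) hle.symm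
    (Or.inr (CfsgLib.Transitivity.isSolvable_of_elab (h.elab_sylow S)))
  refine ⟨o, ho, mem_normalizer_iff.2 fun a => ?_⟩
  have e1 : ∀ b, b ∈ S' ↔ g⁻¹ * b * g ∈ (S : Subgroup G) := fun b =>
    CfsgLib.Transfer.mem_map_conj_iff
  have e2 : ∀ b, b ∈ S' ↔ o⁻¹ * b * o ∈ (S : Subgroup G) := fun b => by
    rw [← hconj, Subgroup.mem_pointwise_smul_iff_inv_smul_mem]
    simp [MulAut.smul_def]
  have := (e1 (g * a * g⁻¹)).symm.trans (e2 (g * a * g⁻¹))
  simpa [mul_assoc] using this

/-- If `S` centralises the odd core, the solvable group normalises `S`. -/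
theorem le_normalizer_of_centralizes {X : Subgroup G} (hXs : Group.IsSolvable X)
    (hSX : (S : Subgroup G) ≤ X) (hc : oddO X ≤ centralizer ((S : Subgroup G) : Set G)) :
    X ≤ normalizer ((S : Subgroup G) : Set G) := by
  intro g hg
  obtain ⟨o, ho, hn⟩ := h.exists_decomp S hXs hSX hg
  simpa using mul_mem ((centralizer_le_normalizer _) (hc ho)) hn

theorem le_centralizer_invol {t : G} (ht : t ∈ (S : Subgroup G)) :
    (S : Subgroup G) ≤ centralizer ({t} : Set G) := fun _ hs =>
  mem_centralizer_singleton_iff.2 (h.commute_mem S hs ht).eq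

/-- For rank at least three, the centralisers of the involutions of `S` normalise `S`. -/
theorem localsIn_of_eight_le (h8 : 8 ≤ Nat.card (S : Subgroup G)) :
    ∀ t ∈ (S : Subgroup G), t ≠ 1 →
      centralizer ({t} : Set G) ≤ normalizer ((S : Subgroup G) : Set G) := by
  classical
  haveI := h.isSimple
  haveI : Fact (Nat.Prime 2) := ⟨Nat.prime_two⟩
  set θ : G → Subgroup G := fun a => oddO (centralizer ({a} : Set G)) with hθdef
  have hSC : ∀ a ∈ (S : Subgroup G), (S : Subgroup G) ≤ normalizer (θ a : Set G) :=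
    fun a ha => (h.le_centralizer_invol S ha).trans le_normalizer_oddO
  have hθ : Cfsg.IsSolvableSignalizerFunctor 2 (S : Subgroup G) θ := by
    refine ⟨⟨fun a _ _ => oddO_le, fun a _ _ => odd_oddO, fun a ha _ b hb x hx =>
      (mem_normalizer_iff.1 (hSC a ha hb) x).1 hx, ?_⟩, fun a ha ha1 => ?_⟩
    · intro a ha ha1 b hb hb1
      refine h.le_oddO_of_normalized S (h.isSolvable_centralizer_invol (h.orderOf_mem S hb hb1))
        (h.le_centralizer_invol S hb) inf_le_right ?_ ?_
      · exact (le_inf (hSC a ha) ((h.le_centralizer_invol S hb).trans le_normalizer)).trans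
          inf_normalizer_le_normalizer_inf
      · exact fun hd => odd_oddO (hd.trans (card_dvd_of_le inf_le_left))
    · exact h.isSolvable_of_pow fun x hx =>
        h.pow_centralizer_invol (h.orderOf_mem S ha ha1) x (oddO_le hx)
  set Y := Cfsg.signalizerClosure (S : Subgroup G) θ with hY
  have hodd : ¬ 2 ∣ Nat.card Y :=
    (CfsgLib.SolvSig.isSolvable_signalizerClosure (h.elab_sylow S) (by simpa using h8) hθ).2
  have hle : ∀ a ∈ (S : Subgroup G), a ≠ 1 → θ a ≤ Y := fun a ha ha1 =>
    le_iSup (fun x : {a : G // a ∈ (S : Subgroup G) ∧ a ≠ 1} => θ x) ⟨a, ha, ha1⟩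
  -- `θ` is equivariant under the normaliser
  have hequiv : ∀ (g a : G),
      (θ a).map (MulAut.conj g).toMonoidHom ≤ θ (g * a * g⁻¹) := by
    intro g a
    have hconj : ∀ x, x ∈ centralizer ({a} : Set G) →
        g * x * g⁻¹ ∈ centralizer ({g * a * g⁻¹} : Set G) := fun x hx => by
      rw [mem_centralizer_singleton_iff] at hx ⊢
      calc g * x * g⁻¹ * (g * a * g⁻¹) = g * (x * a) * g⁻¹ := by group
        _ = g * (a * x) * g⁻¹ := by rw [hx]
        _ = _ := by group
    have hconj' : ∀ x, x ∈ centralizer ({g * a * g⁻¹} : Set G) →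
        g⁻¹ * x * g ∈ centralizer ({a} : Set G) := fun x hx => by
      rw [mem_centralizer_singleton_iff] at hx ⊢
      calc g⁻¹ * x * g * a = g⁻¹ * (x * (g * a * g⁻¹)) * g := by group
        _ = g⁻¹ * ((g * a * g⁻¹) * x) * g := by rw [hx]
        _ = _ := by group
    refine le_oddO ?_ ?_ ?_
    · rintro _ ⟨x, hx, rfl⟩
      exact hconj x (oddO_le hx)
    · intro x hx
      refine CfsgLib.Transfer.mem_normalizer_of_map_conj_eq ?_
      rw [CfsgLib.Transfer.map_conj_map_conj, show x * g = g * (g⁻¹ * x * g) by group,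
        ← CfsgLib.Transfer.map_conj_map_conj, CfsgLib.Transfer.map_conj_eq_of_mem_normalizer
        (g := g⁻¹ * x * g) (le_normalizer_oddO (hconj' x hx))]
    · rw [card_map_of_injective (MulAut.conj g).injective]
      exact odd_oddO
  have hNY : normalizer ((S : Subgroup G) : Set G) ≤ normalizer (Y : Set G) := by
    intro g hg
    refine CfsgLib.Transfer.mem_normalizer_of_map_conj_eq
      (eq_of_le_of_card_ge ?_ (card_map_of_injective (MulAut.conj g).injective).ge)
    rw [hY, Cfsg.signalizerClosure, Subgroup.map_iSup]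
    refine iSup_le fun a => (hequiv g a).trans (hle _ ((mem_normalizer_iff.1 hg a).1 a.2.1) ?_)
    intro e
    exact a.2.2 (conj_eq_one_iff.1 e)
  have hSY : (S : Subgroup G) ≤ normalizer (Y : Set G) := le_normalizer.trans hNY
  have hYr : IsPGroup r Y := h.isPGroup_of_normalized S hSY hodd
  -- `S` centralises `Y`
  have hSC' : Y ≤ centralizer ((S : Subgroup G) : Set G) := by
    rcases eq_or_ne Y ⊥ with hbot | hY1
    · rw [hbot]; exact bot_le
    set X := normalizer (Y : Set G) with hX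
    have hYtop : X ≠ ⊤ := by
      intro ht
      haveI : Y.Normal := normalizer_eq_top_iff.1 ht
      rcases (inferInstance : Y.Normal).eq_bot_or_eq_top with e | e
      · exact hY1 e
      · refine hodd ?_
        rw [e, Subgroup.card_top]
        exact h.two_dvd_card
    have hloc : ∀ a ∈ (S : Subgroup G), a ≠ 1 → centralizer ({a} : Set G) ≤ X := by
      intro a ha ha1 x hx
      obtain ⟨o, ho, hn⟩ := h.exists_decomp S
        (h.isSolvable_centralizer_invol (h.orderOf_mem S ha ha1)) (h.le_centralizer_invol S ha) hx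
      simpa using mul_mem (le_normalizer (hle a ha ha1 ho)) (hNY hn)
    have hSX : (S : Subgroup G) ≤ X := hSY
    have hXconj : ∀ t ∈ X, orderOf t = 2 → ∃ x ∈ X, x * t * x⁻¹ ∈ (S : Subgroup G) := by
      intro t ht hto
      obtain ⟨P, hP⟩ := (show IsPGroup 2 ((zpowers t).subgroupOf X) from
        IsPGroup.of_card (n := 1) (by
          rw [Nat.card_congr (subgroupOfEquivOfLe (zpowers_le.2 ht)).toEquiv, Nat.card_zpowers, hto,
            pow_one])).exists_le_sylow
      obtain ⟨x, hx⟩ := MulAction.exists_smul_eq X P (S.subtype hSX)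
      refine ⟨x, x.2, ?_⟩
      have hmem : x * ⟨t, ht⟩ * x⁻¹ ∈ ((x • P : Sylow 2 X) : Subgroup X) := by
        rw [Sylow.coe_subgroup_smul]
        exact ⟨⟨t, ht⟩, hP (mem_subgroupOf.2 (mem_zpowers t)), rfl⟩
      rw [hx, Sylow.coe_subtype] at hmem
      exact mem_subgroupOf.1 hmem
    have heven : Even (Nat.card X) := even_iff_two_dvd.2 (by
      obtain ⟨t, ht, ht1⟩ := h.exists_invol S
      rw [← h.orderOf_mem S ht ht1]
      exact orderOf_dvd_natCard X (hSX ht))
    have hse : Cfsg.IsStronglyEmbedded X := by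
      refine (CfsgLib.Small.isStronglyEmbedded_iff_centralizer hYtop heven).2
        ⟨fun t ht hto => ?_, fun t ht s hs hto hso hconj => ?_⟩
      · obtain ⟨x, hx, hxS⟩ := hXconj t ht hto
        intro y hy
        rw [mem_centralizer_singleton_iff] at hy
        have hxy : x * y * x⁻¹ ∈ centralizer ({x * t * x⁻¹} : Set G) := by
          rw [mem_centralizer_singleton_iff]
          calc x * y * x⁻¹ * (x * t * x⁻¹) = x * (y * t) * x⁻¹ := by group
            _ = x * (t * y) * x⁻¹ := by rw [hy]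
            _ = _ := by group
        have hne : x * t * x⁻¹ ≠ 1 := fun e => by
          rw [conj_eq_one_iff.1 e, orderOf_one] at hto; omega
        have := hloc _ hxS hne hxy
        simpa [mul_assoc] using mul_mem (mul_mem (inv_mem hx) this) hx
      · obtain ⟨x, hx, hxS⟩ := hXconj t ht hto
        obtain ⟨y, hy, hyS⟩ := hXconj s hs hso
        obtain ⟨g, rfl⟩ := isConj_iff.1 hconj
        obtain ⟨n, hn, hne⟩ := h.exists_normalizer_conj S hxS (g := y * g * x⁻¹)
          (by simpa [mul_assoc] using hyS)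
        refine ⟨y⁻¹ * n * x, mul_mem (mul_mem (inv_mem hy) (hNY hn)) hx, ?_⟩
        calc y⁻¹ * n * x * t * (y⁻¹ * n * x)⁻¹ = y⁻¹ * (n * (x * t * x⁻¹) * n⁻¹) * y := by group
          _ = g * t * g⁻¹ := by rw [hne]; group
    haveI := CfsgLib.SEmbed.nontrivial_cosets hse
    have htrans : ∀ a ∈ (S : Subgroup G), a ≠ 1 → ∀ b ∈ (S : Subgroup G), b ≠ 1 →
        ∃ n ∈ normalizer ((S : Subgroup G) : Set G), n * a * n⁻¹ = b := by
      intro a ha ha1 b hb hb1
      obtain ⟨g, hg⟩ := isConj_iff.1 (CfsgLib.SEmbed.isConj_invol (CfsgLib.SEmbed.uniqueFix hse)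
        (h.orderOf_mem S ha ha1) (h.orderOf_mem S hb hb1))
      obtain ⟨n, hn, he⟩ := h.exists_normalizer_conj S ha (g := g) (by rw [hg]; exact hb)
      exact ⟨n, hn, by rw [he, hg]⟩
    obtain ⟨n, p, hp, hp2, hno, hnS, s, hs, hne⟩ := h.exists_prime_not_commute S
    have hcomm := h.commutator_centralizes S hYr hSY hp hp2 hno hnS (hNY hnS) s hs
    set a := s * n * s⁻¹ * n⁻¹ with ha
    have haS : a ∈ (S : Subgroup G) := by
      rw [ha, show s * n * s⁻¹ * n⁻¹ = s * (n * s⁻¹ * n⁻¹) by group]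
      exact mul_mem hs ((mem_normalizer_iff.1 hnS _).1 (inv_mem hs))
    have ha1 : a ≠ 1 := by
      intro e
      rw [ha, mul_inv_eq_one, mul_inv_eq_iff_eq_mul] at e
      exact hne e.symm
    intro y hy
    rw [mem_centralizer_iff]
    intro b hb
    rcases eq_or_ne b 1 with rfl | hb1
    · simp
    obtain ⟨m, hm, hmb⟩ := htrans a haS ha1 b hb hb1
    have hym : m⁻¹ * y * m ∈ Y := by
      simpa using (mem_normalizer_iff.1 (inv_mem (hNY hm)) y).1 hy
    have h1 := mem_centralizer_iff.1 hcomm _ hym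
    rw [← hmb]
    calc m * a * m⁻¹ * y = m * (a * (m⁻¹ * y * m)) * m⁻¹ := by group
      _ = m * ((m⁻¹ * y * m) * a) * m⁻¹ := by rw [h1]
      _ = y * (m * a * m⁻¹) := by group
  intro t ht ht1
  exact h.le_normalizer_of_centralizes S (h.isSolvable_centralizer_invol (h.orderOf_mem S ht ht1))
    (h.le_centralizer_invol S ht) ((hle t ht ht1).trans hSC')

end Hyp

end CfsgLib.OneComposite
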