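import Cfsg.Agent.OneComposite.Basic
import Cfsg.Agent.Transitivity.Transitivity
import Cfsg.Agent.S4216

/-!
# The last configuration: `r = 3` with `|C(c)| = 18`

An element `c` of order three has centraliser of order eighteen and is not conjugate to its
inverse. Grün's theorem excludes this in a simple group.
-/

set_option autoImplicit false
set_option linter.unusedSectionVars false
set_option linter.style.haveILetI false

namespace CfsgLib.OneComposite

open Subgroup
open scoped commutatorElement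

universe u

variable {G : Type u} [Group G] [Finite G]

/-- In a group of exponent three an element commutes with its conjugates. -/
theorem commute_conj_of_pow_three {R : Subgroup G} (h3 : ∀ a ∈ R, a ^ 3 = 1) {c x : G}
    (hc : c ∈ R) (hx : x ∈ R) : Commute c (x * c * x⁻¹) := by
  have hx3 : x * x * x = 1 := by simpa [pow_succ] using h3 x hx
  have e1 : c * x * (c * x) * (c * x) = 1 := by simpa [pow_succ] using h3 _ (mul_mem hc hx)
  have e2 : c * (x * x) * (c * (x * x)) * (c * (x * x)) = 1 := by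
    simpa [pow_succ] using h3 _ (mul_mem hc (mul_mem hx hx))
  have hxi : x⁻¹ = x * x := inv_eq_of_mul_eq_one_right (by rw [← mul_assoc, hx3])
  have f1 : c * x * (c * x) = x⁻¹ * c⁻¹ := by
    rw [← mul_inv_rev]; exact eq_inv_of_mul_eq_one_left e1
  have f2 : c * (x * x) * (c * (x * x)) = (x * x)⁻¹ * c⁻¹ := by
    rw [← mul_inv_rev]; exact eq_inv_of_mul_eq_one_left e2
  show c * (x * c * x⁻¹) = x * c * x⁻¹ * c
  calc c * (x * c * x⁻¹) = c * x * (c * x) * x := by rw [hxi]; group
    _ = x⁻¹ * c⁻¹ * x := by rw [f1]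
    _ = x * ((x * x)⁻¹ * c⁻¹) * x * (x * x * x)⁻¹ * (x * x * x) := by group
    _ = x * (c * (x * x) * (c * (x * x))) * x := by rw [f2, hx3]; group
    _ = x * c * x⁻¹ * c * (x * x * x) := by rw [hxi]; group
    _ = x * c * x⁻¹ * c := by rw [hx3, mul_one]

theorem false_of_inverting_square {x ρ : G} (hρ : ρ * ρ * x * (ρ * ρ)⁻¹ = x⁻¹) (hx : x⁻¹ ≠ x)
    {n : ℕ} (hn : Odd n) (hρn : (ρ * ρ) ^ n = 1) : False := by
  generalize hσ : ρ * ρ = σ at hρ hρn
  clear hσ
  have key : ∀ k : ℕ, σ ^ k * x * (σ ^ k)⁻¹ = if Even k then x else x⁻¹ := by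
    intro k
    induction k with
    | zero => simp
    | succ k ih =>
      rw [show σ ^ (k + 1) * x * (σ ^ (k + 1))⁻¹ =
        σ * (σ ^ k * x * (σ ^ k)⁻¹) * σ⁻¹ by rw [pow_succ']; group, ih]
      by_cases hk : Even k
      · rw [if_pos hk, if_neg (Nat.not_even_iff_odd.2 hk.add_one), hρ]
      · rw [if_neg hk, if_pos (Nat.not_even_iff_odd.1 hk).add_one]
        rw [show σ * x⁻¹ * σ⁻¹ = (σ * x * σ⁻¹)⁻¹ by group, hρ, inv_inv]
  have := key n
  rw [hρn, if_neg (Nat.not_even_iff_odd.2 hn)] at this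
  exact hx (by simpa using this.symm)

/-- If `|N|` divides `2|R|` and `s ∈ N ∖ R`, every element of `N` is in `R ∪ R s`. -/
theorem mem_or_mul_mem_of_index {R N : Subgroup G} (hRN : R ≤ N)
    (hd : Nat.card N ∣ 2 * Nat.card R) {s : G} (hs : s ∈ N) (hsR : s ∉ R) {n : G} (hn : n ∈ N) :
    n ∈ R ∨ n * s ∈ R := by
  have h1 := Subgroup.card_mul_index (R.subgroupOf N)
  rw [Nat.card_congr (subgroupOfEquivOfLe hRN).toEquiv] at h1
  have hne : (R.subgroupOf N).index ≠ 1 := fun e =>
    hsR ((subgroupOf_eq_top.1 (index_eq_one.1 e)) hs)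
  have hpos : 0 < Nat.card R := Nat.card_pos
  have hi : (R.subgroupOf N).index = 2 := by
    rw [← h1, mul_comm 2] at hd
    exact ((Nat.dvd_prime Nat.prime_two).1 (Nat.dvd_of_mul_dvd_mul_left hpos hd)).resolve_left hne
  have := Subgroup.mul_mem_iff_of_index_two hi (a := ⟨n, hn⟩) (b := ⟨s, hs⟩)
  simp only [mem_subgroupOf, coe_mul] at this
  by_cases hnR : n ∈ R
  · exact Or.inl hnR
  · exact Or.inr (this.2 (by simp [hnR, hsR]))

/-- In the same situation `R` is normalised by `N`. -/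
theorem normalizer_of_index {R N : Subgroup G} (hRN : R ≤ N)
    (hd : Nat.card N ∣ 2 * Nat.card R) {s : G} (hs : s ∈ N) (hsR : s ∉ R) :
    s ∈ normalizer (R : Set G) := by
  have key : ∀ t ∈ N, t ∉ R → ∀ a ∈ R, t * a * t⁻¹ ∈ R := by
    intro t ht htR a ha
    rcases mem_or_mul_mem_of_index hRN hd ht htR (n := t * a * t⁻¹)
      (mul_mem (mul_mem ht (hRN ha)) (inv_mem ht)) with e | e
    · exact e
    · exfalso
      rw [inv_mul_cancel_right] at e
      exact htR (by simpa using mul_mem e (inv_mem ha))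
  refine mem_normalizer_iff.2 fun a => ⟨key s hs hsR a, fun ha => ?_⟩
  have := key s⁻¹ (inv_mem hs) (fun h' => hsR (inv_mem_iff.1 h')) _ ha
  simpa [mul_assoc] using this

namespace Hyp

variable (h : Hyp G 3) {c s : G} (hco : orderOf c = 3) (hso : orderOf s = 2) (hcs : Commute c s)
  (hcard : Nat.card (centralizer ({c} : Set G)) = 18)
  (hN : normalizer (zpowers c : Set G) ≤ centralizer ({c} : Set G))
  (hCs : ∀ R : Subgroup G, IsPGroup 3 R → c ∈ R → ∀ x ∈ R, Commute x s → x ∈ zpowers c)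
include h hco hso hcs hcard hN hCs

theorem pow_three_eq {R : Subgroup G} (hR : IsPGroup 3 R) : ∀ a ∈ R, a ^ 3 = 1 :=
  fun _ ha => h.pow_r_of_mem_r_group hR ha

/-- A subgroup of `C(c)` of order prime to three has order at most two. -/
theorem four_not_dvd_centralizer : ¬ 4 ∣ Nat.card (centralizer ({c} : Set G)) := by
  rw [hcard]; decide

/-- If `s` and the `2`-elements commuting with it normalise the `3`-group `X ∋ c`, the normaliser
of `X` has order twice an odd number. -/
theorem four_not_dvd_normalizer {X : Subgroup G} (hX : IsPGroup 3 X) (hcX : c ∈ X)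
    (hsX : s ∈ normalizer (X : Set G)) : ¬ 4 ∣ Nat.card (normalizer (X : Set G)) := by
  haveI : Fact (Nat.Prime 2) := ⟨Nat.prime_two⟩
  set N := normalizer (X : Set G)
  intro h4
  obtain ⟨P, hP⟩ := (IsPGroup.of_card (p := 2) (n := 1) (G := zpowers (⟨s, hsX⟩ : N))
    (by rw [Nat.card_zpowers, Subgroup.orderOf_mk, hso, pow_one])).exists_le_sylow
  have hsP : (⟨s, hsX⟩ : N) ∈ (P : Subgroup N) := hP (mem_zpowers _)
  -- every element of `P` lies in `C(c)`
  have hPC : (P : Subgroup N).map N.subtype ≤ centralizer ({c} : Set G) := by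
    rintro _ ⟨e, he, rfl⟩
    obtain ⟨Q, hQ⟩ := (P.2.map N.subtype).exists_le_sylow
    have hes : Commute (e : G) s :=
      h.commute_mem Q (hQ (mem_map_of_mem N.subtype he)) (hQ (mem_map_of_mem N.subtype hsP))
    refine hN (CfsgLib.Transfer.mem_normalizer_of_map_conj_eq (eq_of_le_of_card_ge ?_
      (card_map_of_injective (MulAut.conj (e : G)).injective).ge))
    rw [MonoidHom.map_zpowers, zpowers_le]
    refine hCs X hX hcX _ ((mem_normalizer_iff.1 e.2 c).1 hcX) ?_
    exact (hes.mul_left hcs).mul_left hes.inv_left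
  refine h.four_not_dvd_centralizer hco hso hcs hcard hN hCs (dvd_trans ?_ (card_dvd_of_le hPC))
  rw [card_map_of_injective N.subtype_injective]
  simpa using P.pow_dvd_card_of_pow_dvd_card (n := 2) (by simpa using h4)

/-- A prime dividing the order of the normaliser of a nontrivial `3`-group with two or eight
nonidentity elements is two or three. -/
theorem prime_eq_of_dvd_normalizer {N Z : Subgroup G} (hN' : N ≤ normalizer (Z : Set G))
    (hZ3 : IsPGroup 3 Z) (hZ : Nat.card Z = 3 ∨ Nat.card Z = 9) {p : ℕ} (hp : p.Prime)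
    (hd : p ∣ Nat.card N) : p = 2 ∨ p = 3 := by
  classical
  by_contra hcon
  push Not at hcon
  haveI := Fact.mk hp
  obtain ⟨⟨n, hnN⟩, hn⟩ := exists_prime_orderOf_dvd_card' (G := N) p hd
  rw [Subgroup.orderOf_mk] at hn
  have hnZ := hN' hnN
  -- `n` acts on the nonidentity elements
  let T := {x : Z // x ≠ 1}
  let σ : Equiv.Perm T :=
    { toFun := fun x => ⟨⟨n * x.1 * n⁻¹, (mem_normalizer_iff.1 hnZ _).1 x.1.2⟩, fun e => x.2
        (Subtype.ext (conj_eq_one_iff.1 (congrArg Subtype.val e)))⟩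
      invFun := fun x => ⟨⟨n⁻¹ * x.1 * n, by
          simpa using (mem_normalizer_iff.1 (inv_mem hnZ) _).1 x.1.2⟩, fun e => x.2
        (Subtype.ext ((conj_eq_one_iff (a := n⁻¹)).1 (by simpa using congrArg Subtype.val e)))⟩
      left_inv := fun x => by refine Subtype.ext (Subtype.ext ?_); simp [mul_assoc]
      right_inv := fun x => by refine Subtype.ext (Subtype.ext ?_); simp [mul_assoc] }
  have hpow : ∀ k : ℕ, ∀ x : T, (((σ ^ k) x).1 : G) = n ^ k * x.1 * (n ^ k)⁻¹ := by
    intro k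
    induction k with
    | zero => intro x; simp
    | succ k ih =>
      intro x
      rw [pow_succ', Equiv.Perm.mul_apply]
      show n * (((σ ^ k) x).1 : G) * n⁻¹ = _
      rw [ih, pow_succ']; group
  have hσp : σ ^ p = 1 := Equiv.ext fun x => Subtype.ext (Subtype.ext (by
    rw [hpow, ← hn, pow_orderOf_eq_one]; simp))
  haveI := Fintype.ofFinite T
  have hT : Nat.card T = Nat.card Z - 1 := by
    haveI := Fintype.ofFinite Z
    rw [Nat.card_eq_fintype_card, Nat.card_eq_fintype_card]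
    exact (Fintype.card_subtype_compl _).trans (by rw [Fintype.card_subtype_eq])
  have hpT : ¬ p ∣ Fintype.card T := by
    rw [← Nat.card_eq_fintype_card, hT]
    rcases hZ with e | e <;> rw [e]
    · intro hd'; have := Nat.le_of_dvd (by norm_num) hd'; have := hp.two_le; omega
    · intro hd'
      have : p ∣ 2 ^ 3 := by simpa using hd'
      exact hcon.1 ((Nat.prime_dvd_prime_iff_eq hp Nat.prime_two).1 (hp.dvd_of_dvd_pow this))
  obtain ⟨x, hx⟩ := Equiv.Perm.exists_fixed_point_of_prime (n := 1) (p := p) hpT (by rwa [pow_one])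
  have hcm : Commute n (x.1 : G) :=
    mul_inv_eq_iff_eq_mul.1 (congrArg (fun y : T => ((y.1 : Z) : G)) hx)
  have hxo : orderOf (x.1 : G) = 3 := orderOf_eq_prime
    (h.pow_r_of_mem_r_group hZ3 x.1.2) fun e => x.2 (Subtype.ext e)
  have := h.sq_of_commute_r hxo hcm.symm (by
    rw [hn]
    exact fun hd' => hcon.2 ((Nat.prime_dvd_prime_iff_eq Nat.prime_three hp).1 hd').symm)
  rw [← orderOf_dvd_iff_pow_eq_one, hn] at this
  exact hcon.1 ((Nat.prime_dvd_prime_iff_eq hp Nat.prime_two).1 this)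

/-- The contradiction from Grün's theorem, given `Z ⊇ R'` such that conjugates of `Z` meet `R`
in `Z` and `c ∉ Z`. -/
theorem false_of_grun (P : Sylow 3 G) (hcP : c ∈ (P : Subgroup G))
    (hsP : s ∈ normalizer ((P : Subgroup G) : Set G))
    (hNP : ∀ n ∈ normalizer ((P : Subgroup G) : Set G),
      n ∈ (P : Subgroup G) ∨ n * s ∈ (P : Subgroup G))
    (Z : Subgroup G) (hZP : Z ≤ P) (hsZ : ∀ z ∈ Z, s * z * s ∈ Z)
    (hPP : ∀ a ∈ (P : Subgroup G), ∀ b ∈ (P : Subgroup G), ⁅a, b⁆ ∈ Z) (hcZ : c ∉ Z)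
    (hconj : ∀ x ∈ (P : Subgroup G), ∀ g : G, g⁻¹ * x * g ∈ Z → x ∈ Z) : False := by
  classical
  haveI := h.isSimple
  haveI : Fact (Nat.Prime 3) := ⟨Nat.prime_three⟩
  set R := (P : Subgroup G) with hR
  set N := normalizer (R : Set G) with hNdef
  have hss : s * s = 1 := CfsgLib.Small.mul_self_of_orderOf_two hso
  have hsi : s⁻¹ = s := inv_eq_of_mul_eq_one_right hss
  have hsR : ∀ a ∈ R, s * a * s ∈ R := fun a ha => by
    have := (mem_normalizer_iff.1 hsP a).1 ha
    rwa [hsi] at this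
  have hσ : ∀ a b : G, s * (a * b) * s = s * a * s * (s * b * s) := fun a b => by
    calc s * (a * b) * s = s * a * (s * s) * b * s := by rw [hss]; group
      _ = _ := by group
  have hZn : ∀ a ∈ R, ∀ z ∈ Z, a * z * a⁻¹ ∈ Z := fun a ha z hz => by
    rw [show a * z * a⁻¹ = ⁅a, z⁆ * z by rw [commutatorElement_def]; group]
    exact mul_mem (hPP a ha z (hZP hz)) hz
  -- modulo `Z`, products in `R` commute
  have hswap : ∀ a ∈ R, ∀ b ∈ R, ∀ d ∈ R, ∀ e ∈ R, a * b * d * e ∈ Z → a * d * b * e ∈ Z := by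
    intro a ha b hb d hd e he hm
    have e1 : a * d * b * e = (a * ⁅d, b⁆ * a⁻¹) * (a * b * d * e) := by
      rw [commutatorElement_def]; group
    rw [e1]
    exact mul_mem (hZn a ha _ (hPP d hd b hb)) hm
  let J : Subgroup G :=
    { carrier := {x | x ∈ R ∧ s * x * s * x ∈ Z}
      one_mem' := ⟨one_mem _, by simp [hss]⟩
      mul_mem' := by
        rintro a b ⟨ha, ha'⟩ ⟨hb, hb'⟩
        refine ⟨mul_mem ha hb, ?_⟩
        have h1 : s * a * s * a * (s * b * s) * b ∈ Z := by
          have := mul_mem ha' hb'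
          simpa [mul_assoc] using this
        have h2 := hswap (s * a * s) (hsR a ha) a ha (s * b * s) (hsR b hb) b hb h1
        rw [hσ]
        simpa [mul_assoc] using h2
      inv_mem' := by
        rintro a ⟨ha, ha'⟩
        refine ⟨inv_mem ha, ?_⟩
        have h1 := hZn (s * a⁻¹ * s) (hsR _ (inv_mem ha)) _ (inv_mem (hsZ _ (hsZ _ ha')))
        have e : s * a⁻¹ * s * a⁻¹ = s * a⁻¹ * s * (s * (s * (s * a * s * a) * s) * s)⁻¹ *
            (s * a⁻¹ * s)⁻¹ := by
          simp only [mul_inv_rev, hsi, inv_inv]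
          simp only [mul_assoc, hss, mul_one]
          simp only [← mul_assoc, hss, one_mul, inv_mul_cancel_right]
          simp [mul_assoc, hss]
        rw [e]
        exact h1 }
  have hJR : J ≤ R := fun x hx => hx.1
  have hRJ : ∀ a ∈ R, ∀ b ∈ R, ⁅a, b⁆ ∈ J := fun a ha b hb =>
    ⟨hZP (hPP a ha b hb), mul_mem (hsZ _ (hPP a ha b hb)) (hPP a ha b hb)⟩
  have hsJ : ∀ a ∈ R, s * a * s⁻¹ * a⁻¹ ∈ J := fun a ha => by
    rw [hsi]
    refine ⟨mul_mem (hsR a ha) (inv_mem ha), ?_⟩
    have : s * (s * a * s * a⁻¹) * s * (s * a * s * a⁻¹) = 1 := by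
      calc s * (s * a * s * a⁻¹) * s * (s * a * s * a⁻¹)
          = (s * s) * a * s * a⁻¹ * (s * s) * a * s * a⁻¹ := by simp only [mul_assoc]
        _ = 1 := by
          simp only [hss, one_mul, mul_one, mul_assoc, inv_mul_cancel_left]
          exact mul_inv_cancel a
    rw [this]
    exact one_mem _
  have hJN : N ≤ normalizer (J : Set G) := by
    have key : ∀ n ∈ N, ∀ x ∈ J, n * x * n⁻¹ ∈ J := by
      have hR' : ∀ a ∈ R, ∀ x ∈ J, a * x * a⁻¹ ∈ J := fun a ha x hx => by
        rw [show a * x * a⁻¹ = ⁅a, x⁆ * x by rw [commutatorElement_def]; group]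
        exact mul_mem (hRJ a ha x (hJR hx)) hx
      have hs' : ∀ x ∈ J, s * x * s ∈ J := fun x hx => by
        rw [show s * x * s = s * x * s⁻¹ * x⁻¹ * x by rw [hsi]; group]
        exact mul_mem (hsJ x (hJR hx)) hx
      intro n hn x hx
      rcases hNP n hn with hn' | hn'
      · exact hR' n hn' x hx
      · rw [show n * x * n⁻¹ = n * s * (s⁻¹ * x * s⁻¹⁻¹) * (n * s)⁻¹ by group, hsi, hsi]
        exact hR' _ hn' _ (hs' x hx)
    intro n hn
    refine mem_normalizer_iff.2 fun x => ⟨key n hn x, fun hx => ?_⟩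
    simpa [mul_assoc] using key n⁻¹ (inv_mem hn) _ hx
  haveI : (J.subgroupOf N).Normal :=
    (normal_subgroupOf_iff_le_normalizer (hJR.trans le_normalizer)).2 hJN
  let π := QuotientGroup.mk' (J.subgroupOf N)
  have hπ : ∀ (a : N) (b : N), (⁅(a : G), (b : G)⁆ ∈ J) → Commute (π a) (π b) := fun a b hab => by
    refine commutatorElement_eq_one_iff_mul_comm.1 ?_
    rw [← map_commutatorElement]
    refine (QuotientGroup.eq_one_iff _).2 (mem_subgroupOf.2 ?_)
    simpa [commutatorElement_def] using hab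
  have hbase : ∀ (a : G) (ha : a ∈ R),
      Commute (π ⟨s, hsP⟩) (π ⟨a, le_normalizer ha⟩) := fun a ha =>
    hπ _ _ (by simpa [commutatorElement_def] using hsJ a ha)
  have hcomm : ∀ x y : N, Commute (π x) (π y) := by
    have hform : ∀ x : N, ∃ a : G, ∃ ha : a ∈ R,
        π x = π ⟨a, le_normalizer ha⟩ ∨ π x = π ⟨a, le_normalizer ha⟩ * π ⟨s, hsP⟩ := by
      intro x
      rcases hNP x x.2 with hx | hx
      · exact ⟨x, hx, Or.inl rfl⟩
      · refine ⟨x * s, hx, Or.inr ?_⟩
        rw [← map_mul]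
        exact congrArg π (Subtype.ext (by simp [mul_assoc, hss]))
    intro x y
    obtain ⟨a, ha, ex⟩ := hform x
    obtain ⟨b, hb, ey⟩ := hform y
    have hab : Commute (π ⟨a, le_normalizer ha⟩) (π ⟨b, le_normalizer hb⟩) :=
      hπ _ _ (hRJ a ha b hb)
    rcases ex with ex | ex <;> rcases ey with ey | ey <;> rw [ex, ey]
    · exact hab
    · exact hab.mul_right (hbase a ha).symm
    · exact hab.mul_left (hbase b hb)
    · exact (hab.mul_right (hbase a ha).symm).mul_left
        ((hbase b hb).mul_right (Commute.refl _))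
  have hNJ : ⁅N, N⁆ ≤ J := commutator_le.2 fun a ha b hb => by
    have h1 : π ⁅(⟨a, ha⟩ : N), ⟨b, hb⟩⁆ = 1 := by
      rw [map_commutatorElement]
      exact commutatorElement_eq_one_iff_mul_comm.2 (hcomm _ _)
    have h2 := mem_subgroupOf.1 ((QuotientGroup.eq_one_iff _).1 h1)
    simpa [commutatorElement_def] using h2
  have htop : commutator G = ⊤ := by
    rcases (inferInstance : (commutator G).Normal).eq_bot_or_eq_top with e | e
    · exact absurd (⟨⟨fun a b => commutatorElement_eq_one_iff_mul_comm.1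
        (mem_bot.1 (e ▸ commutator_mem_commutator (mem_top a) (mem_top b)))⟩⟩ :
        IsMulCommutative G) h.noncomm
    · exact e
  have hGr := Cfsg.Agent.S4216.result P
  rw [htop, inf_top_eq, ← hR] at hGr
  have hRle : R ≤ J := by
    rw [hGr]
    refine sup_le (inf_le_right.trans hNJ) (iSup_le fun z x hx => ?_)
    obtain ⟨hxR, hx'⟩ := Subgroup.mem_inf.1 hx
    have hxZ := hconj x hxR z ((commutator_le.2 hPP) (CfsgLib.Transfer.mem_map_conj_iff.1 hx'))
    exact ⟨hxR, mul_mem (hsZ _ hxZ) hxZ⟩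
  have hcJ := (hRle hcP).2
  rw [show s * c * s * c = c⁻¹ by
    rw [← hcs.eq, mul_assoc c s s, hss, mul_one]
    exact (inv_eq_of_mul_eq_one_right (by
      rw [← mul_assoc, ← pow_three', ← hco, pow_orderOf_eq_one])).symm] at hcJ
  exact hcZ (inv_mem_iff.1 hcJ)

set_option maxHeartbeats 1000000 in
/-- The final contradiction. -/
theorem false_of_eighteen : False := by
  classical
  haveI := h.isSimple
  haveI : Fact (Nat.Prime 3) := ⟨Nat.prime_three⟩
  haveI : Fact (Nat.Prime 2) := ⟨Nat.prime_two⟩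
  set C := centralizer ({c} : Set G) with hC
  have hcC : c ∈ C := mem_centralizer_singleton_iff.2 rfl
  have hsC : s ∈ C := mem_centralizer_singleton_iff.2 hcs.eq.symm
  obtain ⟨O₀⟩ : Nonempty (Sylow 3 C) := inferInstance
  have hO₀ : Nat.card (O₀ : Subgroup C) = 9 := by
    have h1 : 3 ^ 2 ∣ Nat.card (O₀ : Subgroup C) :=
      O₀.pow_dvd_card_of_pow_dvd_card (by rw [hcard]; norm_num)
    have h2 : Nat.card (O₀ : Subgroup C) ∣ 18 := hcard ▸ card_subgroup_dvd_card _
    obtain ⟨k, hk⟩ := O₀.2.exists_card_eq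
    rw [hk] at h1 h2 ⊢
    have hk2 : 2 ≤ k := (Nat.pow_dvd_pow_iff_le_right (by norm_num)).1 h1
    have : k ≤ 2 := by
      by_contra hk3
      have := (Nat.pow_dvd_pow 3 (show 3 ≤ k by omega)).trans h2
      norm_num at this
    obtain rfl : k = 2 := by omega
    norm_num
  haveI : (O₀ : Subgroup C).Normal := normal_of_index_eq_two (by
    have := Subgroup.card_mul_index (O₀ : Subgroup C)
    rw [hO₀, hcard] at this
    omega)
  set O := (O₀ : Subgroup C).map C.subtype with hOdef
  have hOC : O ≤ C := map_subtype_le _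
  have hO : Nat.card O = 9 := by rw [hOdef, card_map_of_injective C.subtype_injective, hO₀]
  have hOr : IsPGroup 3 O := O₀.2.map _
  have hmemO : ∀ x ∈ C, x ^ 3 = 1 → x ∈ O := fun x hx hx3 => by
    refine ⟨⟨x, hx⟩, ?_, rfl⟩
    have hp : IsPGroup 3 (zpowers (⟨x, hx⟩ : C)) := fun y => by
      obtain ⟨i, hi⟩ := mem_zpowers_iff.1 y.2
      refine ⟨1, Subtype.ext ?_⟩
      show (y : C) ^ 3 ^ 1 = 1
      rw [pow_one, ← hi, ← zpow_natCast, ← zpow_mul, mul_comm, zpow_mul, zpow_natCast,
        show (⟨x, hx⟩ : C) ^ 3 = 1 from Subtype.ext hx3, one_zpow]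
    exact O₀.3 (hp.to_sup_of_normal_right O₀.2) le_sup_right ▸ mem_sup_left (mem_zpowers _)
  have hc3 : c ^ 3 = 1 := by rw [← hco]; exact pow_orderOf_eq_one c
  have hcO : c ∈ O := hmemO c hcC hc3
  have hsO : s ∈ normalizer (O : Set G) := by
    refine mem_normalizer_iff.2 fun x => ?_
    constructor
    · rintro ⟨y, hy, rfl⟩
      exact ⟨⟨s, hsC⟩ * y * ⟨s, hsC⟩⁻¹,
        (inferInstance : (O₀ : Subgroup C).Normal).conj_mem y hy _, rfl⟩
    · rintro ⟨y, hy, he⟩
      refine ⟨⟨s, hsC⟩⁻¹ * y * ⟨s, hsC⟩⁻¹⁻¹,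
        (inferInstance : (O₀ : Subgroup C).Normal).conj_mem y hy _, ?_⟩
      have he' : (y : G) = s * x * s⁻¹ := he
      simp [he', mul_assoc]
  have hOcomm : ∀ a ∈ O, ∀ b ∈ O, a * b = b * a := fun a ha b hb =>
    congrArg Subtype.val (IsPGroup.commutative_of_card_eq_prime_sq (p := 3) (G := O)
      (by rw [hO]; norm_num) ⟨a, ha⟩ ⟨b, hb⟩)
  obtain ⟨P, hP⟩ := hOr.exists_le_sylow
  set R := (P : Subgroup G) with hR
  have hR3 := h.pow_three_eq hco hso hcs hcard hN hCs P.2
  have hcR : c ∈ R := hP hcO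
  have hRC : ∀ x ∈ R, x ∈ C → x ∈ O := fun x hx hxC => hmemO x hxC (hR3 x hx)
  by_cases hRO : R = O
  · -- abelian Sylow subgroup
    have hsP : s ∈ normalizer (R : Set G) := by rw [hRO]; exact hsO
    refine h.false_of_grun hco hso hcs hcard hN hCs P hcR hsP ?_ ⊥ bot_le ?_ ?_ ?_ ?_
    · -- the normaliser has order eighteen
      have h4 := h.four_not_dvd_normalizer hco hso hcs hcard hN hCs P.2 hcR hsP
      intro n hn
      have hdvd : Nat.card (normalizer (R : Set G)) ∣ 2 * Nat.card R := by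
        rw [Nat.dvd_iff_prime_pow_dvd_dvd]
        intro p k hp hpk
        rcases Nat.eq_zero_or_pos k with rfl | hk
        · simp
        rcases h.prime_eq_of_dvd_normalizer hco hso hcs hcard hN hCs le_rfl P.2
          (Or.inr (by rw [← hR, hRO, hO])) hp ((dvd_pow_self p hk.ne').trans hpk) with rfl | rfl
        · have : k = 1 := by
            by_contra hk1
            exact h4 ((pow_dvd_pow 2 (show 2 ≤ k by omega)).trans hpk)
          subst this
          exact dvd_mul_right 2 _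
        · exact dvd_mul_of_dvd_right
            (P.pow_dvd_card_of_pow_dvd_card (hpk.trans (card_subgroup_dvd_card _))) 2
      exact mem_or_mul_mem_of_index (le_normalizer : R ≤ normalizer (R : Set G)) hdvd hsP
        (fun hs' => by
          have := orderOf_dvd_of_pow_eq_one (hR3 s hs')
          rw [hso] at this
          omega) hn
    · simp only [Subgroup.mem_bot, forall_eq, mul_one]
      exact CfsgLib.Small.mul_self_of_orderOf_two hso
    · intro a ha b hb
      rw [hR] at hRO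
      rw [hRO] at ha hb
      rw [Subgroup.mem_bot, commutatorElement_eq_one_iff_mul_comm]
      exact hOcomm a ha b hb
    · rw [Subgroup.mem_bot]
      rintro rfl
      rw [orderOf_one] at hco
      omega
    · intro x _ g hg
      rw [Subgroup.mem_bot] at hg ⊢
      exact (conj_eq_one_iff (a := g⁻¹)).1 (by simpa using hg)
  -- `O` is normal in `R`
  have hconjc : ∀ x ∈ R, x * c * x⁻¹ ∈ O := fun x hx =>
    hRC _ (mul_mem (mul_mem hx hcR) (inv_mem hx))
      (mem_centralizer_singleton_iff.2 (commute_conj_of_pow_three hR3 hcR hx).eq.symm)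
  obtain ⟨x₀, hx₀, hx₀c⟩ : ∃ x ∈ R, x * c * x⁻¹ ∉ zpowers c := by
    by_contra hcon
    push Not at hcon
    refine hRO (le_antisymm (fun x hx => hRC x hx (hN ?_)) hP)
    refine CfsgLib.Transfer.mem_normalizer_of_map_conj_eq (eq_of_le_of_card_ge ?_
      (card_map_of_injective (MulAut.conj x).injective).ge)
    rw [MonoidHom.map_zpowers, zpowers_le]
    exact hcon x hx
  have hgen : O = zpowers c ⊔ zpowers (x₀ * c * x₀⁻¹) := by
    refine (eq_of_le_of_card_ge (sup_le (zpowers_le.2 hcO) (zpowers_le.2 (hconjc x₀ hx₀))) ?_).symm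
    set D := zpowers c ⊔ zpowers (x₀ * c * x₀⁻¹)
    have hDO : D ≤ O := sup_le (zpowers_le.2 hcO) (zpowers_le.2 (hconjc x₀ hx₀))
    have hd : Nat.card D ∣ 3 ^ 2 := by
      have := card_dvd_of_le hDO
      rwa [hO] at this
    obtain ⟨k, hk, hk'⟩ := (Nat.dvd_prime_pow Nat.prime_three).1 hd
    have h3 : Nat.card (zpowers c) < Nat.card D := by
      refine lt_of_le_of_ne (card_le_of_le le_sup_left) fun e => hx₀c ?_
      rw [eq_of_le_of_card_ge (le_sup_left : zpowers c ≤ D) e.ge]
      exact mem_sup_right (mem_zpowers _)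
    rw [Nat.card_zpowers, hco] at h3
    rw [hO, hk']
    obtain rfl : k = 2 := by
      by_contra hk2
      have : 3 ^ k ≤ 3 ^ 1 := Nat.pow_le_pow_right (by norm_num) (by omega)
      omega
    norm_num
  have hRNO : R ≤ normalizer (O : Set G) := by
    have key : ∀ y ∈ R, ∀ a ∈ O, y * a * y⁻¹ ∈ O := by
      intro y hy
      suffices hsuf : O ≤ O.comap (MulAut.conj y).toMonoidHom from fun a ha => hsuf ha
      conv_lhs => rw [hgen]
      refine sup_le (zpowers_le.2 (hconjc y hy)) (zpowers_le.2 ?_)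
      show y * (x₀ * c * x₀⁻¹) * y⁻¹ ∈ O
      have := hconjc _ (mul_mem hy hx₀)
      simpa [mul_assoc] using this
    intro y hy
    refine mem_normalizer_iff.2 fun a => ⟨key y hy a, fun ha => ?_⟩
    simpa [mul_assoc] using key y⁻¹ (inv_mem hy) _ ha
  -- `|R| = 27`
  have hR27 : Nat.card R = 27 := by
    have hidx : Nat.card (R ⧸ O.subgroupOf R) ≤ 8 := by
      have hlift : ∀ a b : R, a⁻¹ * b ∈ O.subgroupOf R →
          (a : G) * c * (a : G)⁻¹ = (b : G) * c * (b : G)⁻¹ := by
        intro a b hab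
        have hm : ((a : G)⁻¹ * b) ∈ O := hab
        have := hOcomm _ hm c hcO
        calc (a : G) * c * (a : G)⁻¹ = a * (c * ((a : G)⁻¹ * b)) * (b : G)⁻¹ := by group
          _ = a * (((a : G)⁻¹ * b) * c) * (b : G)⁻¹ := by rw [this]
          _ = _ := by group
      let f : R ⧸ O.subgroupOf R → {y : O // y ≠ 1} := Quotient.lift
        (fun a => ⟨⟨(a : G) * c * (a : G)⁻¹, hconjc a a.2⟩, fun e => by
          have := conj_eq_one_iff.1 (congrArg Subtype.val e)
          rw [this, orderOf_one] at hco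
          omega⟩)
        (fun a b hab => Subtype.ext (Subtype.ext (hlift a b (QuotientGroup.leftRel_apply.1 hab))))
      have hf : Function.Injective f := by
        intro a b
        induction a using QuotientGroup.induction_on with | H a => ?_
        induction b using QuotientGroup.induction_on with | H b => ?_
        intro e
        have e' : (a : G) * c * (a : G)⁻¹ = (b : G) * c * (b : G)⁻¹ :=
          congrArg (fun y : {y : O // y ≠ 1} => ((y.1 : O) : G)) e
        refine QuotientGroup.eq.2 (mem_subgroupOf.2 (hRC _ (a⁻¹ * b).2 ?_))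
        rw [mem_centralizer_singleton_iff]
        calc (a : G)⁻¹ * b * c = (a : G)⁻¹ * ((b : G) * c * (b : G)⁻¹) * b := by group
          _ = c * ((a : G)⁻¹ * b) := by rw [← e']; group
      refine (Nat.card_le_card_of_injective f hf).trans ?_
      haveI := Fintype.ofFinite O
      rw [Nat.card_eq_fintype_card]
      rw [Fintype.card_subtype_compl, Fintype.card_subtype_eq, ← Nat.card_eq_fintype_card, hO]
    obtain ⟨k, hk⟩ := P.2.exists_card_eq
    rw [← hR] at hk
    have h1 := Subgroup.card_mul_index (O.subgroupOf R)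
    rw [Nat.card_congr (subgroupOfEquivOfLe hP).toEquiv, hO, Subgroup.index_eq_card, hk] at h1
    have hk2 : 2 < k := by
      by_contra hk2
      refine hRO (eq_of_le_of_card_ge hP ?_).symm
      rw [hk, hO]
      calc 3 ^ k ≤ 3 ^ 2 := Nat.pow_le_pow_right (by norm_num) (by omega)
        _ = 9 := by norm_num
    have hk3 : k < 4 := by
      by_contra hk4
      have : 3 ^ 4 ≤ 3 ^ k := Nat.pow_le_pow_right (by norm_num) (by omega)
      omega
    obtain rfl : k = 3 := by omega
    rw [hk]; norm_num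
  -- the centre of `R`
  set Z := (center R).map R.subtype with hZ
  have hZR : Z ≤ R := map_subtype_le _
  have hmemZ : ∀ x, x ∈ Z ↔ x ∈ R ∧ ∀ y ∈ R, y * x = x * y := by
    intro x
    constructor
    · rintro ⟨z, hz, rfl⟩
      exact ⟨z.2, fun y hy => congrArg Subtype.val (Subgroup.mem_center_iff.1 hz ⟨y, hy⟩)⟩
    · rintro ⟨hx, hx'⟩
      exact ⟨⟨x, hx⟩, Subgroup.mem_center_iff.2 fun y => Subtype.ext (hx' y y.2), rfl⟩
  have hcZ : c ∉ Z := fun hm => hx₀c (by
    rw [((hmemZ c).1 hm).2 x₀ hx₀, mul_inv_cancel_right]; exact mem_zpowers c)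
  have hZO : Z ≤ O := fun x hx => hRC x (hZR hx)
    (mem_centralizer_singleton_iff.2 (((hmemZ x).1 hx).2 c hcR).symm)
  have hZ3 : Nat.card Z = 3 := by
    haveI : Nontrivial R := Finite.one_lt_card_iff_nontrivial.1 (by omega)
    haveI := P.2.center_nontrivial
    have h1 : 1 < Nat.card Z := by
      rw [hZ, card_map_of_injective R.subtype_injective]
      exact Finite.one_lt_card
    have hd : Nat.card Z ∣ 3 ^ 2 := by
      have := card_dvd_of_le hZO
      rwa [hO] at this
    obtain ⟨k, hk, hk'⟩ := (Nat.dvd_prime_pow Nat.prime_three).1 hd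
    have hk2 : k ≠ 2 := fun e => hcZ
      (eq_of_le_of_card_ge hZO (by rw [hO, hk', e]; norm_num) ▸ hcO)
    have hk0 : k ≠ 0 := fun e => by rw [hk', e, pow_zero] at h1; omega
    rw [hk', show k = 1 by omega, pow_one]
  have hRZ : ∀ a ∈ R, ∀ b ∈ R, ⁅a, b⁆ ∈ Z := by
    intro a ha b hb
    have hidx : Nat.card (R ⧸ center R) = 3 ^ 2 := by
      have := Subgroup.card_mul_index (center R)
      rw [Subgroup.index_eq_card] at this
      have hc' : Nat.card (center R) = 3 := by
        rw [← hZ3, hZ, card_map_of_injective R.subtype_injective]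
      rw [hc', hR27] at this
      omega
    have := IsPGroup.commutative_of_card_eq_prime_sq hidx (QuotientGroup.mk' (center R) ⟨a, ha⟩)
      (QuotientGroup.mk' (center R) ⟨b, hb⟩)
    rw [← commutatorElement_eq_one_iff_mul_comm, ← map_commutatorElement] at this
    exact ⟨_, (QuotientGroup.eq_one_iff _).1 this, rfl⟩
  -- `s` normalises `R`
  have hsR : s ∈ normalizer (R : Set G) := by
    have h4 := h.four_not_dvd_normalizer hco hso hcs hcard hN hCs hOr hcO hsO
    have hdvd : Nat.card (normalizer (O : Set G)) ∣ 2 * Nat.card R := by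
      rw [Nat.dvd_iff_prime_pow_dvd_dvd]
      intro p k hp hpk
      rcases Nat.eq_zero_or_pos k with rfl | hk
      · simp
      rcases h.prime_eq_of_dvd_normalizer hco hso hcs hcard hN hCs le_rfl hOr
        (Or.inr hO) hp ((dvd_pow_self p hk.ne').trans hpk) with rfl | rfl
      · have : k = 1 := by
          by_contra hk1
          exact h4 ((pow_dvd_pow 2 (show 2 ≤ k by omega)).trans hpk)
        subst this
        exact dvd_mul_right 2 _
      · exact dvd_mul_of_dvd_right
          (P.pow_dvd_card_of_pow_dvd_card (hpk.trans (card_subgroup_dvd_card _))) 2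
    exact normalizer_of_index hRNO hdvd hsO fun hs' => by
      have := orderOf_dvd_of_pow_eq_one (hR3 s hs')
      rw [hso] at this
      omega
  have hNZ : normalizer (R : Set G) ≤ normalizer (Z : Set G) := by
    have key : ∀ n ∈ normalizer (R : Set G), ∀ z ∈ Z, n * z * n⁻¹ ∈ Z := by
      intro n hn z hz
      refine (hmemZ _).2 ⟨(mem_normalizer_iff.1 hn z).1 (hZR hz), fun y hy => ?_⟩
      have hy' : n⁻¹ * y * n ∈ R := by simpa using (mem_normalizer_iff.1 (inv_mem hn) y).1 hy
      calc y * (n * z * n⁻¹) = n * ((n⁻¹ * y * n) * z) * n⁻¹ := by group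
        _ = n * (z * (n⁻¹ * y * n)) * n⁻¹ := by rw [((hmemZ z).1 hz).2 _ hy']
        _ = n * z * n⁻¹ * y := by group
    intro n hn
    refine mem_normalizer_iff.2 fun z => ⟨key n hn z, fun hz => ?_⟩
    simpa [mul_assoc] using key n⁻¹ (inv_mem hn) _ hz
  refine h.false_of_grun hco hso hcs hcard hN hCs P hcR hsR ?_ Z hZR ?_ hRZ hcZ ?_
  · intro n hn
    have h4 := h.four_not_dvd_normalizer hco hso hcs hcard hN hCs P.2 hcR hsR
    have hdvd : Nat.card (normalizer (R : Set G)) ∣ 2 * Nat.card R := by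
      rw [Nat.dvd_iff_prime_pow_dvd_dvd]
      intro p k hp hpk
      rcases Nat.eq_zero_or_pos k with rfl | hk
      · simp
      rcases h.prime_eq_of_dvd_normalizer hco hso hcs hcard hN hCs hNZ (P.2.to_le hZR)
        (Or.inl hZ3) hp ((dvd_pow_self p hk.ne').trans hpk) with rfl | rfl
      · have : k = 1 := by
          by_contra hk1
          exact h4 ((pow_dvd_pow 2 (show 2 ≤ k by omega)).trans hpk)
        subst this
        exact dvd_mul_right 2 _
      · exact dvd_mul_of_dvd_right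
          (P.pow_dvd_card_of_pow_dvd_card (hpk.trans (card_subgroup_dvd_card _))) 2
    exact mem_or_mul_mem_of_index (le_normalizer : R ≤ normalizer (R : Set G)) hdvd hsR
      (fun hs' => by
        have := orderOf_dvd_of_pow_eq_one (hR3 s hs')
        rw [hso] at this
        omega) hn
  · intro z hz
    have := (mem_normalizer_iff.1 (hNZ hsR) z).1 hz
    rwa [inv_eq_of_mul_eq_one_right (CfsgLib.Small.mul_self_of_orderOf_two hso)] at this
  -- `Z` is weakly closed
  intro x hxR g hgZ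
  by_contra hxZ
  set w := g⁻¹ * x * g with hw
  have hw1 : w ≠ 1 := fun e => hxZ (by
    rw [show x = g * w * g⁻¹ by rw [hw]; group, e]; simp [one_mem])
  have hZw : ∀ z ∈ Z, z ∈ zpowers w := by
    intro z hz
    have : zpowers w = Z := eq_of_le_of_card_ge (zpowers_le.2 hgZ) (by
      rw [hZ3, Nat.card_zpowers, orderOf_eq_prime (hR3 w (hZR hgZ)) hw1])
    rwa [this]
  obtain ⟨a, ha, hax⟩ : ∃ a ∈ R, a * x ≠ x * a := by
    by_contra hcon
    push Not at hcon
    exact hxZ ((hmemZ x).2 ⟨hxR, hcon⟩)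
  set z := ⁅a, x⁆ with hz
  have hzZ : z ∈ Z := hRZ a ha x hxR
  have hz1 : z ≠ 1 := fun e => hax (commutatorElement_eq_one_iff_mul_comm.1 e)
  have hzx : Commute z x := ((hmemZ z).1 hzZ).2 x hxR |>.symm
  have haz : Commute a z := ((hmemZ z).1 hzZ).2 a ha
  -- a Sylow subgroup of `C(x)` containing `x` and `z`
  set B := zpowers x ⊔ zpowers z with hB
  have hBR : B ≤ R := sup_le (zpowers_le.2 hxR) (zpowers_le.2 (hZR hzZ))
  have hBC : B ≤ centralizer ({x} : Set G) := sup_le
    (zpowers_le.2 (mem_centralizer_singleton_iff.2 rfl))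
    (zpowers_le.2 (mem_centralizer_singleton_iff.2 hzx.eq))
  obtain ⟨Q₀, hQ₀⟩ := ((P.2.to_le hBR).comap_subtype (K := centralizer ({x} : Set G))).exists_le_sylow
  set Q := (Q₀ : Subgroup (centralizer ({x} : Set G))).map (centralizer ({x} : Set G)).subtype
    with hQ
  have hxQ : x ∈ Q :=
    ⟨⟨x, hBC (mem_sup_left (mem_zpowers x))⟩, hQ₀ (mem_sup_left (mem_zpowers x)), rfl⟩
  have hzQ : z ∈ Q :=
    ⟨⟨z, hBC (mem_sup_right (mem_zpowers z))⟩, hQ₀ (mem_sup_right (mem_zpowers z)), rfl⟩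
  have hQx : ∀ y ∈ Q, y * x = x * y := by
    rintro _ ⟨y, -, rfl⟩
    exact mem_centralizer_singleton_iff.1 y.2
  -- `Q` is a conjugate of `R`
  have hgR : R.map (MulAut.conj g).toMonoidHom ≤ centralizer ({x} : Set G) := by
    rintro _ ⟨y, hy, rfl⟩
    rw [mem_centralizer_singleton_iff]
    show g * y * g⁻¹ * x = x * (g * y * g⁻¹)
    calc g * y * g⁻¹ * x = g * (y * w) * g⁻¹ := by rw [hw]; group
      _ = g * (w * y) * g⁻¹ := by rw [((hmemZ w).1 hgZ).2 y hy]
      _ = _ := by rw [hw]; group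
  have hQcard : Nat.card Q = 27 := by
    obtain ⟨T, hT⟩ := (P.2.map (MulAut.conj g).toMonoidHom |>.comap_subtype
      (K := centralizer ({x} : Set G))).exists_le_sylow
    have h1 : Nat.card R ≤ Nat.card Q := by
      have e : Nat.card (T : Subgroup (centralizer ({x} : Set G))) = Nat.card Q := by
        rw [hQ, card_map_of_injective (centralizer ({x} : Set G)).subtype_injective,
          T.card_eq_multiplicity, Q₀.card_eq_multiplicity]
      have e3 : Nat.card (R.map (MulAut.conj g).toMonoidHom) = Nat.card R :=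
        card_map_of_injective (MulAut.conj g).injective
      rw [← e, ← e3, ← Nat.card_congr (subgroupOfEquivOfLe hgR).toEquiv]
      exact card_le_of_le hT
    obtain ⟨Q', hQ'⟩ := (Q₀.2.map (centralizer ({x} : Set G)).subtype).exists_le_sylow
    have h2 : Nat.card Q ≤ 27 := by
      rw [← hR27, hR, P.card_eq_multiplicity, ← Q'.card_eq_multiplicity]
      exact card_le_of_le hQ'
    omega
  obtain ⟨Q', hQ'⟩ := (Q₀.2.map (centralizer ({x} : Set G)).subtype).exists_le_sylow
  have hQQ' : Q = (Q' : Subgroup G) := eq_of_le_of_card_ge hQ' (by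
    rw [hQcard, ← hR27, hR, P.card_eq_multiplicity, ← Q'.card_eq_multiplicity])
  obtain ⟨k, hk⟩ := MulAction.exists_smul_eq G P Q'
  have hQk : ∀ y, y ∈ Q ↔ k⁻¹ * y * k ∈ R := by
    intro y
    rw [hQQ', ← hk, Sylow.coe_subgroup_smul, Subgroup.mem_pointwise_smul_iff_inv_smul_mem]
    simp [MulAut.smul_def, hR]
  have hcent : ∀ y ∈ Q, (∀ b ∈ Q, b * y = y * b) → k⁻¹ * y * k ∈ Z := by
    intro y hy hall
    refine (hmemZ _).2 ⟨(hQk y).1 hy, fun d hd => ?_⟩
    have hd' : k * d * k⁻¹ ∈ Q := (hQk _).2 (by simpa [mul_assoc] using hd)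
    calc d * (k⁻¹ * y * k) = k⁻¹ * ((k * d * k⁻¹) * y) * k := by group
      _ = k⁻¹ * (y * (k * d * k⁻¹)) * k := by rw [hall _ hd']
      _ = _ := by group
  have hxk := hcent x hxQ hQx
  have hxo : orderOf x = 3 := orderOf_eq_prime (hR3 x hxR) fun e => hxZ (e ▸ one_mem _)
  have hgenk : zpowers (k⁻¹ * x * k) = Z := eq_of_le_of_card_ge (zpowers_le.2 hxk) (by
    rw [hZ3, Nat.card_zpowers]
    have := (MulAut.conj k⁻¹).orderOf_eq x
    simp only [MulAut.conj_apply, inv_inv] at this
    omega)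
  have hZQ : ∀ y, k⁻¹ * y * k ∈ Z → y ∈ zpowers x := by
    intro y hy
    rw [← hgenk] at hy
    obtain ⟨i, hi⟩ := mem_zpowers_iff.1 hy
    refine ⟨i, ?_⟩
    rw [show k⁻¹ * x * k = k⁻¹ * x * k⁻¹⁻¹ by rw [inv_inv], conj_zpow] at hi
    simpa [mul_assoc] using hi
  obtain ⟨b₀, hb₀, hbz⟩ : ∃ b ∈ Q, b * z ≠ z * b := by
    by_contra hcon
    push Not at hcon
    -- then `z` and `x` both generate the centre of `Q`
    obtain ⟨i, hi⟩ := mem_zpowers_iff.1 (hZQ z (hcent z hzQ hcon))
    exact hax ((by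
      have hgx : zpowers z = zpowers x := eq_of_le_of_card_ge (zpowers_le.2 ⟨i, hi⟩) (by
        rw [Nat.card_zpowers, Nat.card_zpowers, hxo,
          orderOf_eq_prime (hR3 z (hZR hzZ)) hz1])
      obtain ⟨j, hj⟩ := mem_zpowers_iff.1 (hgx.ge (mem_zpowers x))
      rw [← hj]
      exact (haz.zpow_right j).eq : a * x = x * a))
  have hcm : ⁅b₀, z⁆ ∈ zpowers x := by
    refine hZQ _ ?_
    have e : k⁻¹ * ⁅b₀, z⁆ * k = ⁅k⁻¹ * b₀ * k, k⁻¹ * z * k⁆ := by
      simp only [commutatorElement_def]; group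
    rw [e]
    exact hRZ _ ((hQk _).1 hb₀) _ ((hQk _).1 hzQ)
  -- choose `b` with `b z b⁻¹ = z x⁻¹`
  obtain ⟨b, hbx, hbz'⟩ : ∃ b : G, Commute b x ∧ b * z * b⁻¹ = z * x⁻¹ := by
    have hb0x : Commute b₀ x := hQx b₀ hb₀
    have hcm1 : ⁅b₀, z⁆ ≠ 1 := fun e => hbz (commutatorElement_eq_one_iff_mul_comm.1 e)
    obtain ⟨i, hi⟩ := mem_zpowers_iff.1 hcm
    have hcases : ⁅b₀, z⁆ = x⁻¹ ∨ ⁅b₀, z⁆ = x := by
      rw [← hi] at hcm1 ⊢
      have hx3 : x ^ (3 : ℤ) = 1 := by
        rw [show (3 : ℤ) = ((3 : ℕ) : ℤ) from rfl, zpow_natCast]; exact hR3 x hxR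
      have hmod : x ^ i = x ^ (i % 3) := by
        conv_lhs => rw [← Int.mul_ediv_add_emod i 3, zpow_add, zpow_mul, hx3, one_zpow, one_mul]
      rw [hmod] at hcm1 ⊢
      have h0 := Int.emod_nonneg i (show (3 : ℤ) ≠ 0 by norm_num)
      have h2 := Int.emod_lt_of_pos i (show (0 : ℤ) < 3 by norm_num)
      obtain e | e | e : i % 3 = 0 ∨ i % 3 = 1 ∨ i % 3 = 2 := by omega
      · rw [e, zpow_zero] at hcm1; exact absurd rfl hcm1
      · right; rw [e, zpow_one]
      · left; rw [e, ← mul_inv_eq_one, inv_inv, ← zpow_add_one]; exact hx3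
    rcases hcases with e | e
    · refine ⟨b₀, hb0x, ?_⟩
      rw [commutatorElement_def, mul_inv_eq_iff_eq_mul] at e
      rw [e]
      exact hzx.inv_right.eq.symm
    · refine ⟨b₀⁻¹, hb0x.inv_left, ?_⟩
      rw [commutatorElement_def, mul_inv_eq_iff_eq_mul] at e
      -- `b₀ z b₀⁻¹ = x z`
      calc b₀⁻¹ * z * b₀⁻¹⁻¹ = b₀⁻¹ * (x⁻¹ * (x * z)) * b₀ := by group
        _ = b₀⁻¹ * (x⁻¹ * (b₀ * z * b₀⁻¹)) * b₀ := by rw [e]
        _ = b₀⁻¹ * (x⁻¹ * b₀) * z := by group
        _ = x⁻¹ * z := by rw [← hb0x.inv_right.eq]; group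
        _ = z * x⁻¹ := hzx.inv_right.eq.symm
  have hax' : a * x * a⁻¹ = z * x := by rw [hz, commutatorElement_def]; group
  have h1 : a * b * a * x * (a * b * a)⁻¹ = z := by
    calc a * b * a * x * (a * b * a)⁻¹ = a * b * (a * x * a⁻¹) * b⁻¹ * a⁻¹ := by group
      _ = a * (b * z * b⁻¹) * (b * x * b⁻¹) * a⁻¹ := by rw [hax']; group
      _ = a * z * a⁻¹ := by rw [hbz', hbx.eq, mul_inv_cancel_right]; group
      _ = z := by rw [haz.eq, mul_inv_cancel_right]
  have h2 : a * b * a * z * (a * b * a)⁻¹ = x⁻¹ := by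
    calc a * b * a * z * (a * b * a)⁻¹ = a * b * (a * z * a⁻¹) * b⁻¹ * a⁻¹ := by group
      _ = a * (b * z * b⁻¹) * a⁻¹ := by rw [haz.eq, mul_inv_cancel_right]; group
      _ = (a * z * a⁻¹) * (a * x * a⁻¹)⁻¹ := by rw [hbz']; group
      _ = z * (x * z)⁻¹ := by rw [hax', haz.eq, mul_inv_cancel_right, hzx.eq]
      _ = x⁻¹ := by group
  set ρ := a * b * a with hρ
  have hρρ : ρ * ρ * x * (ρ * ρ)⁻¹ = x⁻¹ := by
    calc ρ * ρ * x * (ρ * ρ)⁻¹ = ρ * (ρ * x * ρ⁻¹) * ρ⁻¹ := by group
      _ = x⁻¹ := by rw [h1, h2]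
  have hxne : x⁻¹ ≠ x := fun e => by
    have : x ^ 2 = 1 := by rw [pow_two]; nth_rw 1 [← e]; exact inv_mul_cancel x
    have hd := orderOf_dvd_of_pow_eq_one this
    rw [hxo] at hd
    omega
  by_cases hev : 2 ∣ orderOf ρ
  · refine false_of_inverting_square hρρ hxne (n := 3) (by decide) ?_
    rw [← pow_two, ← pow_mul]
    exact h.pow_two_r_of_dvd hev
  · refine false_of_inverting_square hρρ hxne (n := orderOf ρ) (Nat.odd_iff.2 (by omega)) ?_
    rw [(Commute.refl ρ).mul_pow, pow_orderOf_eq_one, mul_one]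

end Hyp

end CfsgLib.OneComposite
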