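import Cfsg.Agent.OneComposite.Twist
import Cfsg.Agent.OneComposite.Three

/-!
# The strongly embedded case

If the centralisers of the involutions of `S` normalise `S`, there is no such group: either the
kernel argument or Grün's theorem applies, or else counting the fixed points of an element of
order `r` gives `r = 3` and `|C(c)| = 18`.
-/

set_option autoImplicit false
set_option linter.unusedSectionVars false
set_option linter.style.haveILetI false

namespace CfsgLib.OneComposite

open Subgroup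

universe u

namespace Hyp

variable {G : Type u} [Group G] [Finite G] {r : ℕ}
variable (h : Hyp G r) (S : Sylow 2 G) (hloc : LocalsIn S)
include h hloc

local notation "M" => normalizer ((S : Subgroup G) : Set G)
local notation "K" => centralizer ((S : Subgroup G) : Set G)

/-- Without elements of order `r` the centraliser of `S` is `S`. -/
theorem mem_of_mem_centralizer (hW : ∀ w ∈ K, orderOf w ≠ r) {x : G} (hx : x ∈ K) :
    x ∈ (S : Subgroup G) := by
  haveI := Fact.mk h.prime
  refine h.mem_of_sq S (centralizer_le_normalizer _ hx) (by_contra fun hne => ?_)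
  exact hW _ (pow_mem hx 2) (orderOf_eq_prime
    (by rw [← pow_mul, h.pow_two_r_centralizer S hx]) hne)

/-- The elements of `N(S)` normalising `⟨c⟩`. -/
theorem exists_zpow_of_normalizes (D : ImageData S r) (hW : ∀ w ∈ K, orderOf w ≠ r) {c s : G}
    (hc : c ∈ M) (hco : orderOf c = r) (hcK : c ∉ K)
    (huniq : ∀ v ∈ (S : Subgroup G), Commute c v → v = 1 ∨ v = s) {m : G} (hm : m ∈ M)
    (hn : m * c * m⁻¹ ∈ zpowers c) : ∃ j : ℤ, m = c ^ j ∨ m = s * c ^ j := by
  obtain ⟨i, hi⟩ := mem_zpowers_iff.1 hn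
  obtain ⟨j, hj⟩ := D.self_norm c hc hco hcK m hm ⟨i, by rw [hi, mul_inv_cancel]; exact one_mem _⟩
  set k := m * (c ^ j)⁻¹ with hk
  have hkS : k ∈ (S : Subgroup G) := h.mem_of_mem_centralizer S hloc hW hj
  have hm' : m = k * c ^ j := by rw [hk, inv_mul_cancel_right]
  have hcomm : Commute c k := by
    have h1 : k * c * k⁻¹ * c⁻¹ ∈ zpowers c := by
      have e : k * c * k⁻¹ = c ^ i := by
        rw [hi, hm']; group
      rw [e]
      exact mul_mem ⟨i, rfl⟩ (inv_mem (mem_zpowers c))
    have h2 : k * c * k⁻¹ * c⁻¹ ∈ (S : Subgroup G) := by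
      rw [show k * c * k⁻¹ * c⁻¹ = k * (c * k⁻¹ * c⁻¹) by group]
      exact mul_mem hkS ((mem_normalizer_iff.1 hc _).1 (inv_mem hkS))
    have h3 : k * c * k⁻¹ * c⁻¹ = 1 := by
      refine orderOf_eq_one_iff.1 (Nat.eq_one_of_dvd_coprimes h.coprime_two
        (orderOf_dvd_of_pow_eq_one (h.sq_mem S h2)) ?_)
      rw [← hco, ← Nat.card_zpowers c]
      exact Subgroup.orderOf_dvd_natCard _ h1
    exact (mul_inv_eq_iff_eq_mul.1 (mul_inv_eq_one.1 h3)).symm
  rcases huniq k hkS hcomm with e | e <;> rw [e] at hm'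
  · exact ⟨j, Or.inl (by rw [hm', one_mul])⟩
  · exact ⟨j, Or.inr hm'⟩

/-- Two complements of `S` in `N(S)` through `c` differ by an element centralising `c`. -/
theorem exists_conj_of_complements {c : G} {X X' : Subgroup G} (hX : X ≤ M) (hX' : X' ≤ M)
    (hcard : Nat.card X' = Nat.card X) (hcop : (Nat.card (S : Subgroup G)).Coprime (Nat.card X))
    (hM : Nat.card M = Nat.card (S : Subgroup G) * Nat.card X) :
    ∃ σ ∈ (S : Subgroup G), X.map (MulAut.conj σ).toMonoidHom = X' ∧
      (c ∈ X → c ∈ X' → Commute c σ) := by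
  haveI : Fact (Nat.Prime 2) := ⟨Nat.prime_two⟩
  have hdisj : ∀ Y : Subgroup G, Nat.card Y = Nat.card X → (S : Subgroup G) ⊓ Y = ⊥ := fun Y hY =>
    CfsgLib.Coprime.inf_eq_bot_of_coprime (hY ▸ hcop)
  have htop : ∀ Y : Subgroup G, Y ≤ M → Nat.card Y = Nat.card X → (S : Subgroup G) ⊔ Y = M := by
    intro Y hY hYc
    refine eq_of_le_of_card_ge (sup_le le_normalizer hY) ?_
    rw [CfsgLib.Coprime.card_sup_eq hY (hdisj Y hYc), hYc, hM]
  obtain ⟨σ, hσ, he⟩ := CfsgLib.Coprime.exists_conj_eq_of_sup_eq hX hX' hcop hcard ((htop X hX rfl).trans (htop X' hX' hcard).symm)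
    (Or.inl (CfsgLib.Transitivity.isSolvable_of_elab (h.elab_sylow S)))
  have he' : X.map (MulAut.conj σ).toMonoidHom = X' := he
  refine ⟨σ, hσ, he', fun hc hc' => ?_⟩
  have h1 : σ * c * σ⁻¹ * c⁻¹ ∈ (S : Subgroup G) ⊓ X' := by
    refine Subgroup.mem_inf.2 ⟨?_, ?_⟩
    · rw [show σ * c * σ⁻¹ * c⁻¹ = σ * (c * σ⁻¹ * c⁻¹) by group]
      exact mul_mem hσ ((mem_normalizer_iff.1 (hX hc) _).1 (inv_mem hσ))
    · refine mul_mem ?_ (inv_mem hc')
      rw [← he']
      exact ⟨c, hc, rfl⟩
  rw [hdisj X' hcard, Subgroup.mem_bot, mul_inv_eq_one, mul_inv_eq_iff_eq_mul] at h1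
  exact h1.symm

set_option maxHeartbeats 1000000 in
/-- The count in the second case. -/
theorem false_of_count (D : ImageData S r) (hW : ∀ w ∈ K, orderOf w ≠ r) : False := by
  classical
  haveI := h.isSimple
  haveI := Fact.mk h.prime
  haveI : Fact (Nat.Prime 2) := ⟨Nat.prime_two⟩
  obtain ⟨s, c, hs, hs1, hco, hsc, hcM⟩ := h.exists_pair_mem S hloc
  have hcK : c ∉ K := fun hm => hW c hm hco
  rcases D.cases with hA | ⟨hB, hcop, hMcard, q, hq, hqr, hqd, hQ⟩
  · exact hA c hcM hcK s hs hs1 hsc.symm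
  have huniq : ∀ v ∈ (S : Subgroup G), Commute c v → v = 1 ∨ v = s := by
    intro v hv hcv
    obtain ⟨s', hs', hs'1, hcs', hu⟩ := hB c hcM hco hcK
    rw [(hu s hs hsc.symm).resolve_left hs1]
    exact hu v hv hcv
  have hso := h.orderOf_mem S hs hs1
  have hnorm := fun {m : G} => h.exists_zpow_of_normalizes S hloc D hW hcM hco hcK huniq (m := m)
  set C := centralizer ({c} : Set G) with hCdef
  have hcC : c ∈ C := mem_centralizer_singleton_iff.2 rfl
  have hsC : s ∈ C := mem_centralizer_singleton_iff.2 hsc.eq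
  have hcr : c ^ r = 1 := by rw [← hco]; exact pow_orderOf_eq_one c
  -- elements of `M` centralising `c`
  have hCM : ∀ m ∈ M, Commute c m → ∃ j : ℤ, m = c ^ j ∨ m = s * c ^ j := fun m hm hcm => by
    refine hnorm hm ?_
    rw [← hcm.eq, mul_inv_cancel_right]
    exact mem_zpowers c
  -- involutions of `C` in a 2-group with `s`
  have hinv : ∀ e : G, e ∈ C → Commute e s → e ^ 2 = 1 → e = 1 ∨ e = s := by
    intro e he hes he2
    obtain ⟨j, hj⟩ := hCM e (hloc s hs hs1 (mem_centralizer_singleton_iff.2 hes.eq))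
      (mem_centralizer_singleton_iff.1 he).symm
    have key : (c ^ j) ^ 2 = 1 → c ^ j = 1 := by
      intro h2
      refine orderOf_eq_one_iff.1 (Nat.eq_one_of_dvd_coprimes h.coprime_two
        (orderOf_dvd_of_pow_eq_one h2) ?_)
      rw [← hco, ← Nat.card_zpowers c]
      exact Subgroup.orderOf_dvd_natCard _ ⟨j, rfl⟩
    rcases hj with rfl | rfl
    · exact Or.inl (key he2)
    · rw [(hsc.zpow_right j).mul_pow, h.sq_mem S hs, one_mul] at he2
      rw [key he2, mul_one]
      exact Or.inr rfl
  obtain ⟨E, hE⟩ := (IsPGroup.of_card (p := 2) (n := 1) (G := zpowers (⟨s, hsC⟩ : C))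
    (by rw [Nat.card_zpowers, Subgroup.orderOf_mk, hso, pow_one])).exists_le_sylow
  have hsE : (⟨s, hsC⟩ : C) ∈ (E : Subgroup C) := hE (mem_zpowers _)
  have hEeq : (E : Subgroup C) = zpowers (⟨s, hsC⟩ : C) := by
    refine le_antisymm (fun e he => ?_) (zpowers_le.2 hsE)
    obtain ⟨Q, hQ'⟩ := (E.2.map C.subtype).exists_le_sylow
    have he' : (e : G) ∈ (Q : Subgroup G) := hQ' (mem_map_of_mem C.subtype he)
    rcases hinv e e.2 (h.commute_mem Q he' (hQ' (mem_map_of_mem C.subtype hsE)))
      (h.sq_mem Q he') with h1 | h1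
    · rw [show e = 1 from Subtype.ext h1]; exact one_mem _
    · rw [show e = ⟨s, hsC⟩ from Subtype.ext h1]; exact mem_zpowers _
  have hEcard : ∀ E' : Sylow 2 C, Nat.card (E' : Subgroup C) = 2 := fun E' => by
    rw [E'.card_eq_multiplicity, ← E.card_eq_multiplicity, hEeq, Nat.card_zpowers,
      Subgroup.orderOf_mk, hso]
  have h4C : ∀ Y : Subgroup G, Y ≤ C → ¬ 4 ∣ Nat.card Y := by
    intro Y hY h4
    have h4' : 2 ^ 2 ∣ Nat.card C := by simpa using h4.trans (card_dvd_of_le hY)
    have := E.pow_dvd_card_of_pow_dvd_card h4'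
    rw [hEcard] at this
    norm_num at this
  -- `N(⟨c⟩) = C(c)`
  have hN : normalizer (zpowers c : Set G) ≤ C := by
    intro g hg
    have hgc : g⁻¹ * c * g ∈ zpowers c := by
      simpa using (mem_normalizer_iff.1 (inv_mem hg) c).1 (mem_zpowers c)
    have hs'C : g * s * g⁻¹ ∈ C := by
      obtain ⟨i, hi⟩ := mem_zpowers_iff.1 hgc
      have h1 : Commute s (g⁻¹ * c * g) := hi ▸ hsc.zpow_right i
      rw [hCdef, mem_centralizer_singleton_iff]
      calc g * s * g⁻¹ * c = g * (s * (g⁻¹ * c * g)) * g⁻¹ := by group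
        _ = g * ((g⁻¹ * c * g) * s) * g⁻¹ := by rw [h1.eq]
        _ = c * (g * s * g⁻¹) := by group
    have ho : orderOf (g * s * g⁻¹) = 2 := ((MulAut.conj g).orderOf_eq s).trans hso
    obtain ⟨E', hE'⟩ := (IsPGroup.of_card (p := 2) (n := 1)
      (G := zpowers (⟨g * s * g⁻¹, hs'C⟩ : C))
      (by rw [Nat.card_zpowers, Subgroup.orderOf_mk, ho, pow_one])).exists_le_sylow
    obtain ⟨y, hy⟩ := MulAction.exists_smul_eq C E' E
    have hmem : y * ⟨g * s * g⁻¹, hs'C⟩ * y⁻¹ ∈ (E : Subgroup C) := by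
      rw [← hy, Sylow.coe_subgroup_smul]
      exact ⟨_, hE' (mem_zpowers _), rfl⟩
    rw [hEeq] at hmem
    have hys : (y : G) * (g * s * g⁻¹) * (y : G)⁻¹ = s := by
      obtain ⟨i, hi⟩ := mem_zpowers_iff.1 hmem
      have hi' : s ^ i = (y : G) * (g * s * g⁻¹) * (y : G)⁻¹ := by
        simpa using congrArg Subtype.val hi
      have hne : s ^ i ≠ 1 := by
        rw [hi', Ne, conj_eq_one_iff, conj_eq_one_iff]
        exact hs1
      rw [← hi']
      rcases Int.even_or_odd i with ⟨k, rfl⟩ | ⟨k, rfl⟩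
      · exact absurd (by rw [← two_mul, zpow_mul, zpow_two, ← pow_two, h.sq_mem S hs, one_zpow]) hne
      · rw [zpow_add, zpow_mul, zpow_two, ← pow_two, h.sq_mem S hs, one_zpow, one_mul, zpow_one]
    have hygs : Commute ((y : G) * g) s := by
      refine mul_inv_eq_iff_eq_mul.1 ?_
      calc (y : G) * g * s * ((y : G) * g)⁻¹ = (y : G) * (g * s * g⁻¹) * (y : G)⁻¹ := by group
        _ = s := hys
    have hyc : Commute c (y : G) := (mem_centralizer_singleton_iff.1 y.2).symm
    obtain ⟨j, hj⟩ := hnorm (hloc s hs hs1 (mem_centralizer_singleton_iff.2 hygs.eq)) (by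
      obtain ⟨i, hi⟩ := mem_zpowers_iff.1
        ((mem_normalizer_iff.1 hg c).1 (mem_zpowers c))
      refine ⟨i, ?_⟩
      calc c ^ i = (y : G) * c ^ i * (y : G)⁻¹ := by
            rw [← (hyc.zpow_left i).eq, mul_inv_cancel_right]
        _ = _ := by rw [hi]; group)
    have hygc : (y : G) * g ∈ C := by
      rcases hj with e | e <;> rw [e]
      · exact zpow_mem hcC j
      · exact mul_mem hsC (zpow_mem hcC j)
    simpa using mul_mem (inv_mem y.2) hygc
  -- complements of `S` in `M` through `c`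
  set α : G ⧸ M := ((1 : G) : G ⧸ M) with hα
  have hv : Nat.card (S : Subgroup G) - 1 ≠ 0 := by have := h.four_le S; omega
  have hKS : Nat.card K = Nat.card (S : Subgroup G) := by
    rw [le_antisymm (fun x hx => h.mem_of_mem_centralizer S hloc hW hx) (h.sylow_le_centralizer S)]
  rw [hKS] at hMcard
  set L := (Nat.card (S : Subgroup G) - 1) * r with hLdef
  have huf := CfsgLib.SEmbed.uniqueFix (h.stronglyEmbedded S hloc)
  have hcopS : ∀ X : Subgroup G, Nat.card X = L →
      (Nat.card (S : Subgroup G)).Coprime (Nat.card X) := by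
    intro X hX
    refine h.coprime_card S ?_
    rw [hX, hLdef]
    intro hd
    rcases Nat.prime_two.dvd_mul.1 hd with e | e
    · obtain ⟨n, hn⟩ := S.2.exists_card_eq
      have h4 := h.four_le S
      rw [hn] at e h4
      rcases n with _ | n
      · norm_num at h4
      · rw [pow_succ] at e h4; omega
    · exact h.ne_two ((Nat.prime_dvd_prime_iff_eq Nat.prime_two h.prime).1 e).symm
  -- a fixed point gives a complement
  have hpoint : ∀ p : G ⧸ M, p ≠ α → c • p = p → ∃ X : Subgroup G, X ≤ M ∧ c ∈ X ∧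
      Nat.card X = L ∧ ∀ x ∈ X, x • p = p := by
    intro p hp hcp
    set D' := CfsgLib.SEmbed.pairStab G α p with hD'
    have hD'M : D' ≤ M := fun x hx => (CfsgLib.SEmbed.smul_one_eq_iff M x).1 hx.1
    have hcD' : c ∈ D' := ⟨(CfsgLib.SEmbed.smul_one_eq_iff M c).2 hcM, hcp⟩
    have hodd : ¬ 2 ∣ Nat.card D' := fun hd => by
      have := (CfsgLib.SEmbed.odd_pairStab huf (Ne.symm hp)).of_dvd_nat hd
      exact absurd this (by decide)
    have hmemI : ∀ v : G, v ∈ CfsgLib.SEmbed.invMap (G := G) α α ↔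
        v ∈ (S : Subgroup G) ∧ v ≠ 1 := by
      intro v
      constructor
      · rintro ⟨hvo, hvα⟩
        exact ⟨h.mem_of_sq S ((CfsgLib.SEmbed.smul_one_eq_iff M v).1 hvα)
          (by rw [← hvo, pow_orderOf_eq_one]), fun e => by rw [e, orderOf_one] at hvo; omega⟩
      · rintro ⟨hvS, hv1⟩
        exact ⟨h.orderOf_mem S hvS hv1, (CfsgLib.SEmbed.smul_one_eq_iff M v).2 (le_normalizer hvS)⟩
    -- `D'` is transitive on the involutions of `S`
    have hdvd : Nat.card (S : Subgroup G) - 1 ∣ Nat.card D' := by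
      set St := (centralizer ({s} : Set G)).subgroupOf D'
      have hlift : ∀ a b : D', a⁻¹ * b ∈ St → (a : G) * s * (a : G)⁻¹ = b * s * (b : G)⁻¹ := by
        intro a b hab
        have := mem_centralizer_singleton_iff.1 (mem_subgroupOf.1 hab)
        rw [coe_mul, coe_inv] at this
        calc (a : G) * s * (a : G)⁻¹ = a * (s * ((a : G)⁻¹ * b)) * (b : G)⁻¹ := by group
          _ = a * (((a : G)⁻¹ * b) * s) * (b : G)⁻¹ := by rw [this]
          _ = _ := by group
      let f : D' ⧸ St → {v : (S : Subgroup G) // v ≠ 1} := Quotient.lift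
        (fun a => ⟨⟨(a : G) * s * (a : G)⁻¹, (mem_normalizer_iff.1 (hD'M a.2) s).1 hs⟩,
          fun e => hs1 (conj_eq_one_iff.1 (congrArg Subtype.val e))⟩)
        (fun a b hab => Subtype.ext (Subtype.ext (hlift a b (QuotientGroup.leftRel_apply.1 hab))))
      have hf : Function.Bijective f := by
        constructor
        · intro a b
          induction a using QuotientGroup.induction_on with | H a => ?_
          induction b using QuotientGroup.induction_on with | H b => ?_
          intro e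
          have e' : (a : G) * s * (a : G)⁻¹ = (b : G) * s * (b : G)⁻¹ :=
            congrArg (fun y : {v : (S : Subgroup G) // v ≠ 1} => ((y.1 : (S : Subgroup G)) : G)) e
          refine QuotientGroup.eq.2 (mem_subgroupOf.2 ?_)
          rw [mem_centralizer_singleton_iff, coe_mul, coe_inv]
          calc (a : G)⁻¹ * b * s = (a : G)⁻¹ * ((b : G) * s * (b : G)⁻¹) * b := by group
            _ = s * ((a : G)⁻¹ * b) := by rw [← e']; group
        · rintro ⟨⟨v, hvS⟩, hv1⟩
          obtain ⟨d, hd, hdv⟩ := CfsgLib.SEmbed.exists_conj_fix huf (Ne.symm hp)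
            ((hmemI s).2 ⟨hs, hs1⟩) ((hmemI v).2 ⟨hvS, fun e => hv1 (Subtype.ext e)⟩)
          exact ⟨QuotientGroup.mk ⟨d, hd⟩, Subtype.ext (Subtype.ext hdv)⟩
      refine Dvd.intro_left (Nat.card St) ?_
      rw [← Subgroup.card_mul_index St, Subgroup.index_eq_card, Nat.card_eq_of_bijective f hf]
      haveI := Fintype.ofFinite (S : Subgroup G)
      congr 1
      rw [Nat.card_eq_fintype_card, Nat.card_eq_fintype_card]
      rw [Fintype.card_subtype_compl, Fintype.card_subtype_eq]
    have hrd : r ∣ Nat.card D' := hco ▸ orderOf_dvd_natCard D' hcD'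
    refine ⟨D', hD'M, hcD', le_antisymm ?_ (Nat.le_of_dvd Nat.card_pos
      (hcop.mul_dvd_of_dvd_of_dvd hdvd hrd)), fun x hx => hx.2⟩
    have hdisj : (S : Subgroup G) ⊓ D' = ⊥ :=
      CfsgLib.Coprime.inf_eq_bot_of_coprime (h.coprime_card S hodd)
    have := card_le_of_le (sup_le (le_normalizer : (S : Subgroup G) ≤ M) hD'M)
    rw [CfsgLib.Coprime.card_sup_eq hD'M hdisj, hMcard] at this
    exact Nat.le_of_mul_le_mul_left this Nat.card_pos
  -- the normaliser of a complement
  have hcomp : ∀ X : Subgroup G, X ≤ M → c ∈ X → Nat.card X = L → ∀ p p' : G ⧸ M,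
      (∀ x ∈ X, x • p = p) → (∀ x ∈ X, x • p' = p') → p ≠ α → p' ≠ α → p = p' := by
    intro X hXM hcX hXL p p' hfp hfp' hp hp'
    by_contra hpp
    -- three points are fixed, each an image of the base under the normaliser
    have hex : ∀ p : G ⧸ M, (∀ x ∈ X, x • p = p) →
        ∃ n ∈ normalizer (X : Set G), (n : G ⧸ M) = p := by
      intro p hfp
      obtain ⟨k, rfl⟩ := QuotientGroup.mk_surjective p
      have hXk : X.map (MulAut.conj k⁻¹).toMonoidHom ≤ M := by
        rintro _ ⟨x, hx, rfl⟩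
        have := (CfsgLib.SEmbed.smul_mk_eq_iff M x k).1 (hfp x hx)
        simpa [mul_assoc] using this
      have hcard' : Nat.card (X.map (MulAut.conj k⁻¹).toMonoidHom) = Nat.card X :=
        card_map_of_injective (MulAut.conj k⁻¹).injective
      obtain ⟨σ, hσ, he, -⟩ := h.exists_conj_of_complements S hloc (c := c) hXk hXM hcard'.symm
        (by rw [hcard']; exact hcopS X hXL) (by rw [hcard', hXL, hMcard])
      refine ⟨k * σ⁻¹, ?_, ?_⟩
      · have h1 : X.map (MulAut.conj (σ * k⁻¹)).toMonoidHom = X := by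
          rw [← CfsgLib.Transfer.map_conj_map_conj, he]
        have := inv_mem (CfsgLib.Transfer.mem_normalizer_of_map_conj_eq h1)
        simpa using this
      · rw [QuotientGroup.eq]
        simpa using le_normalizer hσ
    -- the normaliser is `X` times a subgroup of `C` of order at most `2r`
    set N := normalizer (X : Set G) with hN'
    set Y := C ⊓ N with hY
    have hcover : ∀ n ∈ N, ∃ x ∈ X, ∃ y ∈ Y, n = x * y := by
      intro n hn
      have hcn : n * c * n⁻¹ ∈ X := (mem_normalizer_iff.1 hn c).1 hcX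
      have hzr : ∀ z : G, ∀ hz : z ∈ X, orderOf z = r →
          IsPGroup r (zpowers (⟨z, hz⟩ : X)) := fun z hz hzo =>
        IsPGroup.of_card (n := 1) (by rw [Nat.card_zpowers, Subgroup.orderOf_mk, hzo, pow_one])
      obtain ⟨P, hP⟩ := (hzr c hcX hco).exists_le_sylow
      obtain ⟨P', hP'⟩ :=
        (hzr _ hcn (((MulAut.conj n).orderOf_eq c).trans hco)).exists_le_sylow
      obtain ⟨y, hy⟩ := MulAction.exists_smul_eq X P' P
      have hPc : (P : Subgroup X) = zpowers (⟨c, hcX⟩ : X) := by
        refine (eq_of_le_of_card_ge hP ?_).symm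
        rw [Nat.card_zpowers, Subgroup.orderOf_mk, hco]
        obtain ⟨k, hk⟩ := P.2.exists_card_eq
        have hd : Nat.card (P : Subgroup X) ∣ L := hXL ▸ card_subgroup_dvd_card _
        rw [hk] at hd ⊢
        rcases Nat.lt_or_ge k 2 with hk2 | hk2
        · calc r ^ k ≤ r ^ 1 := Nat.pow_le_pow_right h.prime.pos (by omega)
            _ = r := pow_one r
        · exfalso
          have h2 := (pow_dvd_pow r hk2).trans hd
          rw [pow_two, hLdef] at h2
          exact (h.prime.coprime_iff_not_dvd.1 hcop.symm)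
            (Nat.dvd_of_mul_dvd_mul_right h.prime.pos h2)
      have hmem : y * ⟨n * c * n⁻¹, hcn⟩ * y⁻¹ ∈ (P : Subgroup X) := by
        rw [← hy, Sylow.coe_subgroup_smul]
        exact ⟨_, hP' (mem_zpowers _), rfl⟩
      rw [hPc] at hmem
      obtain ⟨i, hi⟩ := mem_zpowers_iff.1 hmem
      have hi' : c ^ i = (y : G) * n * c * ((y : G) * n)⁻¹ := by
        have := congrArg Subtype.val hi
        simp only [SubgroupClass.coe_zpow, coe_mul, coe_inv] at this
        rw [this]; group
      refine ⟨(y : G)⁻¹, inv_mem y.2, (y : G) * n, Subgroup.mem_inf.2 ⟨hN ?_,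
        mul_mem (le_normalizer y.2) hn⟩, by group⟩
      refine CfsgLib.Transfer.mem_normalizer_of_map_conj_eq (eq_of_le_of_card_ge ?_
        (card_map_of_injective (MulAut.conj ((y : G) * n)).injective).ge)
      rw [MonoidHom.map_zpowers, zpowers_le]
      exact ⟨i, hi'⟩
    -- the order of `Y`
    have hY2r : ∀ x ∈ Y, x ^ (2 * r) = 1 := fun x hx =>
      h.pow_two_r_of_commute_r hco (mem_centralizer_singleton_iff.1 hx.1).symm
    obtain ⟨z₀, hz₀⟩ := (haveI := Fact.mk hq;
      exists_prime_orderOf_dvd_card' (G := X) q (hXL ▸ hqd))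
    set z : G := (z₀ : G) with hzdef
    have hzo : orderOf z = q := by rw [hzdef, Subgroup.orderOf_coe, hz₀]
    have hXK : X ⊓ K = ⊥ := by
      rw [le_antisymm (fun x hx => h.mem_of_mem_centralizer S hloc hW hx)
        (h.sylow_le_centralizer S), inf_comm]
      exact CfsgLib.Coprime.inf_eq_bot_of_coprime (hcopS X hXL)
    have hq2 : q ≠ 2 := by
      rintro rfl
      have := (hcopS X hXL)
      obtain ⟨n, hn⟩ := S.2.exists_card_eq
      have h4 := h.four_le S
      rw [hn] at this h4
      rcases n with _ | n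
      · norm_num at h4
      · have h2X : 2 ∣ Nat.card X := hXL ▸ hqd
        exact absurd (Nat.eq_one_of_dvd_coprimes this (dvd_pow_self 2 (Nat.succ_ne_zero n)) h2X)
          (by norm_num)
    have hYr : ∀ R : Subgroup G, R ≤ Y → IsPGroup r R → Nat.card R ≤ r := by
      intro R hR hRp
      refine card_le_of_faithful_prime R hq hzo ?_ (fun x hx hxz => ?_)
        (fun x hx => h.pow_r_of_mem_r_group hRp hx) h.prime.pos
      · intro x hx
        have hxN : x ∈ N := (hR hx).2
        refine CfsgLib.Transfer.mem_normalizer_of_map_conj_eq (eq_of_le_of_card_ge ?_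
          (card_map_of_injective (MulAut.conj x).injective).ge)
        rw [MonoidHom.map_zpowers, zpowers_le]
        exact hQ X hXM hXK _ ((mem_normalizer_iff.1 hxN z).1 z₀.2) z z₀.2
          (((MulAut.conj x).orderOf_eq z).trans hzo) hzo
      · by_contra hx1
        have := h.sq_of_commute_r (orderOf_eq_prime (h.pow_r_of_mem_r_group hRp hx) hx1) hxz
          (by rw [hzo]; exact fun hd => hqr ((Nat.prime_dvd_prime_iff_eq h.prime hq).1 hd).symm)
        rw [← orderOf_dvd_iff_pow_eq_one, hzo] at this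
        exact hq2 ((Nat.prime_dvd_prime_iff_eq hq Nat.prime_two).1 this)
    have hYcard : Nat.card Y ≤ 2 * r := by
      refine Nat.le_of_dvd (by have := h.prime.pos; omega) ?_
      rw [Nat.dvd_iff_prime_pow_dvd_dvd]
      intro d k hd hdk
      rcases Nat.eq_zero_or_pos k with rfl | hk
      · simp
      haveI := Fact.mk hd
      obtain ⟨P⟩ : Nonempty (Sylow d Y) := inferInstance
      have hP := P.pow_dvd_card_of_pow_dvd_card hdk
      rcases h.prime_dvd_of_pow hY2r hd ((dvd_pow_self d hk.ne').trans hdk) with rfl | rfl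
      · have : k = 1 := by
          by_contra hk1
          exact h4C Y inf_le_left ((pow_dvd_pow 2 (show 2 ≤ k by omega)).trans hdk)
        subst this
        exact dvd_mul_right 2 _
      · have h1 := hYr ((P : Subgroup Y).map Y.subtype) (map_subtype_le _) (P.2.map _)
        rw [card_map_of_injective Y.subtype_injective] at h1
        have h2 := (Nat.le_of_dvd Nat.card_pos hP).trans h1
        have : k = 1 := by
          by_contra hk1
          have : d ^ 2 ≤ d ^ k := Nat.pow_le_pow_right hd.pos (by omega)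
          nlinarith [hd.two_le]
        subst this
        rw [pow_one]
        exact dvd_mul_left d 2
    -- at most two cosets of `M` meet `N`
    have hindex : Nat.card (Y ⧸ (zpowers c).subgroupOf Y) ≤ 2 := by
      have hcY : zpowers c ≤ Y := zpowers_le.2 ⟨hcC, le_normalizer hcX⟩
      have h1 := Subgroup.card_mul_index ((zpowers c).subgroupOf Y)
      rw [Nat.card_congr (subgroupOfEquivOfLe hcY).toEquiv, Nat.card_zpowers, hco,
        Subgroup.index_eq_card] at h1
      nlinarith [h.prime.pos]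
    have hlift : ∀ a b : Y, a⁻¹ * b ∈ (zpowers c).subgroupOf Y →
        ((a : G) : G ⧸ M) = ((b : G) : G ⧸ M) := by
      intro a b hab
      refine QuotientGroup.eq.2 ?_
      have hm : (a : G)⁻¹ * (b : G) ∈ zpowers c := by simpa using mem_subgroupOf.1 hab
      exact (zpowers_le.2 hcM) hm
    let F : Y ⧸ (zpowers c).subgroupOf Y → G ⧸ M := Quotient.lift
      (fun a => ((a : G) : G ⧸ M)) (fun a b hab => hlift a b (QuotientGroup.leftRel_apply.1 hab))
    haveI := Fintype.ofFinite (G ⧸ M)
    haveI := Fintype.ofFinite (Y ⧸ (zpowers c).subgroupOf Y)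
    have hsurj : ∀ p : G ⧸ M, (∀ x ∈ X, x • p = p) → p ∈ Finset.univ.image F := by
      intro p hfp
      obtain ⟨n, hn, rfl⟩ := hex p hfp
      obtain ⟨x, hx, y, hy, rfl⟩ := hcover n hn
      refine Finset.mem_image.2 ⟨QuotientGroup.mk ⟨y, hy⟩, Finset.mem_univ _, ?_⟩
      show ((y : G) : G ⧸ M) = _
      rw [QuotientGroup.eq]
      have hyN : y ∈ N := (Subgroup.mem_inf.1 hy).2
      have := (mem_normalizer_iff.1 (inv_mem hyN) x).1 hx
      rw [inv_inv] at this
      simpa [mul_assoc] using hXM this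
    have hfα : ∀ x ∈ X, x • α = α := fun x hx => (CfsgLib.SEmbed.smul_one_eq_iff M x).2 (hXM hx)
    have hsub : ({α, p, p'} : Finset (G ⧸ M)) ⊆ Finset.univ.image F := by
      intro a ha
      simp only [Finset.mem_insert, Finset.mem_singleton] at ha
      rcases ha with rfl | rfl | rfl
      · exact hsurj _ hfα
      · exact hsurj _ hfp
      · exact hsurj _ hfp'
    have h3 := (Finset.card_le_card hsub).trans Finset.card_image_le
    rw [Finset.card_univ, ← Nat.card_eq_fintype_card, Finset.card_insert_of_notMem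
      (by simp [Ne.symm hp, Ne.symm hp']), Finset.card_pair hpp] at h3
    omega
  -- at most three points are fixed by `c`
  haveI := Fintype.ofFinite (G ⧸ M)
  haveI := Fintype.ofFinite (C ⧸ (M).subgroupOf C)
  set Fx : Finset (G ⧸ M) := Finset.univ.filter fun p => c • p = p
  have hFx : Fx.card ≤ 3 := by
    have hαF : α ∈ Fx := Finset.mem_filter.2
      ⟨Finset.mem_univ _, (CfsgLib.SEmbed.smul_one_eq_iff M c).2 hcM⟩
    rw [← Finset.card_erase_add_one hαF]
    refine Nat.succ_le_succ ?_
    by_contra hlt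
    obtain ⟨a, ha, b, hb, d, hd, hab, had, hbd⟩ := Finset.two_lt_card.1 (not_le.1 hlt)
    simp only [Fx, Finset.mem_erase, Finset.mem_filter, Finset.mem_univ, true_and] at ha hb hd
    obtain ⟨Xa, hXaM, hcXa, hXaL, hfa⟩ := hpoint a ha.1 ha.2
    obtain ⟨Xb, hXbM, hcXb, hXbL, hfb⟩ := hpoint b hb.1 hb.2
    obtain ⟨Xd, hXdM, hcXd, hXdL, hfd⟩ := hpoint d hd.1 hd.2
    have htwo : ∀ X : Subgroup G, X ≤ M → c ∈ X → Nat.card X = L →
        X = Xa ∨ X = Xa.map (MulAut.conj s).toMonoidHom := by
      intro X hXM hcX hXL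
      obtain ⟨σ, hσ, he, hcσ⟩ := h.exists_conj_of_complements S hloc (c := c) hXaM hXM
        (hXL.trans hXaL.symm) (hcopS Xa hXaL) (by rw [hXaL, hMcard])
      rcases huniq σ hσ (hcσ hcXa hcX) with rfl | rfl
      · left
        rw [← he]
        ext x
        simp
      · exact Or.inr he.symm
    rcases htwo Xb hXbM hcXb hXbL with eb | eb
    · exact hab (hcomp Xa hXaM hcXa hXaL a b hfa (eb ▸ hfb) ha.1 hb.1)
    · rcases htwo Xd hXdM hcXd hXdL with ed | ed
      · exact had (hcomp Xa hXaM hcXa hXaL a d hfa (ed ▸ hfd) ha.1 hd.1)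
      · exact hbd (hcomp Xb hXbM hcXb hXbL b d hfb (eb ▸ ed ▸ hfd) hb.1 hd.1)
  -- the index of `C ∩ M` in `C`
  have hindex : Nat.card (C ⧸ (M).subgroupOf C) ≤ 3 := by
    have hlift : ∀ a b : C, a⁻¹ * b ∈ (M).subgroupOf C →
        ((a : G) : G ⧸ M) = ((b : G) : G ⧸ M) := fun a b hab =>
      QuotientGroup.eq.2 (by simpa using mem_subgroupOf.1 hab)
    let F : C ⧸ (M).subgroupOf C → G ⧸ M := Quotient.lift
      (fun a => ((a : G) : G ⧸ M)) (fun a b hab => hlift a b (QuotientGroup.leftRel_apply.1 hab))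
    refine le_trans ?_ hFx
    rw [Nat.card_eq_fintype_card, ← Finset.card_univ]
    refine Finset.card_le_card_of_injOn F (fun a _ => ?_) (fun a _ b _ e => ?_)
    · induction a using QuotientGroup.induction_on with | H a => ?_
      refine Finset.mem_coe.2 (Finset.mem_filter.2 ⟨Finset.mem_univ _, ?_⟩)
      show c • ((a : G) : G ⧸ M) = ((a : G) : G ⧸ M)
      rw [CfsgLib.SEmbed.smul_mk_eq_iff, mul_assoc, ← mem_centralizer_singleton_iff.1 a.2,
        inv_mul_cancel_left]
      exact hcM
    · induction a using QuotientGroup.induction_on with | H a => ?_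
      induction b using QuotientGroup.induction_on with | H b => ?_
      have e' : ((a : G) : G ⧸ M) = ((b : G) : G ⧸ M) := e
      exact QuotientGroup.eq.2 (mem_subgroupOf.2 (by simpa using QuotientGroup.eq.1 e'))
  have hCMcard : Nat.card ((M).subgroupOf C) = 2 * r := by
    have e : (M).subgroupOf C = zpowers (⟨s * c, mul_mem hsC hcC⟩ : C) := by
      refine le_antisymm (fun m hm => ?_) (zpowers_le.2 (mem_subgroupOf.2
        (mul_mem (le_normalizer hs) hcM)))
      obtain ⟨j, hj⟩ := hCM (m : G) (mem_subgroupOf.1 hm) (mem_centralizer_singleton_iff.1 m.2).symm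
      have hgen : ∀ x : G, x ∈ zpowers (s * c) → ∀ hx : x ∈ C,
          (⟨x, hx⟩ : C) ∈ zpowers (⟨s * c, mul_mem hsC hcC⟩ : C) := by
        intro x hx hxC
        obtain ⟨i, rfl⟩ := mem_zpowers_iff.1 hx
        exact ⟨i, Subtype.ext (by simp)⟩
      refine hgen _ ?_ m.2
      have hs' : s ∈ zpowers (s * c) := by
        refine ⟨(r : ℤ), ?_⟩
        show (s * c) ^ (r : ℤ) = s
        rw [zpow_natCast, hsc.mul_pow, hcr, mul_one]
        obtain ⟨k, hk⟩ := h.r_odd
        rw [hk, pow_succ, pow_mul, h.sq_mem S hs, one_pow, one_mul]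
      have hc' : c ∈ zpowers (s * c) := by
        have := mul_mem (inv_mem hs') (mem_zpowers (s * c))
        simpa using this
      rcases hj with e | e <;> rw [e]
      · exact zpow_mem hc' j
      · exact mul_mem hs' (zpow_mem hc' j)
    rw [e, Nat.card_zpowers, Subgroup.orderOf_mk, hsc.orderOf_mul_eq_mul_orderOf_of_coprime
      (by rw [hso, hco]; exact h.coprime_two), hso, hco]
  have hCcard := Subgroup.card_mul_index ((M).subgroupOf C)
  rw [hCMcard, Subgroup.index_eq_card] at hCcard
  have hpos : 0 < Nat.card (C ⧸ (M).subgroupOf C) := Nat.card_pos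
  generalize hk : Nat.card (C ⧸ (M).subgroupOf C) = k at hindex hCcard hpos
  obtain rfl | rfl | rfl : k = 1 ∨ k = 2 ∨ k = 3 := by omega
  · -- `⟨c⟩` would be a Sylow subgroup with central normaliser
    obtain ⟨P, hP⟩ := (IsPGroup.of_card (p := r) (n := 1) (G := zpowers c)
      (by rw [Nat.card_zpowers, hco, pow_one])).exists_le_sylow
    have hPc : (P : Subgroup G) = zpowers c := by
      by_contra hne
      refine CfsgLib.Transitivity.lt_inf_normalizer P.2 hP (fun e => hne e.symm) (fun x hx => ?_)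
      obtain ⟨hx1, hx2⟩ := Subgroup.mem_inf.1 hx
      have hxC := hN hx1
      set Y := normalizer (zpowers c : Set G) ⊓ (P : Subgroup G) with hYdef
      have hYC : Y ≤ C := inf_le_left.trans hN
      obtain ⟨j, hj⟩ := (P.2.to_le (inf_le_right : Y ≤ _)).exists_card_eq
      have hd : Nat.card Y ∣ 2 * r := by
        have := card_dvd_of_le hYC
        rwa [← hCcard, mul_one] at this
      have hle : zpowers c ≤ Y := le_inf le_normalizer hP
      have heq : zpowers c = Y := by
        refine eq_of_le_of_card_ge hle ?_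
        rw [Nat.card_zpowers, hco]
        refine Nat.le_of_dvd h.prime.pos ((Nat.Coprime.dvd_of_dvd_mul_left ?_) hd)
        rw [hj]
        exact h.coprime_two.symm.pow_left j
      rw [heq]
      exact hx
    refine CfsgLib.Small.not_normalizer_le_centralizer h.noncomm h.r_dvd_card P (fun x hx => ?_)
    rw [hPc] at hx ⊢
    rw [mem_centralizer_iff]
    rintro _ ⟨i, rfl⟩
    exact (show Commute c x from (mem_centralizer_singleton_iff.1 (hN hx)).symm).zpow_left i
  · exact h4C C le_rfl ⟨r, by rw [← hCcard]; ring⟩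
  · have hr3 : r = 3 := by
      rcases h.prime_dvd_of_pow (h.pow_centralizer_r hco) Nat.prime_three
        (by rw [← hCdef, ← hCcard]; exact dvd_mul_left 3 _) with e | e
      · omega
      · exact e.symm
    subst hr3
    refine Hyp.false_of_eighteen h hco hso hsc.symm (by rw [← hCdef, ← hCcard]) hN ?_
    intro R hR hcR x hx hxs
    have hxM : x ∈ M := hloc s hs hs1 (mem_centralizer_singleton_iff.2 hxs.eq)
    obtain ⟨i, hi⟩ := D.in_cyclic (R ⊓ M) inf_le_right (hR.to_le inf_le_left) c ⟨hcR, hcM⟩ hcK x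
      ⟨hx, hxM⟩
    have h1 := h.sq_mem S (h.mem_of_mem_centralizer S hloc hW hi)
    have h2 := h.pow_r_of_mem_r_group hR (mul_mem hx (inv_mem (zpow_mem hcR i)))
    have h3 : x * (c ^ i)⁻¹ = 1 := orderOf_eq_one_iff.1 (Nat.eq_one_of_dvd_coprimes h.coprime_two
      (orderOf_dvd_of_pow_eq_one h1) (orderOf_dvd_of_pow_eq_one h2))
    exact ⟨i, (mul_inv_eq_one.1 h3).symm⟩

/-- The strongly embedded case is impossible. -/
theorem false_of_localsIn : False := by
  rcases h.trichotomy S hloc with hK | D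
  · exact h.false_of_forall_mem S hloc hK
  · by_cases hW : ∀ w ∈ K, orderOf w ≠ r
    · exact h.false_of_count S hloc D hW
    · push Not at hW
      obtain ⟨w, hw, hwo⟩ := hW
      exact h.false_of_mem_centralizer S hloc D hw hwo

end Hyp

end CfsgLib.OneComposite
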