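import Cfsg.Agent.OneComposite.Embedded
import Cfsg.Agent.Transitivity.Transitivity
import Cfsg.Agent.S4216

/-!
# The strongly embedded case with a nontrivial odd part of `C(S)`

No `r`-element outside `C(S)` in `N(S)` is conjugate into `C(S)`, so Grün's theorem gives a
contradiction when `C(S)` contains an element of order `r`.
-/

set_option autoImplicit false
set_option linter.unusedSectionVars false
set_option linter.style.haveILetI false

namespace CfsgLib.OneComposite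

open Subgroup
open scoped commutatorElement

universe u

namespace Hyp

variable {G : Type u} [Group G] [Finite G] {r : ℕ}
variable (h : Hyp G r) (S : Sylow 2 G) (hloc : LocalsIn S)
include h hloc

local notation "M" => normalizer ((S : Subgroup G) : Set G)
local notation "K" => centralizer ((S : Subgroup G) : Set G)

theorem conj_mem_centralizer {m x : G} (hm : m ∈ M) (hx : x ∈ K) : m * x * m⁻¹ ∈ K := by
  rw [← h.normalizer_centralizer S hloc] at hm
  exact (mem_normalizer_iff.1 hm x).1 hx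

/-- An element conjugating an `r`-element of `C(S)` into `C(S)` normalises `S`. -/
theorem mem_normalizer_of_conj_mem {w g : G} (hw : w ∈ K) (hwo : orderOf w = r)
    (hg : g * w * g⁻¹ ∈ K) : g ∈ M := by
  obtain ⟨t, ht, ht1⟩ := h.exists_invol S
  refine h.mem_of_conj S hloc ht ht1 (h.centralizer_r_le S hloc hg
    (((MulAut.conj g).orderOf_eq w).trans hwo) ?_)
  rw [mem_centralizer_singleton_iff, conj_mul, conj_mul, mem_centralizer_iff.1 hw t ht]

/-- An `r`-element of `N(S)` conjugate into `C(S)` lies in `C(S)`. -/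
theorem mem_centralizer_of_conj (D : ImageData S r) {x g : G} (hx : x ∈ M) (hxr : x ^ r = 1)
    (hg : g⁻¹ * x * g ∈ K) : x ∈ K := by
  classical
  haveI := Fact.mk h.prime
  by_contra hxK
  have hx1 : x ≠ 1 := fun e => hxK (e ▸ one_mem _)
  have hxo : orderOf x = r := orderOf_eq_prime hxr hx1
  have hgM : g ∉ M := fun hgM => hxK (by
    simpa [mul_assoc] using h.conj_mem_centralizer S hloc hgM hg)
  have hgko : orderOf (g⁻¹ * x * g) = r := by
    have := (MulAut.conj g⁻¹).orderOf_eq x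
    simpa [hxo] using this
  -- in the second case `x` fixes a point of `S`
  rcases D.cases with hA | ⟨hB, -⟩
  swap
  · obtain ⟨s, hs, hs1, hxs, -⟩ := hB x hx hxo hxK
    refine hgM ?_
    have hmem : g⁻¹ * s * g⁻¹⁻¹ ∈ M := h.centralizer_r_le S hloc hg hgko (by
      rw [mem_centralizer_singleton_iff]
      calc g⁻¹ * s * g⁻¹⁻¹ * (g⁻¹ * x * g) = g⁻¹ * (s * x) * g := by group
        _ = g⁻¹ * (x * s) * g := by rw [hxs.eq]
        _ = _ := by group)
    simpa using inv_mem (h.mem_of_conj S hloc hs hs1 hmem)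
  have huf := CfsgLib.SEmbed.uniqueFix (h.stronglyEmbedded S hloc)
  obtain ⟨t, ht, ht1⟩ := h.exists_invol S
  have hto := h.orderOf_mem S ht ht1
  set α : G ⧸ M := ((1 : G) : G ⧸ M) with hα
  set β : G ⧸ M := ((g : G) : G ⧸ M) with hβ
  have hαβ : α ≠ β := fun e => hgM (by simpa using QuotientGroup.eq.1 e)
  have hgt : (g * t * g⁻¹) • β = β :=
    (CfsgLib.SEmbed.smul_mk_eq_iff M _ g).2 (by simpa [mul_assoc] using le_normalizer ht)
  obtain ⟨u, ⟨huo, huαβ⟩, -⟩ := CfsgLib.SEmbed.exists_interchange huf hto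
    (((MulAut.conj g).orderOf_eq t).trans hto : orderOf (g * t * g⁻¹) = 2)
    ((CfsgLib.SEmbed.smul_one_eq_iff M t).2 (le_normalizer ht)) hgt hαβ
  have huu := CfsgLib.Small.mul_self_of_orderOf_two huo
  have hui : u⁻¹ = u := inv_eq_of_mul_eq_one_right huu
  have hum : g⁻¹ * u ∈ M := by
    rw [CfsgLib.SEmbed.smul_mk_one, hβ, eq_comm, QuotientGroup.eq] at huαβ
    exact huαβ
  set a := u * x * u with ha
  have haK : a ∈ K := by
    have e : a = (g⁻¹ * u)⁻¹ * (g⁻¹ * x * g) * (g⁻¹ * u)⁻¹⁻¹ := by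
      rw [ha]
      conv_lhs => arg 1; arg 1; rw [← hui]
      group
    rw [e]
    exact h.conj_mem_centralizer S hloc (inv_mem hum) hg
  have haM : a ∈ M := centralizer_le_normalizer _ haK
  have hxα : x • α = α := (CfsgLib.SEmbed.smul_one_eq_iff M x).2 hx
  have hxβ : x • β = β :=
    (CfsgLib.SEmbed.smul_mk_eq_iff M x g).2 (centralizer_le_normalizer _ hg)
  have haα : a • α = α := (CfsgLib.SEmbed.smul_one_eq_iff M a).2 haM
  have haβ : a • β = β := by
    rw [ha, mul_smul, mul_smul, CfsgLib.SEmbed.smul_back huo huαβ, hxα, huαβ]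
  have hgaM : g⁻¹ * a * g ∈ M := (CfsgLib.SEmbed.smul_mk_eq_iff M a g).1 haβ
  -- `a` and `x` commute
  have hcomm : Commute a x := by
    set z := a * x * a⁻¹ * x⁻¹ with hz
    by_contra hne
    have hz1 : z ≠ 1 := by
      rw [hz, Ne, mul_inv_eq_one, mul_inv_eq_iff_eq_mul]
      exact hne
    have hzK : z ∈ K := by
      rw [hz, show a * x * a⁻¹ * x⁻¹ = a * (x * a⁻¹ * x⁻¹) by group]
      exact mul_mem haK (h.conj_mem_centralizer S hloc hx (inv_mem haK))
    have hzgK : g⁻¹ * z * g ∈ K := by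
      rw [hz, show g⁻¹ * (a * x * a⁻¹ * x⁻¹) * g =
        (g⁻¹ * a * g) * (g⁻¹ * x * g) * (g⁻¹ * a * g)⁻¹ * (g⁻¹ * x * g)⁻¹ by group]
      exact mul_mem (h.conj_mem_centralizer S hloc hgaM hg) (inv_mem hg)
    have hzmem : z ∈ CfsgLib.SEmbed.pairStab G α β := by
      have h1 : a ∈ CfsgLib.SEmbed.pairStab G α β := ⟨haα, haβ⟩
      have h2 : x ∈ CfsgLib.SEmbed.pairStab G α β := ⟨hxα, hxβ⟩
      exact mul_mem (mul_mem (mul_mem h1 h2) (inv_mem h1)) (inv_mem h2)
    have hzodd : Odd (orderOf z) :=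
      (CfsgLib.SEmbed.odd_pairStab huf hαβ).of_dvd_nat (orderOf_dvd_natCard _ hzmem)
    have hzr : orderOf z = r := orderOf_eq_prime
      (h.pow_r_of_commute_invol hto (mem_centralizer_iff.1 hzK t ht) hzodd) hz1
    refine hgM (h.mem_normalizer_of_conj_mem S hloc (w := g⁻¹ * z * g) hzgK ?_ ?_)
    · have := (MulAut.conj g⁻¹).orderOf_eq z
      simpa [hzr] using this
    · simpa [mul_assoc] using hzK
  set y := a * x with hy
  have hyu : Commute u y := by
    show u * (a * x) = a * x * u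
    rw [hcomm.eq]
    calc u * (x * a) = u * x * u * x * u := by rw [ha]; group
      _ = a * x * u := by rw [ha]
      _ = x * a * u := by rw [hcomm.eq]
  have hyK : y ∉ K := fun hm => hxK (by simpa [hy] using mul_mem (inv_mem haK) hm)
  have har : a ^ r = 1 := by
    have h1 : a ^ r = u * x ^ r * u⁻¹ := by
      rw [← conj_pow, hui, ← ha]
    rw [h1, hxr, mul_one, mul_inv_cancel]
  have hyr : y ^ r = 1 := by rw [hy, hcomm.mul_pow, har, hxr, one_mul]
  have hyo : orderOf y = r := orderOf_eq_prime hyr fun e => hyK (e ▸ one_mem _)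
  -- the fixed point of `u`
  obtain ⟨p, hp⟩ := huf.exists_fix u huo
  obtain ⟨k, rfl⟩ := QuotientGroup.mk_surjective p
  rw [CfsgLib.SEmbed.smul_mk_eq_iff] at hp
  set s := k⁻¹ * u * k with hs
  have hso : orderOf s = 2 := by
    have := (MulAut.conj k⁻¹).orderOf_eq u
    simpa [huo] using this
  have hsS : s ∈ (S : Subgroup G) := h.mem_of_sq S hp (by rw [← hso, pow_orderOf_eq_one])
  have hs1 : s ≠ 1 := fun e => by rw [e, orderOf_one] at hso; omega
  have hcs : Commute (k⁻¹ * y * k) s := by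
    show k⁻¹ * y * k * (k⁻¹ * u * k) = k⁻¹ * u * k * (k⁻¹ * y * k)
    calc k⁻¹ * y * k * (k⁻¹ * u * k) = k⁻¹ * (y * u) * k := by group
      _ = k⁻¹ * (u * y) * k := by rw [hyu.eq]
      _ = _ := by group
  have hy'M : k⁻¹ * y * k ∈ M := hloc s hsS hs1 (mem_centralizer_singleton_iff.2 hcs.eq)
  have hy'K : k⁻¹ * y * k ∈ K := by_contra fun hne => hA _ hy'M hne s hsS hs1 hcs
  have hy'o : orderOf (k⁻¹ * y * k) = r := by
    have := (MulAut.conj k⁻¹).orderOf_eq y
    simpa [hyo] using this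
  have ha'M : k⁻¹ * a * k ∈ M := h.centralizer_r_le S hloc hy'K hy'o (by
    rw [mem_centralizer_singleton_iff]
    calc k⁻¹ * a * k * (k⁻¹ * y * k) = k⁻¹ * (a * y) * k := by group
      _ = k⁻¹ * (y * a) * k := by
          rw [show Commute a y from hy ▸ (Commute.refl a).mul_right hcomm]
      _ = _ := by group)
  have hS' : k⁻¹ * (a * x⁻¹) * k ∈ (S : Subgroup G) := by
    have e : k⁻¹ * (a * x⁻¹) * k =
        (k⁻¹ * a * k) * s * (k⁻¹ * a * k)⁻¹ * s := by
      have hx' : x⁻¹ = u * a⁻¹ * u := by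
        rw [ha, mul_inv_rev, mul_inv_rev, hui]
        simp only [mul_assoc, huu, mul_one]
        rw [← mul_assoc, huu, one_mul]
      rw [hs, hx']
      group
    rw [e]
    exact mul_mem ((mem_normalizer_iff.1 ha'M s).1 hsS) hsS
  have h2 : (a * x⁻¹) ^ 2 = 1 := by
    have := h.sq_mem S hS'
    rw [show k⁻¹ * (a * x⁻¹) * k = k⁻¹ * (a * x⁻¹) * k⁻¹⁻¹ by rw [inv_inv], conj_pow] at this
    exact conj_eq_one_iff.1 this
  have hr1 : (a * x⁻¹) ^ r = 1 := by
    rw [hcomm.inv_right.mul_pow, inv_pow, har, hxr, inv_one, mul_one]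
  have hax : a * x⁻¹ = 1 := orderOf_eq_one_iff.1 (Nat.eq_one_of_dvd_coprimes h.coprime_two
    (orderOf_dvd_of_pow_eq_one h2) (orderOf_dvd_of_pow_eq_one hr1))
  exact hxK (mul_inv_eq_one.1 hax ▸ haK)

/-- `C(S)` has no element of order `r`. -/
theorem false_of_mem_centralizer (D : ImageData S r) {w : G} (hw : w ∈ K) (hwo : orderOf w = r) :
    False := by
  classical
  haveI := h.isSimple
  haveI := Fact.mk h.prime
  obtain ⟨c, hc, hco, hcK⟩ := D.exists_c
  obtain ⟨T₀⟩ : Nonempty (Sylow r M) := inferInstance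
  set T := (T₀ : Subgroup M).map (M).subtype with hT
  have hTM : T ≤ M := map_subtype_le _
  have hTr : IsPGroup r T := T₀.2.map _
  -- conjugates of `r`-elements of `M` in `T`
  have hinT : ∀ x ∈ M, orderOf x = r → ∃ m ∈ M, m * x * m⁻¹ ∈ T := by
    intro x hx hxo
    obtain ⟨P, hP⟩ := (IsPGroup.of_card (p := r) (n := 1)
      (G := zpowers (⟨x, hx⟩ : M)) (by rw [Nat.card_zpowers, Subgroup.orderOf_mk, hxo,
        pow_one])).exists_le_sylow
    obtain ⟨m, hm⟩ := MulAction.exists_smul_eq M P T₀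
    refine ⟨m, m.2, ⟨m * ⟨x, hx⟩ * m⁻¹, ?_, rfl⟩⟩
    rw [← hm, Sylow.coe_subgroup_smul]
    exact ⟨_, hP (mem_zpowers _), rfl⟩
  obtain ⟨m₁, hm₁, hwT⟩ := hinT w (centralizer_le_normalizer _ hw) hwo
  obtain ⟨m₂, hm₂, hcT⟩ := hinT c hc hco
  set w' := m₁ * w * m₁⁻¹
  set c' := m₂ * c * m₂⁻¹ with hc'
  have hw'K : w' ∈ K := h.conj_mem_centralizer S hloc hm₁ hw
  have hc'K : c' ∉ K := fun hm => hcK (by
    have := h.conj_mem_centralizer S hloc (inv_mem hm₂) hm
    simpa [hc', mul_assoc] using this)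
  have hc'o : orderOf c' = r := ((MulAut.conj m₂).orderOf_eq c).trans hco
  have hw'o : orderOf w' = r := ((MulAut.conj m₁).orderOf_eq w).trans hwo
  -- the normaliser of `T` lies in `M`
  have hNT : normalizer (T : Set G) ≤ M := by
    intro n hn
    have h1 : n * w' * n⁻¹ ∈ T := (mem_normalizer_iff.1 hn w').1 hwT
    refine h.mem_normalizer_of_conj_mem S hloc hw'K hw'o ?_
    exact h.mem_centralizer_of_conj S hloc D (g := n) (hTM h1) (h.pow_r_of_mem_r_group hTr h1)
      (by simpa [mul_assoc] using hw'K)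
  -- `T` is a Sylow subgroup of `G`
  obtain ⟨P, hP⟩ := hTr.exists_le_sylow
  have hPT : (P : Subgroup G) = T := by
    by_contra hne
    refine CfsgLib.Transitivity.lt_inf_normalizer P.2 hP (fun e => hne e.symm) ?_
    have hle : normalizer (T : Set G) ⊓ P ≤ M := inf_le_left.trans hNT
    have hmax := T₀.3 (Q := (normalizer (T : Set G) ⊓ (P : Subgroup G)).subgroupOf M)
      ((P.2.to_le inf_le_right).comap_of_injective (M).subtype (M).subtype_injective)
      (fun x hx => Subgroup.mem_inf.2 ⟨le_normalizer ⟨x, hx, rfl⟩, hP ⟨x, hx, rfl⟩⟩)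
    intro x hx
    exact ⟨⟨x, hle hx⟩, hmax.le (mem_subgroupOf.2 hx), rfl⟩
  have hcomm : ∀ a b : G, a ∈ M → b ∈ M → (∃ i : ℤ, a * (c' ^ i)⁻¹ ∈ K) →
      (∃ j : ℤ, b * (c' ^ j)⁻¹ ∈ K) → ⁅a, b⁆ ∈ K := by
    rintro a b ha hb ⟨i, hi⟩ ⟨j, hj⟩
    let ψ := Subgroup.normalizerMonoidHom (S : Subgroup G)
    have hker : ∀ (m : G) (hm : m ∈ M), ψ ⟨m, hm⟩ = 1 ↔ m ∈ K := fun m hm => by
      rw [← MonoidHom.mem_ker, normalizerMonoidHom_ker, mem_subgroupOf]
    have key : ∀ (x : G) (hx : x ∈ M) (k : ℤ), x * (c' ^ k)⁻¹ ∈ K →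
        ψ ⟨x, hx⟩ = ψ ⟨c', hTM hcT⟩ ^ k := by
      intro x hx k hk
      rw [← map_zpow, ← mul_inv_eq_one, ← map_inv, ← map_mul]
      exact (hker _ (mul_mem hx (inv_mem (zpow_mem (hTM hcT) k)))).2 hk
    refine (hker _ (mul_mem (mul_mem (mul_mem ha hb) (inv_mem ha)) (inv_mem hb))).1 ?_
    show ψ (⟨a, ha⟩ * ⟨b, hb⟩ * ⟨a, ha⟩⁻¹ * ⟨b, hb⟩⁻¹) = 1
    rw [map_mul, map_mul, map_mul, map_inv, map_inv, key a ha i hi, key b hb j hj]
    group
  have hTimg : ∀ x ∈ T, ∃ i : ℤ, x * (c' ^ i)⁻¹ ∈ K := D.in_cyclic T hTM hTr c' hcT hc'K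
  have hNimg : ∀ n ∈ normalizer (T : Set G), ∃ j : ℤ, n * (c' ^ j)⁻¹ ∈ K := fun n hn =>
    D.self_norm c' (hTM hcT) hc'o hc'K n (hNT hn)
      (hTimg _ ((mem_normalizer_iff.1 hn c').1 hcT))
  have htop : commutator G = ⊤ := by
    rcases (inferInstance : (commutator G).Normal).eq_bot_or_eq_top with e | e
    · exact absurd (⟨⟨fun a b => commutatorElement_eq_one_iff_mul_comm.1
        (mem_bot.1 (e ▸ commutator_mem_commutator (mem_top a) (mem_top b)))⟩⟩ :
        IsMulCommutative G) h.noncomm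
    · exact e
  have hGr := Cfsg.Agent.S4216.result P
  rw [htop, inf_top_eq, hPT] at hGr
  have hle : (⁅T, T⁆ : Subgroup G) ≤ K := commutator_le.2 fun a ha b hb =>
    hcomm a b (hTM ha) (hTM hb) (hTimg a ha) (hTimg b hb)
  have hTK : T ≤ K := by
    rw [hGr]
    refine sup_le ?_ (iSup_le fun z => ?_)
    · refine inf_le_right.trans (commutator_le.2 fun a ha b hb => ?_)
      exact hcomm a b (hNT ha) (hNT hb) (hNimg a ha) (hNimg b hb)
    · intro x hx
      obtain ⟨hxT, hx'⟩ := Subgroup.mem_inf.1 hx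
      exact h.mem_centralizer_of_conj S hloc D (hTM hxT) (h.pow_r_of_mem_r_group hTr hxT)
        (hle (CfsgLib.Transfer.mem_map_conj_iff.1 hx'))
  exact hc'K (hTK hcT)

end Hyp

end CfsgLib.OneComposite
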