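import Cfsg.Agent.OneComposite.SECase
import Cfsg.Agent.FGS74.TwoR.Main

/-!
# Simple groups with involution centralisers of exponent `2r`

Such a group is `PSL(2, q)` with `q` odd.
-/

set_option autoImplicit false

namespace CfsgLib.OneComposite

universe u

/-- A nonabelian simple group in which the element orders divisible by `2` are `2` and `2r`, and
those divisible by the odd prime `r` are `r` and `2r`, is `PSL(2, q)` with `q` odd. -/
theorem Hyp.exists_equiv {G : Type u} [Group G] [Finite G] {r : ℕ} (h : Hyp G r) :
    ∃ (F : Type) (_ : Field F) (_ : Fintype F), Odd (Fintype.card F) ∧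
      Nonempty (G ≃* Matrix.ProjectiveSpecialLinearGroup (Fin 2) F) := by
  haveI : Fact (Nat.Prime 2) := ⟨Nat.prime_two⟩
  obtain ⟨S⟩ : Nonempty (Sylow 2 G) := inferInstance
  obtain ⟨k, hk⟩ := S.2.exists_card_eq
  have h4 := h.four_le S
  rw [hk] at h4
  rcases Nat.lt_or_ge k 3 with hk3 | hk3
  · have h4' : Nat.card (S : Subgroup G) = 4 := by
      rw [hk]
      rcases k with _ | _ | _ | k
      · norm_num at h4
      · norm_num at h4
      · rfl
      · omega
    rcases CfsgLib.FGS74.TwoR.localsIn_or_exists_equiv h S h4' with hloc | heq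
    · exact (h.false_of_localsIn S hloc).elim
    · exact heq
  · refine (h.false_of_localsIn S (h.localsIn_of_eight_le S ?_)).elim
    rw [hk]
    calc 8 = 2 ^ 3 := by norm_num
      _ ≤ 2 ^ k := Nat.pow_le_pow_right (by norm_num) hk3

end CfsgLib.OneComposite
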